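import Groth.Agent.EtFound.ClosedSupp

/-!
# Sheaves supported at closed points with separably closed residue fields are acyclic
-/

set_option linter.style.haveILetI false

universe u

open CategoryTheory CategoryTheory.Limits AlgebraicGeometry Opposite Abelian

namespace Groth.Agent.CurveCd.ClosedAcyclic

open Groth.Agent.EtFound Groth.Agent.EtFound.ClosedSupp

set_option backward.isDefEq.respectTransparency.types false

variable {X : Scheme.{u}}

/-- Sheaves supported in a finite set of closed points with separably closed residue fields are acyclic. -/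
theorem subsingleton_H_of_finite (hsep : ∀ x : X, IsClosed ({x} : Set X) → IsSepClosed (X.residueField x)) : ∀ (S : Finset X), (∀ x ∈ S, IsClosed ({x} : Set X)) →
    ∀ (F : EtCoh.Ab X), EtPBC.supp F ⊆ (S : Set X) → ∀ q, Subsingleton (EtCoh.H X F (q + 1)) := by
  classical
  intro S
  induction S using Finset.induction with
  | empty =>
    intro _ F hF q
    have h0 : IsZero F := (IsZero.iff_id_eq_zero _).2 (eq_of_stalks _ _ fun Ω _ _ ξ =>
      (isZero_stalk_of_not_mem ξ fun h => by simpa using hF h).eq_of_src _ _)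
    refine subsingleton_of_forall_eq 0 fun x => ?_
    rw [← Ext.comp_mk₀_id x, h0.eq_of_src (𝟙 F) 0, Ext.mk₀_zero, Ext.comp_zero]
  | insert x S hx ih =>
    intro hcl F hF q
    have hxc : IsClosed ({x} : Set X) := hcl x (Finset.mem_insert_self x S)
    haveI := AlgSpDec.isClosedImmersion_fromSpecResidueField hxc
    let i := X.fromSpecResidueField x
    haveI : IsClosedImmersion i := AlgSpDec.isClosedImmersion_fromSpecResidueField hxc
    haveI : IsSepClosed (X.residueField x) := hsep x hxc
    let U : X.Opens := ⟨{x}ᶜ, hxc.isOpen_compl⟩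
    haveI : EtShriek.JCont U.ι := EtFound.jCont U.ι
    have hU : Set.range U.ι.base = (Set.range i.base)ᶜ := by
      rw [Scheme.range_fromSpecResidueField]
      exact Scheme.Opens.range_ι U
    obtain ⟨w, hw⟩ := recollement_shortExact i U.ι hU F
    refine subsingleton_of_forall_eq 0 fun c => ?_
    have h3 := @EtFound.ClosedSupp.subsingleton_H_push (X.residueField x) _ ‹_› X i ‹_› q ((EtCoh.pull i).obj F)
    obtain ⟨d, rfl⟩ := Ext.covariant_sequence_exact₂ _ hw c (@Subsingleton.elim _ h3 _ _)
    have hsupp : EtPBC.supp ((EtShriek.extZero U.ι).obj ((EtShriek.restrAlong U.ι).obj F)) ⊆ (S : Set X) := by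
      intro y hy
      haveI : Mono ((EtShriek.extZeroAdj U.ι).counit.app F) := hw.mono_f
      rcases Finset.mem_insert.1 (Finset.mem_coe.1 (hF (supp_subset_of_mono'
        ((EtShriek.extZeroAdj U.ι).counit.app F) hy))) with h | h
      · obtain ⟨Ω, _, _, ξ, hξ, hne⟩ := hy
        exfalso
        refine hne (isZero_stalk_extZero U.ι ξ ?_ _)
        subst h
        rw [hU, Scheme.range_fromSpecResidueField, Set.mem_compl_iff, not_not]
        rw [← hξ]
        exact Set.mem_range_self _
      · exact h
    rw [@Subsingleton.elim _ (ih (fun z hz => hcl z (Finset.mem_insert_of_mem hz)) _ hsupp q) d 0, Ext.zero_comp]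

section colim

variable (F : EtCoh.Ab X)

/-- Sections of a sheaf supported at closed points live at finitely many points. -/
theorem exists_lift_section [IsLocallyNoetherian X]
    (hF : ∀ x ∈ EtPBC.supp F, IsClosed ({x} : Set X)) (V : X.Etale) [IsAffine V.left] (s : F.obj.obj (op V)) :
    ∃ (S : Idx X) (t : (sub F S).obj.obj (op V)), ((kernel.ι (eta F S)).hom.app (op V)).hom t = s := by
  classical
  haveI : Etale V.hom := V.prop
  haveI : IsNoetherian V.left := by
    haveI : IsLocallyNoetherian ((Functor.fromPUnit X).obj V.right) := ‹IsLocallyNoetherian X›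
    haveI : IsLocallyNoetherian V.left := LocallyOfFiniteType.isLocallyNoetherian V.hom
    exact ⟨⟩
  have hcl : ∀ v ∈ germSupp F V s, IsClosed ({V.hom.base v} : Set X) := by
    intro v hv
    obtain ⟨Ω, _, _, ξ, z, rfl⟩ := exists_algClosed_point V v
    refine hF _ ⟨Ω, inferInstance, inferInstance, ξ, ?_, fun h0 => ?_⟩
    · rw [range_point ξ]
      exact congrArg _ (hom_ptOf z).symm
    · exact (mem_germSupp_iff s z).1 hv (@Subsingleton.elim _ (AddCommGrpCat.subsingleton_of_isZero h0) _ _)
  have hfin : (germSupp F V s).Finite := by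
    have hd : ∀ v ∈ germSupp F V s, ∀ w, v ⤳ w → v = w := by
      intro v hv w hvw
      have hc := (hcl v hv).preimage V.hom.continuous
      have hw : w ∈ V.hom.base ⁻¹' {V.hom.base v} := hvw.mem_closed hc rfl
      have hdisc : _root_.IsDiscrete (V.hom.base ⁻¹' ({V.hom.base v} : Set X)) := V.hom.isDiscrete_preimage_singleton _
      rw [isDiscrete_iff_discreteTopology] at hdisc
      exact congrArg Subtype.val (((Topology.IsInducing.subtypeVal.specializes_iff).1 (show
        (⟨v, rfl⟩ : ↥(V.hom.base ⁻¹' ({V.hom.base v} : Set X))).1 ⤳ (⟨w, hw⟩ :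
          ↥(V.hom.base ⁻¹' ({V.hom.base v} : Set X))).1 from hvw)).eq)
    obtain ⟨T, hTf, hTc, hTi, hTu⟩ := TopologicalSpace.NoetherianSpace.exists_finite_set_isClosed_irreducible
      (isClosed_germSupp F V s)
    rw [hTu]
    refine Set.Finite.sUnion hTf fun Z hZ => ?_
    obtain ⟨η, hη⟩ := QuasiSober.sober (hTi Z hZ) (hTc Z hZ)
    refine (Set.finite_singleton η).subset fun w hw => ?_
    have hηm : η ∈ germSupp F V s := hTu ▸ Set.subset_sUnion_of_mem hZ hη.mem
    exact (hd η hηm w (hη.specializes hw)).symm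
  let S : Idx X := ⟨(hfin.image V.hom.base).toFinset.subtype fun x => IsClosed ({x} : Set X)⟩
  have hsub : ∀ v ∈ germSupp F V s, V.hom.base v ∈ pts S := fun v hv =>
    ⟨⟨V.hom.base v, hcl v hv⟩, Finset.mem_coe.2 (Finset.mem_subtype.2
      ((hfin.image V.hom.base).mem_toFinset.2 ⟨v, hv, rfl⟩)), rfl⟩
  let O : V.left.Opens := V.hom ⁻¹ᵁ compl S
  let W : X.Etale := Scheme.Etale.mk (O.ι ≫ V.hom)
  let g : W ⟶ V := MorphismProperty.Over.homMk O.ι rfl trivial
  have hsW : (F.obj.map g.op).hom s = 0 := by
    refine (((isSheaf_iff_isSheaf_of_type _ _).1 ((sheafCompose X.smallEtaleTopology (forget AddCommGrpCat.{u + 1})).obj F).property).isSeparated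
      _ (equalizerSieve_mem_of_germs F.obj W ((F.obj.map g.op).hom s) 0 fun Ω _ _ ξ z => ?_)).ext fun T h hh => hh
    rw [map_zero, (Scheme.pointSmallEtale ξ).toPresheafFiber_w_apply]
    by_contra hne
    have hp := hsub _ ((mem_germSupp_iff s _).2 hne)
    rw [ptOf_map] at hp
    exact (ptOf z : O.toScheme).2 hp
  haveI : IsIso ((EtCoh.bc (compl S).ι).map g) := by
    have sq := EtCoh.isPullback_bc_map (compl S).ι g
    haveI : IsIso ((EtCoh.bc (compl S).ι).map g).left := by
      have : IsOpenImmersion ((EtCoh.bc (compl S).ι).map g).left :=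
        MorphismProperty.of_isPullback sq.flip (inferInstanceAs (IsOpenImmersion O.ι))
      refine isIso_of_isOpenImmersion_of_opensRange_eq_top _ (TopologicalSpace.Opens.ext (Set.eq_univ_of_forall fun p => ?_))
      have hp : (pullback.fst V.hom (compl S).ι).base p ∈ O := by
        show V.hom.base ((pullback.fst V.hom (compl S).ι).base p) ∈ compl S
        rw [← Scheme.Hom.comp_apply, pullback.condition, Scheme.Hom.comp_apply]
        exact ((pullback.snd V.hom (compl S).ι).base p).2
      obtain ⟨q, hq, -⟩ := Scheme.Pullback.exists_preimage_pullback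
        (f := (pullback.fst V.hom (compl S).ι : ((EtCoh.bc (compl S).ι).obj V).left ⟶ V.left)) (g := g.left)
        p (⟨_, hp⟩ : O.toScheme) rfl
      refine ⟨sq.isoPullback.inv q, ?_⟩
      rw [← Scheme.Hom.comp_apply, IsPullback.isoPullback_inv_fst]
      exact hq
    haveI : IsIso ((Scheme.Etale.forget _ ⋙ CategoryTheory.Over.forget _).map ((EtCoh.bc (compl S).ι).map g)) := this
    exact isIso_of_reflects_iso ((EtCoh.bc (compl S).ι).map g) (Scheme.Etale.forget _ ⋙ CategoryTheory.Over.forget _)
  have hs0 : ((eta F S).hom.app (op V)).hom s = 0 := by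
    have hinj : Function.Injective (((EtCoh.push (compl S).ι).obj ((EtCoh.pull (compl S).ι).obj F)).obj.map g.op).hom :=
      ((ConcreteCategory.isIso_iff_bijective _).1 (inferInstanceAs (IsIso
        (((EtCoh.pull (compl S).ι).obj F).obj.map ((EtCoh.bc (compl S).ι).map g).op)))).1
    apply hinj
    rw [map_zero]
    exact (NatTrans.naturality_apply (eta F S).hom g.op s).symm.trans
      ((congrArg ((eta F S).hom.app (op W)).hom hsW).trans (map_zero _))
  have hker : (ShortComplex.mk (kernel.ι (eta F S)) (eta F S) (kernel.condition _)).Exact :=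
    ShortComplex.exact_of_f_is_kernel _ (kernelIsKernel _)
  obtain ⟨t, ht⟩ := (SiteBase.secExact_iff _ V).1 (hker.map_of_mono_of_preservesKernel
      (sheafToPresheaf X.smallEtaleTopology AddCommGrpCat.{u + 1} ⋙
        (evaluation X.Etaleᵒᵖ AddCommGrpCat.{u + 1}).obj (op V)) inferInstance inferInstance) s hs0
  exact ⟨S, t, ht⟩

/-- Sheaves supported at closed points with separably closed residue fields are acyclic. -/
theorem subsingleton_H [IsNoetherian X] (hsep : ∀ x : X, IsClosed ({x} : Set X) → IsSepClosed (X.residueField x))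
    (hF : ∀ x ∈ EtPBC.supp F, IsClosed ({x} : Set X)) (q : ℕ) : Subsingleton (EtCoh.H X F (q + 1)) := by
  classical
  haveI : IsDirected (Idx X) (· ≤ ·) := ⟨fun i j =>
    ⟨⟨i.down ∪ j.down⟩, ULift.down_le.1 Finset.subset_union_left, ULift.down_le.1 Finset.subset_union_right⟩⟩
  haveI : Nonempty (Idx X) := ⟨⟨∅⟩⟩
  haveI : IsFiltered (Idx X) := isFiltered_of_directed_le_nonempty _
  let d := colimit.desc (ClosedSupp.diag F) (ClosedSupp.cocone F)
  have hι : ∀ (S : Idx X) (V : X.Etale) z, (d.hom.app (op V)).hom ((colimit.ι (ClosedSupp.diag F) S).hom.app (op V) z) =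
      ((kernel.ι (eta F S)).hom.app (op V)).hom z := fun S V z =>
    congrArg (fun t : (ClosedSupp.diag F).obj S ⟶ F => (t.hom.app (op V)).hom z) (colimit.ι_desc (ClosedSupp.cocone F) S)
  haveI : Sheaf.IsLocallyInjective d := ⟨fun {W} s t e => by
    refine (mem_topology_iff _).2 fun x => ?_
    obtain ⟨O, hO, hx, -⟩ := exists_isAffineOpen_mem_and_subset (U := (⊤ : W.unop.left.Opens)) (x := x) trivial
    haveI : Etale W.unop.hom := W.unop.prop
    let V : X.Etale := Scheme.Etale.mk (O.ι ≫ W.unop.hom)
    let g : V ⟶ W.unop := MorphismProperty.Over.homMk O.ι rfl trivial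
    haveI : IsAffine V.left := hO
    haveI := preservesColimitsOfShape_sections_qcqs_ab V (isQcqsObj_of_isAffine V) (Idx X)
    let hc := isColimitOfPreserves (sheafToPresheaf X.smallEtaleTopology AddCommGrpCat.{u + 1} ⋙
      (evaluation X.Etaleᵒᵖ AddCommGrpCat.{u + 1}).obj (op V)) (colimit.isColimit (ClosedSupp.diag F))
    refine ⟨V, g, (⟨x, hx⟩ : O.toScheme), ?_, rfl⟩
    obtain ⟨j, b, hb⟩ := Concrete.isColimit_exists_rep _ hc
      (((colimit (ClosedSupp.diag F)).obj.map g.op).hom s - ((colimit (ClosedSupp.diag F)).obj.map g.op).hom t)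
    show ((colimit (ClosedSupp.diag F)).obj.map g.op).hom s = ((colimit (ClosedSupp.diag F)).obj.map g.op).hom t
    rw [← sub_eq_zero, ← hb]
    have hd : (d.hom.app (op V)).hom ((colimit (ClosedSupp.diag F)).obj.map g.op |>.hom s) =
        (d.hom.app (op V)).hom ((colimit (ClosedSupp.diag F)).obj.map g.op |>.hom t) :=
      (NatTrans.naturality_apply d.hom g.op s).trans
        ((congrArg (F.obj.map g.op).hom e).trans (NatTrans.naturality_apply d.hom g.op t).symm)
    have hb0 : ((kernel.ι (eta F j)).hom.app (op V)).hom b = 0 := by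
      rw [← hι]
      refine (congrArg (d.hom.app (op V)).hom hb).trans ?_
      exact (map_sub _ _ _).trans (sub_eq_zero.2 hd)
    have : b = 0 := SiteBase.sheaf_app_injective (kernel.ι (eta F j)) V (hb0.trans (map_zero _).symm)
    show (colimit.ι (ClosedSupp.diag F) j).hom.app (op V) b = 0
    rw [this]
    exact map_zero _⟩
  haveI : Sheaf.IsLocallySurjective d := ⟨fun {W} s => by
    refine (mem_topology_iff _).2 fun x => ?_
    obtain ⟨O, hO, hx, -⟩ := exists_isAffineOpen_mem_and_subset (U := (⊤ : W.left.Opens)) (x := x) trivial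
    haveI : Etale W.hom := W.prop
    let V : X.Etale := Scheme.Etale.mk (O.ι ≫ W.hom)
    let g : V ⟶ W := MorphismProperty.Over.homMk O.ι rfl trivial
    haveI : IsAffine V.left := hO
    obtain ⟨S, t, ht⟩ := exists_lift_section F hF V ((F.obj.map g.op).hom s)
    exact ⟨V, g, (⟨x, hx⟩ : O.toScheme), ⟨(colimit.ι (ClosedSupp.diag F) S).hom.app (op V) t, (hι S V t).trans ht⟩, rfl⟩⟩
  haveI : IsIso d := (Sheaf.isLocallyBijective_iff_isIso d).1 ⟨inferInstance, inferInstance⟩
  haveI := EtLC12.QcqsAcyclic.preservesColimitsOfShape_HF X (q + 1) (Idx X)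
  refine ConstAcyclic.subsingleton_H_iso (asIso d) ?_
  let hc := isColimitOfPreserves (EtCoh.HF X (q + 1)) (colimit.isColimit (ClosedSupp.diag F))
  refine subsingleton_of_forall_eq 0 fun c => ?_
  obtain ⟨S, b, rfl⟩ := Concrete.isColimit_exists_rep _ hc c
  haveI : Subsingleton (EtCoh.H X (sub F S) (q + 1)) := by
    refine subsingleton_H_of_finite hsep (S.down.map ⟨Subtype.val, Subtype.val_injective⟩) (fun x hx => ?_) _
      ((supp_sub F S).trans (by rw [Finset.coe_map]; rfl)) q
    obtain ⟨y, -, rfl⟩ := Finset.mem_map.1 hx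
    exact y.2
  rw [show b = 0 from @Subsingleton.elim (EtCoh.H X (sub F S) (q + 1)) _ b 0, map_zero]
  rfl

end colim

end Groth.Agent.CurveCd.ClosedAcyclic
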