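import Groth.Agent.CurveCd.CurveGm
import Groth.Agent.FieldCd.DimOne
import Groth.Agent.FieldCd.Trdeg

/-!
# Torsion sheaves on curves over separably closed fields have no cohomology above degree two
-/

set_option autoImplicit false
set_option linter.style.haveILetI false
set_option backward.isDefEq.respectTransparency false
set_option backward.isDefEq.respectTransparency.types false

universe u

open CategoryTheory CategoryTheory.Limits AlgebraicGeometry Opposite

noncomputable section

namespace Groth.Agent.CurveCd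

/-- A torsion sheaf is acyclic in degree `q` when its subsheaves killed by prime powers are. -/
theorem subsingleton_H_of_torsion_sub {X : Scheme.{u}} [CompactSpace X] [QuasiSeparatedSpace X] (q : ℕ)
    (F : EtCoh.Ab X) (hF : EtCoh.IsTorsion F)
    (h : ∀ ℓ : ℕ, ℓ.Prime → ∀ (G : EtCoh.Ab X) (a : ℕ) (g : G ⟶ F) [Mono g], ℓ ^ a • 𝟙 G = 0 →
      Subsingleton (EtCoh.H X G q)) : Subsingleton (EtCoh.H X F q) := by
  haveI := EtLC12.QcqsAcyclic.preservesColimitsOfShape_HF X q (EtFound.TorsionInd.J F)
  let hc := isColimitOfPreserves (EtCoh.HF X q) (EtFound.TorsionInd.isColimit F hF)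
  refine subsingleton_of_forall_eq 0 fun x => ?_
  obtain ⟨j, a, rfl⟩ := Concrete.isColimit_exists_rep _ hc x
  let C := (EtFound.TorsionInd.D F).obj j
  set ι : C ⟶ F := (EtFound.TorsionInd.cocone F).ι.app j
  obtain ⟨n, hn, hC⟩ := EtFound.exists_killedBy X (EtFound.TorsionInd.isConstructible_D F j)
  have key : ∀ (m : ℕ), 0 < m → ∀ φ : C ⟶ F, m • φ = 0 → (EtCoh.HF X q).map φ a = 0 := by
    intro m
    induction m using Nat.strong_induction_on with
    | _ m ih =>
      intro hm φ hφ
      rcases eq_or_ne m 1 with rfl | hm1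
      · rw [one_smul] at hφ
        rw [hφ, Functor.map_zero]
        rfl
      obtain ⟨ℓ, hℓ, hdvd⟩ := Nat.exists_prime_and_dvd hm1
      obtain ⟨e, r, hr, rfl⟩ := Nat.exists_eq_pow_mul_and_not_dvd hm.ne' ℓ hℓ.ne_one
      -- the `ℓ`-primary part
      obtain ⟨s, t, hst⟩ : ∃ s t : ℤ, s * (ℓ ^ e : ℕ) + t * (r : ℕ) = 1 :=
        Nat.Coprime.isCoprime (((hℓ.coprime_iff_not_dvd.2 hr).pow_left e))
      have h1 : ∀ ψ : C ⟶ F, ℓ ^ e • ψ = 0 → (EtCoh.HF X q).map ψ a = 0 := by
        intro ψ hψ
        have hk : ℓ ^ e • 𝟙 (Abelian.coimage ψ) = 0 := by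
          rw [← cancel_epi (Abelian.coimage.π ψ), comp_zero, Preadditive.comp_nsmul, Category.comp_id,
            ← cancel_mono (Abelian.factorThruCoimage ψ), zero_comp, Preadditive.nsmul_comp, Abelian.coimage.fac, hψ]
        haveI : Subsingleton ((EtCoh.HF X q).obj (Abelian.coimage ψ)) :=
          h ℓ hℓ _ e (Abelian.factorThruCoimage ψ) hk
        rw [← Abelian.coimage.fac ψ, Functor.map_comp]
        refine (ConcreteCategory.comp_apply _ _ _).trans ?_
        rw [Subsingleton.elim ((EtCoh.HF X q).map (Abelian.coimage.π ψ) a) 0, map_zero]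
      have hr0 : 0 < r := Nat.pos_of_ne_zero fun h0 => hr (h0 ▸ dvd_zero ℓ)
      rcases Nat.eq_zero_or_pos e with rfl | he
      · exact absurd (by simpa using hdvd) hr
      have hlt : r < ℓ ^ e * r := lt_mul_of_one_lt_left hr0 (Nat.one_lt_pow he.ne' hℓ.one_lt)
      have h2 : (EtCoh.HF X q).map ((ℓ ^ e) • φ) a = 0 :=
        ih r hlt hr0 _ (by rw [smul_smul, mul_comm, hφ])
      have h3 : (EtCoh.HF X q).map (r • φ) a = 0 := h1 _ (by rw [smul_smul, hφ])
      have h4 : φ = s • ((ℓ ^ e) • φ) + t • (r • φ) := by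
        rw [← natCast_zsmul φ, ← natCast_zsmul φ r, smul_smul, smul_smul, ← add_smul, hst, one_smul]
      rw [h4, Functor.map_add, Functor.map_zsmul, Functor.map_zsmul]
      show s • (EtCoh.HF X q).map ((ℓ ^ e) • φ) a + t • (EtCoh.HF X q).map (r • φ) a = 0
      rw [h2, h3, smul_zero, smul_zero, add_zero]
  exact key n hn ι (by rw [← Category.id_comp ι, ← Preadditive.nsmul_comp, hC, zero_comp])

/-- An algebraic extension of a separably closed field is separably closed. -/
theorem isSepClosed_of_isAlgebraic' (k L : Type u) [Field k] [IsSepClosed k] [Field L] [Algebra k L]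
    [Algebra.IsAlgebraic k L] : IsSepClosed L := by
  haveI : Algebra.IsAlgebraic k (AlgebraicClosure L) := Algebra.IsAlgebraic.trans k L _
  haveI : IsPurelyInseparable k (AlgebraicClosure L) := separableClosure.eq_bot_iff.1
    (IntermediateField.eq_bot_of_isSepClosed_of_isSeparable _)
  haveI : IsPurelyInseparable L (AlgebraicClosure L) := IsPurelyInseparable.tower_top k L _
  exact (IsSepClosed.separableClosure_eq_bot_iff L (AlgebraicClosure L)).1 (separableClosure.eq_bot_of_isPurelyInseparable L _)

theorem isSepClosed_residueField_of_isClosed (k : Type u) [Field k] [IsSepClosed k] {X : Scheme.{u}}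
    (f : X ⟶ Spec (CommRingCat.of k)) [LocallyOfFiniteType f] {x : X} (hx : IsClosed ({x} : Set X)) :
    IsSepClosed (X.residueField x) := by
  haveI : IsClosedImmersion (X.fromSpecResidueField x) :=
    IsClosedImmersion.of_isPreimmersion _ (by rw [Scheme.range_fromSpecResidueField]; exact hx)
  let g : Spec (X.residueField x) ⟶ Spec (CommRingCat.of k) := X.fromSpecResidueField x ≫ f
  haveI : LocallyOfFiniteType g := inferInstanceAs (LocallyOfFiniteType (X.fromSpecResidueField x ≫ f))
  let φ := Spec.preimage g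
  haveI : LocallyOfFiniteType (Spec.map φ) := by rw [Spec.map_preimage]; infer_instance
  have hft : φ.hom.FiniteType := (HasRingHomProperty.Spec_iff (P := @LocallyOfFiniteType)).1 inferInstance
  algebraize [φ.hom]
  haveI : Algebra.FiniteType k (X.residueField x) := hft
  haveI : FiniteDimensional k (X.residueField x) := finite_of_finite_type_of_isJacobsonRing k _
  exact isSepClosed_of_isAlgebraic' k (X.residueField x)

theorem cohDimLEAt_residueField_one (k : Type u) [Field k] [IsSepClosed k] {X : Scheme.{u}}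
    (f : X ⟶ Spec (CommRingCat.of k)) [LocallyOfFiniteType f] (hdim : topologicalKrullDim X ≤ 1)
    {ℓ : ℕ} (hℓ : ℓ.Prime) (x : X) : Dix.CohDimLEAt (Spec (X.residueField x)) ℓ 1 := by
  letI := (VarDim.resHom f x).toAlgebra
  have hdeg : VarDim.deg f x ≤ 1 := by
    have h := (le_iSup (fun y : X => ((VarDim.deg f y : ℕ∞) : WithBot ℕ∞)) x).trans
      ((VarDim.topologicalKrullDim_eq_iSup_deg f).symm.le.trans hdim)
    exact_mod_cast h
  have htr : Algebra.trdeg k (X.residueField x) ≤ (1 : ℕ) := by
    rw [show Algebra.trdeg k (X.residueField x) = (VarDim.deg f x : ℕ) from (VarDim.deg_eq_tdeg f x).symm]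
    exact_mod_cast hdeg
  haveI : IsSepClosed (IsLocalRing.ResidueField k) := EtCdFun.isSepClosed_of_equiv
    (RingEquiv.ofBijective (IsLocalRing.residue k) ⟨RingHom.injective _, Ideal.Quotient.mk_surjective⟩)
  exact FieldCd.cohDimLEAt_of_vanAbove hℓ (FieldCd.vd_of_trdeg hℓ 1 k (X.residueField x) 0 htr
    (FieldCd.vanAbove_of_cohDimLEAt (EtCdFun.cohDimLEAt_zero_of_sepClosed k ℓ)))

/-- Torsion sheaves on a curve over a separably closed field have no cohomology above degree two. -/
theorem cohDimLE_two (k : Type u) [Field k] [IsSepClosed k] (X : Scheme.{u})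
    (f : X ⟶ Spec (CommRingCat.of k)) [LocallyOfFiniteType f] [QuasiCompact f]
    (hdim : topologicalKrullDim X ≤ 1) : EtCoh.CohDimLE X 2 := by
  haveI : IsLocallyNoetherian X := LocallyOfFiniteType.isLocallyNoetherian f
  haveI : CompactSpace X := QuasiCompact.compactSpace_of_compactSpace f
  haveI : IsNoetherian X := {}
  intro F hF q hq
  refine subsingleton_H_of_torsion q (fun ℓ hℓ G hG => ?_) F hF
  exact FieldCd.cd_dim_one hdim hℓ (fun x _ => cohDimLEAt_residueField_one k f hdim hℓ x)
    (fun x hx => isSepClosed_residueField_of_isClosed k f hx) G hG q hq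

/-- Torsion sheaves on a curve which vanish at the generic points are acyclic. -/
theorem subsingleton_H_of_generic_zero (k : Type u) [Field k] [IsSepClosed k] (X : Scheme.{u})
    (f : X ⟶ Spec (CommRingCat.of k)) [LocallyOfFiniteType f] [QuasiCompact f] (hdim : topologicalKrullDim X ≤ 1)
    (F : EtCoh.Ab X) (hF : EtCoh.IsTorsion F)
    (hgen : ∀ x ∈ EtPBC.supp F, IsClosed ({x} : Set X)) (q : ℕ) (hq : 0 < q) : Subsingleton (EtCoh.H X F q) := by
  classical
  haveI : IsLocallyNoetherian X := LocallyOfFiniteType.isLocallyNoetherian f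
  haveI : CompactSpace X := QuasiCompact.compactSpace_of_compactSpace f
  haveI : IsNoetherian X := {}
  refine subsingleton_H_of_torsion_sub q F hF fun ℓ hℓ G a g _ hG => ?_
  have hsub : ∀ x ∈ EtPBC.supp G, IsClosed ({x} : Set X) := fun x hx => by
    obtain ⟨Ω, _, _, ξ, hr, hz⟩ := hx
    exact hgen x ⟨Ω, _, _, ξ, hr, fun h0 => hz (EtCdp5.isZero_of_mono_stalk g ξ h0)⟩
  let φ : X → ℕ := fun x => if IsClosed ({x} : Set X) then 0 else 2
  refine EtCdFun.main ℓ hℓ φ (fun x => ?_) ?_ q G (GalCd5.isLTorsion_of_killed ℓ a hG) (fun x hx => ?_) q (fun x hx => ?_)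
  · by_cases hx : IsClosed ({x} : Set X)
    · rw [show φ x = 0 from if_pos hx]
      haveI := isSepClosed_residueField_of_isClosed k f hx
      haveI : IsSepClosed (IsLocalRing.ResidueField (X.residueField x)) := EtCdFun.isSepClosed_of_equiv
        (RingEquiv.ofBijective (IsLocalRing.residue (X.residueField x)) ⟨RingHom.injective _, IsLocalRing.residue_surjective⟩)
      exact EtCdFun.cohDimLEAt_zero_of_sepClosed (X.residueField x) ℓ
    · rw [show φ x = 2 from if_neg hx]
      exact fun G hG q hq => cohDimLEAt_residueField_one k f hdim hℓ x G hG q (by omega)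
  · intro x y hxy hne R _ _ _ _ _ P hP
    obtain ⟨hy, -⟩ := FieldCd.isClosed_of_specializes_of_dim_le_one hdim hxy hne
    have hxc : ¬ IsClosed ({x} : Set X) := fun h => hne ((hxy.mem_closed h rfl).symm)
    refine ⟨1, by simp [φ, hy, hxc], ?_⟩
    haveI : P.IsPrime := hP.1.1
    exact FieldCd.cohDimLEAt_of_vanAbove hℓ
      (FieldCd.vd_frac hxy R P hP (FieldCd.vanAbove_of_cohDimLEAt (cohDimLEAt_residueField_one k f hdim hℓ x)))
  all_goals
    rw [show φ x = 0 from if_pos (hsub x hx)]
    exact hq

end Groth.Agent.CurveCd
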