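import Groth.Agent.CurveCd.PushAcyclic
import Groth.Agent.GmDiv.DimOne
import Groth.Agent.AcycFin.GeomFibres
import Groth.Agent.GalCd5.Basic
import Groth.Agent.EtLC12.QcqsAcyclic
import Groth.Agent.VarDim.Top

/-!
# Cohomology of the multiplicative group on reduced curves over algebraically closed fields
-/

set_option autoImplicit false
set_option linter.style.haveILetI false
set_option linter.unusedSectionVars false
set_option backward.isDefEq.respectTransparency false
set_option backward.isDefEq.respectTransparency.types false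
set_option synthInstance.maxHeartbeats 200000

universe u

open CategoryTheory CategoryTheory.Limits AlgebraicGeometry Opposite Abelian

noncomputable section

namespace Groth.Agent.CurveCd

open Groth.Agent.GmDiv

attribute [local instance] Abelian.hasFiniteBiproducts EtFound.pull_preservesFiniteLimits

theorem subsingleton_H_biproduct {X : Scheme.{u}} {ι : Type u} [Fintype ι] (g : ι → EtCoh.Ab X) (q : ℕ)
    (h : ∀ i, Subsingleton (EtCoh.H X (g i) q)) : Subsingleton (EtCoh.H X (⨁ g) q) := by
  classical
  refine subsingleton_of_forall_eq 0 fun x => ?_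
  have ht : (∑ i, biproduct.π g i ≫ biproduct.ι g i) = 𝟙 (⨁ g) := by
    refine biproduct.hom_ext _ _ fun k => ?_
    simp [Preadditive.sum_comp, biproduct.ι_π, comp_dite]
  let Φ : ((⨁ g) ⟶ ⨁ g) →+ EtCoh.H X (⨁ g) q := AddMonoidHom.mk'
    (fun r => x.comp (Ext.mk₀ r) (add_zero q)) (fun a b => by rw [Ext.mk₀_add, Ext.comp_add])
  have hx : x = ∑ i, Φ (biproduct.π g i ≫ biproduct.ι g i) := by
    rw [← map_sum, ht]
    exact (Ext.comp_mk₀_id x).symm
  refine hx.trans (Finset.sum_eq_zero fun i _ => ?_)
  show x.comp (Ext.mk₀ (biproduct.π g i ≫ biproduct.ι g i)) (add_zero q) = 0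
  rw [← Ext.mk₀_comp_mk₀, ← Ext.comp_assoc_of_second_deg_zero,
    (h i).elim (x.comp (Ext.mk₀ (biproduct.π g i)) (add_zero q)) 0, Ext.zero_comp]

theorem subsingleton_H_of_colimit {X : Scheme.{u}} [CompactSpace X] [QuasiSeparatedSpace X] {I : Type (u + 1)}
    [SmallCategory I] [IsFiltered I] (D : I ⥤ EtCoh.Ab X) (c : Cocone D) [IsIso (colimit.desc D c)] (q : ℕ)
    (h : ∀ i, Subsingleton (EtCoh.H X (D.obj i) q)) : Subsingleton (EtCoh.H X c.pt q) := by
  haveI := EtLC12.QcqsAcyclic.preservesColimitsOfShape_HF X q I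
  refine GalCd5.subsingleton_H_of_iso (asIso (colimit.desc D c)) q (subsingleton_of_forall_eq 0 fun x => ?_)
  let hc := isColimitOfPreserves (EtCoh.HF X q) (colimit.isColimit D)
  obtain ⟨i, a, rfl⟩ := Concrete.isColimit_exists_rep _ hc x
  exact (congrArg ((EtCoh.HF X q).map (colimit.ι D i)) ((h i).elim a 0)).trans (map_zero _)

/-- Vanishing above degree one of the cohomology of the multiplicative group of a reduced scheme of
dimension at most one with acyclic generic points and separably closed closed residue fields. -/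
theorem subsingleton_H_Gm_of_dim (X : Scheme.{u}) [IsNoetherian X] [IsReduced X] (hdim : topologicalKrullDim X ≤ 1)
    (hgen : ∀ η : Gen X, CompactAcyclic (EtCoh.Gm (Spec (CommRingCat.of (X.residueField η.1)))))
    (hcl : ∀ x : H1 X, IsSepClosed (X.residueField x.1)) (q : ℕ) (hq : 2 ≤ q) :
    Subsingleton (EtCoh.H X (EtCoh.Gm X) q) := by
  classical
  haveI : ∀ η : Gen X, IsDomain (X.presheaf.stalk η.1) := fun η => isDomain_stalk_of_maximal η.2
  haveI := finite_gen X
  haveI := Fintype.ofFinite (Gen X)
  haveI := mono_gmToJ_of_reduced (X := X)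
  obtain ⟨p, rfl⟩ : ∃ p, q = p + 1 + 1 := ⟨q - 2, by omega⟩
  let S : ShortComplex (EtCoh.Ab X) := ShortComplex.mk (gmToJ (X := X)) toD (cokernel.condition _)
  have hS : S.ShortExact :=
    { exact := ShortComplex.exact_of_g_is_cokernel S (cokernelIsCokernel _)
      mono_f := ‹Mono gmToJ›
      epi_g := inferInstanceAs (Epi toD) }
  have hJ : Subsingleton (EtCoh.H X (J (X := X)) (p + 1 + 1)) := subsingleton_H_biproduct _ _ fun η => by
    haveI : QuasiCompact (ptI η.1) := inferInstance
    haveI : QuasiSeparated (ptI η.1) := inferInstance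
    exact subsingleton_H_push_of_compactAcyclic (ptI η.1) (p + 1) _ (hgen η)
  have hP : ∀ F : Finset (H1 X), Subsingleton (EtCoh.H X (GmDiv.Pts (X := X) F) (p + 1)) := fun F =>
    subsingleton_H_biproduct (ptsFam F) _ fun x => by
      haveI := isClosedImmersion_ptI hdim x.1
      haveI := hcl x.1
      exact (GalCd5.subsingleton_H_push_iff (ptI x.1.1) _ (p + 1)).2
        (AcycFin.subsingleton_H_sepClosed _ _ _ (Nat.le_add_left 1 p))
  haveI := isIso_suppDesc_of_dim (X := X) hdim
  have hD : Subsingleton (EtCoh.H X (suppCocone (X := X)).pt (p + 1)) :=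
    subsingleton_H_of_colimit (suppFunctor (X := X)) suppCocone (p + 1) fun F => by
      haveI := isIso_toPts_of_dim (X := X) hdim F.down
      exact GalCd5.subsingleton_H_of_iso (asIso (toPts F.down)).symm _ (hP F.down)
  refine subsingleton_of_forall_eq 0 fun x => ?_
  obtain ⟨z, rfl⟩ := Ext.covariant_sequence_exact₁ _ hS x (hJ.elim _ _) (rfl : p + 1 + 1 = p + 1 + 1)
  rw [show z = 0 from hD.elim (z : EtCoh.H X (suppCocone (X := X)).pt (p + 1)) 0, Ext.zero_comp]

/-- Vanishing above degree one of the cohomology of the multiplicative group of a reduced curve over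
an algebraically closed field. -/
theorem subsingleton_H_Gm_curve (k : Type u) [Field k] [IsAlgClosed k] (X : Scheme.{u})
    (f : X ⟶ Spec (CommRingCat.of k)) [LocallyOfFiniteType f] [QuasiCompact f] [IsReduced X]
    (hdim : topologicalKrullDim X ≤ 1) (q : ℕ) (hq : 2 ≤ q) :
    Subsingleton (EtCoh.H X (EtCoh.Gm X) q) := by
  haveI : IsLocallyNoetherian X := LocallyOfFiniteType.isLocallyNoetherian f
  haveI : CompactSpace X := QuasiCompact.compactSpace_of_compactSpace f
  haveI : IsNoetherian X := {}
  have hdeg : ∀ x : X, VarDim.deg f x ≤ 1 := fun x => by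
    have h := (le_iSup (fun y : X => ((VarDim.deg f y : ℕ∞) : WithBot ℕ∞)) x).trans
      ((VarDim.topologicalKrullDim_eq_iSup_deg f).symm.le.trans hdim)
    exact_mod_cast h
  refine subsingleton_H_Gm_of_dim X hdim (fun η => compactAcyclic_Gm fun E L _ _ _ _ _ _ _ _ _ _ => ?_)
    (fun x => ?_) q hq
  · letI := (VarDim.resHom f η.1).toAlgebra
    have hK : Algebra.trdeg k (X.residueField η.1) = (VarDim.deg f η.1 : ℕ) := (VarDim.deg_eq_tdeg f η.1).symm
    refine GalCohMisc.norm_surjective_of_isCr (TsenLib.isCr_one_of_finite (K := X.residueField η.1) ?_)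
    exact TsenLib.isCr_one_of_isCi (TsenLib.isCi_mono (hdeg η.1) (TsenLib.tsen_lang (k := k) hK))
  · have hc : IsClosed ({x.1} : Set X) := isClosed_singleton_of_dim hdim x.2.1
    let g : Spec (CommRingCat.of (X.residueField x.1)) ⟶ Spec (CommRingCat.of k) := X.fromSpecResidueField x.1 ≫ f
    haveI := isClosedImmersion_ptI hdim x
    haveI : LocallyOfFiniteType g := MorphismProperty.comp_mem _ _ _ (inferInstanceAs (LocallyOfFiniteType (ptI x.1))) ‹_›
    let φ := Spec.preimage g
    haveI : LocallyOfFiniteType (Spec.map φ) := by rw [Spec.map_preimage]; infer_instance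
    have hft : φ.hom.FiniteType := (HasRingHomProperty.Spec_iff (P := @LocallyOfFiniteType)).1 inferInstance
    algebraize [φ.hom]
    haveI : Algebra.FiniteType k (X.residueField x.1) := hft
    haveI : FiniteDimensional k (X.residueField x.1) := finite_of_finite_type_of_isJacobsonRing k _
    exact AcycFin.isSepClosed_of_equiv (RingEquiv.ofBijective (algebraMap k (X.residueField x.1))
      (IsAlgClosed.algebraMap_bijective_of_isIntegral (k := k) (K := X.residueField x.1)))

end Groth.Agent.CurveCd
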