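import Groth.Agent.CurveCd.Tower
import Groth.Prelude.Def_EtGm
import Groth.Agent.GalCohMisc.NormOne
import Mathlib.RingTheory.Norm.Basic

/-!
# The multiplicative group on spectra of fields
-/

set_option autoImplicit false
set_option linter.style.haveILetI false
set_option linter.unusedSectionVars false
set_option backward.isDefEq.respectTransparency false
set_option backward.isDefEq.respectTransparency.types false

universe u

open CategoryTheory CategoryTheory.Limits AlgebraicGeometry Opposite

noncomputable section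

namespace Groth.Agent.CurveCd

variable {X : Scheme.{u}}

/-- The unit of the field attached to a section of the multiplicative group. -/
def val {E : Type u} [Field E] {e : Spec (CommRingCat.of E) ⟶ X} [Etale e] (φ : free (pt e) ⟶ EtCoh.Gm X) : Eˣ :=
  Units.map (Scheme.ΓSpecIso (CommRingCat.of E)).hom.hom.toMonoidHom
    (Additive.toMul (sec φ : ULift.{u + 1} (Additive Γ(Spec (CommRingCat.of E), ⊤)ˣ)).down)

theorem val_surjective {E : Type u} [Field E] (e : Spec (CommRingCat.of E) ⟶ X) [Etale e] (a : Eˣ) :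
    ∃ φ : free (pt e) ⟶ EtCoh.Gm X, val φ = a := by
  refine ⟨lift (⟨Additive.ofMul (Units.map (Scheme.ΓSpecIso (CommRingCat.of E)).inv.hom.toMonoidHom a)⟩ :
    ULift.{u + 1} (Additive Γ(Spec (CommRingCat.of E), ⊤)ˣ)), Units.ext ?_⟩
  rw [val, sec_lift]
  exact Iso.inv_hom_id_apply (Scheme.ΓSpecIso (CommRingCat.of E)) _

theorem val_injective {E : Type u} [Field E] {e : Spec (CommRingCat.of E) ⟶ X} [Etale e] :
    Function.Injective (val (e := e)) := fun a b h => by
  refine sec_injective (ULift.ext _ _ (Additive.toMul.injective (Units.map_injective ?_ h)))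
  exact (Scheme.ΓSpecIso (CommRingCat.of E)).commRingCatIsoToRingEquiv.injective

theorem val_zero {E : Type u} [Field E] (e : Spec (CommRingCat.of E) ⟶ X) [Etale e] :
    val (0 : free (pt e) ⟶ EtCoh.Gm X) = 1 := by
  rw [val, map_zero]
  exact map_one _

theorem val_add {E : Type u} [Field E] {e : Spec (CommRingCat.of E) ⟶ X} [Etale e]
    (a b : free (pt e) ⟶ EtCoh.Gm X) : val (a + b) = val a * val b := by
  rw [val, map_add]
  exact map_mul _ _ _

theorem val_sum {E : Type u} [Field E] {e : Spec (CommRingCat.of E) ⟶ X} [Etale e] {ι : Type*} (s : Finset ι)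
    (f : ι → (free (pt e) ⟶ EtCoh.Gm X)) : val (∑ i ∈ s, f i) = ∏ i ∈ s, val (f i) := by
  classical
  induction s using Finset.induction_on with
  | empty => rw [Finset.sum_empty, Finset.prod_empty, val_zero]
  | insert a s ha ih => rw [Finset.sum_insert ha, Finset.prod_insert ha, val_add, ih]

theorem val_fmap {E F : Type u} [Field E] [Field F] (φ : E →+* F) {e : Spec (CommRingCat.of E) ⟶ X} [Etale e]
    {e' : Spec (CommRingCat.of F) ⟶ X} [Etale e'] (h : Spec.map (CommRingCat.ofHom φ) ≫ e = e')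
    (f : free (pt e) ⟶ EtCoh.Gm X) : val (fmap (ptMap φ h) ≫ f) = Units.map φ.toMonoidHom (val f) := by
  refine Units.ext ?_
  rw [val, sec_fmap_comp]
  exact ConcreteCategory.congr_hom (Scheme.ΓSpecIso_naturality (CommRingCat.ofHom φ)) _

section

variable {E L : Type u} [Field E] [Field L] [Algebra E L] [FiniteDimensional E L]
  (e : Spec (CommRingCat.of E) ⟶ X) [Etale e] [Etale (extHom e L)] (σ : Gal(L/E))

theorem val_powMor (i : ℕ) (f : free (pt (extHom e L)) ⟶ EtCoh.Gm X) :
    (val (powMor (autMap e σ) i ≫ f) : L) = (σ ^ i) (val f : L) := by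
  induction i generalizing f with
  | zero => rw [powMor, Category.id_comp, pow_zero]; rfl
  | succ i hi =>
    rw [powMor, Category.assoc, autMap, val_fmap, pow_succ', AlgEquiv.mul_apply, ← hi]
    rfl

variable [IsGalois E L]

theorem val_sumPow (hσ : ∀ t, t ∈ Subgroup.zpowers σ) (f : free (pt (extHom e L)) ⟶ EtCoh.Gm X) :
    (val (sumPow (autMap e σ) (orderOf σ) ≫ f) : L) = algebraMap E L (Algebra.norm E (val f : L)) := by
  classical
  rw [sumPow, Preadditive.sum_comp, val_sum, Units.coe_prod, Algebra.norm_eq_prod_automorphisms]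
  refine Finset.prod_bij (fun i _ => σ ^ i) (fun _ _ => Finset.mem_univ _) (fun a ha b hb h => ?_)
    (fun t _ => ?_) (fun i _ => val_powMor e σ i f)
  · exact pow_injOn_Iio_orderOf (Finset.mem_range.1 ha) (Finset.mem_range.1 hb) h
  · obtain ⟨n, hn⟩ := (isOfFinOrder_of_finite σ).mem_powers_iff_mem_zpowers.2 (hσ t)
    exact ⟨n % orderOf σ, Finset.mem_range.2 (Nat.mod_lt _ (orderOf_pos σ)), by
      rw [pow_mod_orderOf]; exact hn⟩

theorem h90_Gm (hσ : ∀ t, t ∈ Subgroup.zpowers σ) : H90 (autMap e σ) (orderOf σ) (EtCoh.Gm X) := by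
  intro φ hφ
  have hv : Algebra.norm E (val φ : L) = 1 := by
    have h := val_sumPow e σ hσ φ
    rw [hφ, val_zero, Units.val_one] at h
    exact (algebraMap E L).injective (h.symm.trans (map_one _).symm)
  haveI : IsCyclic Gal(L/E) := ⟨σ, hσ⟩
  obtain ⟨y, hy⟩ := GalCohMisc.exists_div_of_norm_eq_one hσ hv
  obtain ⟨ψ, hψ⟩ := val_surjective (extHom e L) y
  refine ⟨-ψ, val_injective (Units.ext ?_)⟩
  have h1 : val ψ * val (-ψ) = 1 := by rw [← val_add, add_neg_cancel, val_zero]
  have h2 : (fmap (autMap e σ) - 𝟙 _) ≫ (-ψ) = fmap (autMap e σ) ≫ (-ψ) + ψ := by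
    rw [Preadditive.sub_comp, Category.id_comp, sub_neg_eq_add]
  rw [h2, val_add, autMap, val_fmap, eq_inv_of_mul_eq_one_right h1, Units.val_mul, ← hy, ← hψ]
  simp only [map_inv, Units.val_inv_eq_inv_val, Units.coe_map, div_eq_mul_inv]
  rw [mul_comm]
  rfl

theorem nsurj_Gm (hN : Function.Surjective (Algebra.norm E : L → E)) (hσ : ∀ t, t ∈ Subgroup.zpowers σ) :
    NSurj (covMap e) (autMap e σ) (orderOf σ) (EtCoh.Gm X) := by
  intro b
  obtain ⟨y, hy⟩ := hN (val b : E)
  have hy0 : y ≠ 0 := fun h => (val b).ne_zero (by rw [← hy, h, Algebra.norm_zero])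
  obtain ⟨φ, hφ⟩ := val_surjective (extHom e L) (Units.mk0 y hy0)
  refine ⟨φ, val_injective (Units.ext ?_)⟩
  rw [val_sumPow e σ hσ, hφ, Units.val_mk0, hy, covMap, val_fmap]
  rfl

end

/-- The multiplicative group satisfies the cyclic hypotheses when norms are surjective. -/
theorem cyclicHyp_Gm
    (hN : ∀ (E L : Type u) [Field E] [Field L] [Algebra E L] [FiniteDimensional E L] [IsGalois E L]
      (e : Spec (CommRingCat.of E) ⟶ X) [Etale e] (σ : Gal(L/E)), (orderOf σ).Prime →
      (∀ t, t ∈ Subgroup.zpowers σ) → Function.Surjective (Algebra.norm E : L → E)) :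
    CyclicHyp (EtCoh.Gm X) where
  h90 _ _ _ _ _ _ _ e _ _ σ _ hσ := h90_Gm e σ hσ
  nsurj E L _ _ _ _ _ e _ _ σ hp hσ := nsurj_Gm e σ (hN E L e σ hp hσ) hσ

/-- Cohomology on a scheme as extensions of a free sheaf. -/
theorem subsingleton_H_iff (F : EtCoh.Ab X) (q : ℕ) :
    Subsingleton (EtCoh.H X F q) ↔ Subsingleton (Abelian.Ext (free (EtCoh.top X)) F q) := by
  constructor <;> intro h
  · refine subsingleton_of_forall_eq 0 fun x => ?_
    have h2 := congrArg (fun y => (Abelian.Ext.mk₀ (topIso (X := X)).hom).comp y (zero_add q))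
      (h.elim ((Abelian.Ext.mk₀ (topIso (X := X)).inv).comp x (zero_add q) : EtCoh.H X F q) (0 : EtCoh.H X F q))
    simpa [Abelian.Ext.mk₀_comp_mk₀_assoc] using h2
  · refine subsingleton_of_forall_eq 0 fun x => ?_
    have h2 := congrArg (fun y => (Abelian.Ext.mk₀ (topIso (X := X)).inv).comp y (zero_add q))
      (h.elim ((Abelian.Ext.mk₀ (topIso (X := X)).hom).comp x (zero_add q)) 0)
    simpa [Abelian.Ext.mk₀_comp_mk₀_assoc] using h2

/-- Vanishing of positive degree cohomology of the multiplicative group of a field with surjective norms. -/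
theorem subsingleton_H_Gm_field (K : Type u) [Field K]
    (hN : ∀ (E L : Type u) [Field E] [Field L] [Algebra K E] [FiniteDimensional K E] [Algebra E L]
      [FiniteDimensional E L] [IsGalois E L] (σ : Gal(L/E)), (orderOf σ).Prime →
      (∀ t, t ∈ Subgroup.zpowers σ) → Function.Surjective (Algebra.norm E : L → E))
    (q : ℕ) (hq : 1 ≤ q) :
    Subsingleton (EtCoh.H (Spec (CommRingCat.of K)) (EtCoh.Gm (Spec (CommRingCat.of K))) q) := by
  rw [subsingleton_H_iff]
  refine subsingleton_ext (cyclicHyp_Gm fun E L _ _ _ _ _ e _ σ hp hσ => ?_) q hq (𝟙 _)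
  obtain ⟨φ, rfl⟩ := Spec.map_surjective e
  algebraize [φ.hom]
  haveI : LocallyOfFiniteType (Spec.map φ) := inferInstance
  have hft : φ.hom.FiniteType := (HasRingHomProperty.Spec_iff (P := @LocallyOfFiniteType)).1 inferInstance
  haveI : Algebra.FiniteType K E := hft
  haveI : FiniteDimensional K E := finite_of_finite_type_of_isJacobsonRing K E
  exact hN E L σ hp hσ

end Groth.Agent.CurveCd
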