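import Groth.Agent.CSALib.CyclicNorm
import Groth.Agent.CSALib.BaseChange
import Groth.Agent.CurveCd.FieldGm

/-!
# Norm surjectivity for fields with trivial Brauer group
-/

set_option autoImplicit false

universe u

open CategoryTheory AlgebraicGeometry

namespace Groth.Agent.CurveCd

open CSALib

/-- If every central division algebra over `E` is trivial then norms from cyclic extensions are
surjective. -/
theorem norm_surjective_of_brauer_trivial (E : Type u) [Field E]
    (hBr : ∀ (D : Type u) [DivisionRing D] [Algebra E D] [Algebra.IsCentral E D] [FiniteDimensional E D],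
      Module.finrank E D = 1)
    {L : Type u} [Field L] [Algebra E L] [FiniteDimensional E L] [IsGalois E L] {σ : Gal(L/E)}
    (hσ : ∀ t, t ∈ Subgroup.zpowers σ) : Function.Surjective (Algebra.norm E : L → E) := by
  intro a
  rcases eq_or_ne a 0 with rfl | ha
  · exact ⟨0, Algebra.norm_zero⟩
  obtain ⟨B, hB⟩ := exists_isCyclicAlg hσ (Units.mk0 a ha)
  refine (similar_field_iff_norm hσ hB).1 ?_
  obtain ⟨_, _, ι, y, hu, -, h, hd⟩ := isCyclicAlg_data hB
  obtain ⟨_, _, -⟩ := central_simple hσ h hu hd
  obtain ⟨n, hn, D, _, _, hc, hf, ⟨e⟩⟩ := exists_division E B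
  refine (similar_of_algEquiv_matrix hn.out e).trans (similar_of_algEquiv ?_)
  exact (AlgEquiv.ofBijective (Algebra.ofId E D)
    ⟨(algebraMap E D).injective, ((Algebra.ofId E D).toLinearMap.injective_iff_surjective_of_finrank_eq_finrank
      (by rw [Module.finrank_self, hBr D])).1 (algebraMap E D).injective⟩).symm

/-- Vanishing of the cohomology of the multiplicative group of a field with trivial Brauer groups. -/
theorem subsingleton_H_Gm_of_brauer_trivial (K : Type u) [Field K]
    (hBr : ∀ (K' : Type u) [Field K'] [Algebra K K'] [FiniteDimensional K K']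
      (D : Type u) [DivisionRing D] [Algebra K' D] [Algebra.IsCentral K' D] [FiniteDimensional K' D],
      Module.finrank K' D = 1)
    (q : ℕ) (hq : 1 ≤ q) :
    Subsingleton (EtCoh.H (Spec (CommRingCat.of K)) (EtCoh.Gm (Spec (CommRingCat.of K))) q) :=
  subsingleton_H_Gm_field K (fun E _ _ _ _ _ _ _ _ _ _ hσ =>
    norm_surjective_of_brauer_trivial E (fun D _ _ _ _ => hBr E D) hσ) q hq

end Groth.Agent.CurveCd
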