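import Groth.Agent.CurveCd.TorsionField
import Groth.Agent.CurveCd.BrauerNorm
import Groth.Agent.EtLC12.MuConst
import Groth.Agent.S0108
import Groth.Agent.S7733
import Groth.Agent.CSALib.Splitting

/-!
# Fields with trivial Brauer groups have cohomological dimension at most one
-/

set_option autoImplicit false
set_option linter.style.haveILetI false
set_option linter.unusedSectionVars false
set_option backward.isDefEq.respectTransparency false
set_option backward.isDefEq.respectTransparency.types false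

universe u

open CategoryTheory CategoryTheory.Limits AlgebraicGeometry Opposite Abelian

noncomputable section

namespace Groth.Agent.CurveCd

attribute [local instance] EtFound.pull_preservesFiniteLimits

/-- Kummer theory: the vanishing of `H^q(μ_n)` from that of the multiplicative group. -/
theorem subsingleton_H_mu {X : Scheme.{u}} {n : ℕ} (hn : IsUnit (n : Γ(X, ⊤))) (q : ℕ)
    (h1 : Subsingleton (EtCoh.H X (EtCoh.Gm X) q)) (h2 : Subsingleton (EtCoh.H X (EtCoh.Gm X) (q + 1))) :
    Subsingleton (EtCoh.H X (EtCoh.mu X n) (q + 1)) := by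
  haveI : Epi (EtCoh.powMap X n) := S0108.result X n hn
  let S := ShortComplex.mk (kernel.ι (EtCoh.powMap X n)) (EtCoh.powMap X n) (kernel.condition _)
  have hS : S.ShortExact := { exact := ShortComplex.exact_of_f_is_kernel _ (kernelIsKernel _) }
  refine subsingleton_of_forall_eq 0 fun x => ?_
  obtain ⟨z, rfl⟩ := Ext.covariant_sequence_exact₁ _ hS x (h2.elim _ _) (rfl : q + 1 = q + 1)
  rw [h1.elim z 0, Ext.zero_comp]

theorem natCast_isUnit_sections {K : Type u} [Field K] {n : ℕ} (hn : (n : K) ≠ 0) :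
    IsUnit (n : Γ(Spec (CommRingCat.of K), ⊤)) := by
  have := (IsUnit.mk0 _ hn).map (Scheme.ΓSpecIso (CommRingCat.of K)).inv.hom
  rwa [map_natCast] at this

/-- Constant sheaves of prime order invertible in the field are acyclic in degrees at least two. -/
theorem subsingleton_H_zmod_of_gm {K : Type u} [Field K] {ℓ : ℕ} [Fact ℓ.Prime] (hℓK : (ℓ : K) ≠ 0)
    (hGm : ∀ (L : Type u) [Field L] [Algebra K L] [Module.Finite K L], ∀ i, 1 ≤ i →
      Subsingleton (EtCoh.H (Spec (CommRingCat.of L)) (EtCoh.Gm (Spec (CommRingCat.of L))) i))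
    (q : ℕ) (hq : 2 ≤ q) :
    Subsingleton (EtCoh.H (Spec (CommRingCat.of K)) (EtCoh.const (Spec (CommRingCat.of K)) (ZMod ℓ)) q) := by
  classical
  have hℓ : ℓ.Prime := Fact.out
  let P := Polynomial.cyclotomic ℓ K
  have hPd : P.natDegree = ℓ - 1 := by rw [Polynomial.natDegree_cyclotomic, Nat.totient_prime hℓ]
  have hPu : ¬ IsUnit P := fun h => by
    have := Polynomial.natDegree_eq_zero_of_isUnit h
    rw [hPd] at this
    have := hℓ.two_le
    omega
  haveI : NeZero (ℓ : K) := ⟨hℓK⟩
  have hsep : P.Separable := Polynomial.separable_cyclotomic ℓ K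
  obtain ⟨g, hg, hgP⟩ := WfDvdMonoid.exists_irreducible_factor hPu (Polynomial.cyclotomic_ne_zero ℓ K)
  haveI := Fact.mk hg
  let L := AdjoinRoot g
  haveI : Module.Finite K L := (AdjoinRoot.powerBasis hg.ne_zero).finite
  have hL : Module.finrank K L = g.natDegree := by
    rw [(AdjoinRoot.powerBasis hg.ne_zero).finrank, AdjoinRoot.powerBasis_dim]
  haveI : Algebra.IsSeparable K L := CSALib.isSeparable_adjoinRoot g (hsep.of_dvd hgP)
  have hlt : g.natDegree < ℓ := by
    have := Polynomial.natDegree_le_of_dvd hgP (Polynomial.cyclotomic_ne_zero ℓ K)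
    have := hℓ.two_le
    omega
  have hndvd : ¬ ℓ ∣ Module.finrank K L := fun h =>
    absurd (Nat.le_of_dvd Module.finrank_pos h) (by rw [hL]; omega)
  let ζ₀ : L := AdjoinRoot.root g
  have hζ₀ : Polynomial.aeval ζ₀ (Polynomial.cyclotomic ℓ ℤ) = 0 := by
    have h : Polynomial.aeval ζ₀ P = 0 := by
      obtain ⟨c, hc⟩ := hgP
      rw [hc, map_mul, Polynomial.aeval_def, AdjoinRoot.algebraMap_eq, AdjoinRoot.eval₂_root, zero_mul]
    rwa [show P = (Polynomial.cyclotomic ℓ ℤ).map (algebraMap ℤ K) from (Polynomial.map_cyclotomic ℓ _).symm,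
      Polynomial.aeval_map_algebraMap] at h
  let e := (Scheme.ΓSpecIso (CommRingCat.of L)).inv.hom
  let ζ : Γ(Spec (CommRingCat.of L), ⊤) := e ζ₀
  have hζ : Polynomial.aeval ζ (Polynomial.cyclotomic ℓ ℤ) = 0 :=
    (Polynomial.aeval_algHom_apply e.toIntAlgHom ζ₀ _).trans ((congrArg _ hζ₀).trans (map_zero _))
  have hu := natCast_isUnit_sections (K := L) (n := ℓ) fun h => hℓK
    ((algebraMap K L).injective (by rw [map_natCast, h, map_zero]))
  haveI : NeZero ℓ := ⟨hℓ.ne_zero⟩
  obtain ⟨emu⟩ := EtLC12.MuConst.nonempty_mu_iso_const hu ζ hζ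
  obtain ⟨r, rfl⟩ : ∃ r, q = r + 1 := ⟨q - 1, by omega⟩
  have hmu : Subsingleton (EtCoh.H _ (EtCoh.mu (Spec (CommRingCat.of L)) ℓ) (r + 1)) :=
    subsingleton_H_mu hu r (hGm L r (by omega)) (hGm L (r + 1) (by omega))
  have h2 : Subsingleton (EtCoh.H _ ((EtCoh.pull (GalCd5.sm K L)).obj
      (EtCoh.const (Spec (CommRingCat.of K)) (ZMod ℓ))) (r + 1)) :=
    GalCd5.subsingleton_H_of_iso (EtCore.pullConst _ (ZMod ℓ)).symm _ (GalCd5.subsingleton_H_of_iso emu _ hmu)
  refine subsingleton_of_forall_eq 0 fun x => ?_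
  have h3 : Module.finrank K L • x = 0 := H9Transfer.nsmul_finrank_eq_zero (K := K) (L := L) x (h2.elim _ _)
  have h4 : ℓ • x = 0 := by
    rw [← H9Transfer.comp_nsmul_id, GalCd5.killed_const _ ℓ (fun z => by
      simpa using GalCd5.killed_zmod ℓ z), Ext.mk₀_zero, Ext.comp_zero]
  have h5 := Nat.dvd_gcd (addOrderOf_dvd_of_nsmul_eq_zero h4) (addOrderOf_dvd_of_nsmul_eq_zero h3)
  rw [(hℓ.coprime_iff_not_dvd.2 hndvd).gcd_eq_one, Nat.dvd_one] at h5
  exact AddMonoid.addOrderOf_eq_one_iff.1 h5

/-- Torsion sheaves are acyclic in degrees at least two over fields whose finite extensions have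
acyclic multiplicative groups. -/
theorem subsingleton_H_torsion_of_gm {K : Type u} [Field K]
    (hGm : ∀ (L : Type u) [Field L] [Algebra K L] [Module.Finite K L], ∀ i, 1 ≤ i →
      Subsingleton (EtCoh.H (Spec (CommRingCat.of L)) (EtCoh.Gm (Spec (CommRingCat.of L))) i))
    (F : EtCoh.Ab (Spec (CommRingCat.of K))) (hF : EtCoh.IsTorsion F) (q : ℕ) (hq : 2 ≤ q) :
    Subsingleton (EtCoh.H (Spec (CommRingCat.of K)) F q) := by
  refine subsingleton_H_of_torsion q (fun ℓ hℓ G hG => ?_) F hF
  haveI := Fact.mk hℓ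
  by_cases hℓK : (ℓ : K) = 0
  · obtain ⟨r, hr⟩ := CharP.exists K
    haveI : CharP K ℓ := by
      rcases (Nat.dvd_prime hℓ).1 ((CharP.cast_eq_zero_iff K r ℓ).1 hℓK) with rfl | rfl
      · exact absurd hr (fun h => CharP.char_ne_one K 1 rfl)
      · exact hr
    refine subsingleton_of_forall_eq 0 fun x => ?_
    refine S7733.result K ℓ G (GalCd5.isTorsion_of_isLTorsion hℓ hG) q hq x ?_
    have htor := EtLC12.TorsionColim.isAddTorsion_H G (GalCd5.isTorsion_of_isLTorsion hℓ hG) q x
    haveI := EtLC12.QcqsAcyclic.preservesColimitsOfShape_HF (Spec (CommRingCat.of K)) q (EtFound.TorsionInd.J G)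
    let hc := isColimitOfPreserves (EtCoh.HF _ q) (EtFound.TorsionInd.isColimit G (GalCd5.isTorsion_of_isLTorsion hℓ hG))
    obtain ⟨j, a, rfl⟩ := Concrete.isColimit_exists_rep _ hc x
    obtain ⟨n, hn, hC⟩ := EtFound.exists_killedBy _ (EtFound.TorsionInd.isConstructible_D G j)
    obtain ⟨m, hm⟩ := GalCd5.exists_pow_kills_hom hℓ hG n hn hC j.hom
    refine ⟨m, ?_⟩
    show ((ℓ ^ m) • (EtCoh.HF _ q).map ((EtFound.TorsionInd.cocone G).ι.app j)) a = 0
    rw [← Functor.map_nsmul, show (ℓ ^ m) • (EtFound.TorsionInd.cocone G).ι.app j = 0 from hm, Functor.map_zero]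
    rfl
  · refine subsingleton_H_of_isLTorsion K ℓ hℓ q (fun L _ _ _ _ => ?_) G hG
    refine subsingleton_H_zmod_of_gm (fun h => hℓK ((algebraMap K L).injective (by rw [map_natCast, h, map_zero])))
      (fun L' _ _ _ => ?_) q hq
    letI : Algebra K L' := ((algebraMap L L').comp (algebraMap K L)).toAlgebra
    haveI : IsScalarTower K L L' := .of_algebraMap_eq' rfl
    haveI : Module.Finite K L' := Module.Finite.trans L L'
    exact hGm L'

/-- Torsion sheaves are acyclic in degrees at least two over fields with trivial Brauer groups. -/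
theorem subsingleton_H_torsion_of_brauer_trivial (K : Type u) [Field K]
    (hBr : ∀ (K' : Type u) [Field K'] [Algebra K K'] [FiniteDimensional K K']
      (D : Type u) [DivisionRing D] [Algebra K' D] [Algebra.IsCentral K' D] [FiniteDimensional K' D],
      Module.finrank K' D = 1)
    (F : EtCoh.Ab (Spec (CommRingCat.of K))) (hF : EtCoh.IsTorsion F) (q : ℕ) (hq : 2 ≤ q) :
    Subsingleton (EtCoh.H (Spec (CommRingCat.of K)) F q) :=
  subsingleton_H_torsion_of_gm (fun L _ _ _ => subsingleton_H_Gm_of_brauer_trivial L fun K' _ _ _ D _ _ _ _ => by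
    letI : Algebra K K' := ((algebraMap L K').comp (algebraMap K L)).toAlgebra
    haveI : IsScalarTower K L K' := .of_algebraMap_eq' rfl
    haveI : FiniteDimensional K K' := Module.Finite.trans L K'
    exact hBr K' D) F hF q hq

end Groth.Agent.CurveCd
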