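import Groth.Agent.CurveCd.DisjointPts
import Groth.Agent.EtLC12.RpushTorsion
import Groth.Agent.SitePullUnit.DerivedClass

/-!
# Higher direct images from spectra of fields
-/

set_option autoImplicit false
set_option linter.style.haveILetI false
set_option linter.unusedSectionVars false
set_option backward.isDefEq.respectTransparency false
set_option backward.isDefEq.respectTransparency.types false
set_option synthInstance.maxHeartbeats 200000

universe u

open CategoryTheory CategoryTheory.Limits AlgebraicGeometry Opposite Abelian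

noncomputable section

namespace Groth.Agent.CurveCd

variable {X Y : Scheme.{u}}

/-- No higher cohomology on compact étale schemes. -/
def CompactAcyclic (G : EtCoh.Ab X) : Prop :=
  ∀ (W : X.Etale), CompactSpace W.left → ∀ n, Subsingleton (Ext (free W) G (n + 1))

theorem compactAcyclic_X₃ (S : ShortComplex (EtCoh.Ab X)) (hS : S.ShortExact) (h1 : CompactAcyclic S.X₁)
    (hI : Injective S.X₂) : CompactAcyclic S.X₃ := fun W hW n => by
  haveI := hI
  refine subsingleton_of_forall_eq 0 fun x => ?_
  obtain ⟨y, rfl⟩ := Ext.covariant_sequence_exact₃ (free W) hS x (rfl : n + 1 + 1 = n + 1 + 1)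
    ((h1 W hW (n + 1)).elim _ _)
  rw [Ext.eq_zero_of_injective y, Ext.zero_comp]

theorem sections_surjective_of_compactAcyclic (S : ShortComplex (EtCoh.Ab X)) (hS : S.ShortExact)
    (h1 : CompactAcyclic S.X₁) (W : X.Etale) (hW : CompactSpace W.left) :
    Function.Surjective (S.g.hom.app (op W)).hom := fun s => by
  obtain ⟨y, hy⟩ := Ext.covariant_sequence_exact₃ (free W) hS (Ext.mk₀ (lift s)) (zero_add 1)
    ((h1 W hW 0).elim _ _)
  obtain ⟨φ, rfl⟩ := (Ext.mk₀_bijective _ _).2 y
  rw [Ext.mk₀_comp_mk₀] at hy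
  refine ⟨sec φ, ?_⟩
  rw [← sec_comp, (Ext.mk₀_bijective _ _).1 hy, sec_lift]

/-- Higher direct images vanish on compactly acyclic sheaves. -/
theorem isZero_Rpush_of_compactAcyclic (f : X ⟶ Y) [QuasiCompact f] [QuasiSeparated f] [EtCoh.BCCont f]
    (G : EtCoh.Ab X) (hG : CompactAcyclic G) (q : ℕ) : IsZero ((EtCoh.Rpush f (q + 1)).obj G) := by
  haveI : (EtCoh.push f).IsRightAdjoint := (EtCoh.pullPushAdj f).isRightAdjoint
  refine SitePullUnit.isZero_rightDerived_of_class (EtCoh.push f) CompactAcyclic compactAcyclic_X₃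
    (fun S hS h1 _ => ?_) hG q
  show Epi ((EtCoh.push f).map S.g)
  refine (Sheaf.isLocallySurjective_iff_epi' AddCommGrpCat.{u + 1} ((EtCoh.push f).map S.g)).1 ⟨fun {V} s => ?_⟩
  refine (EtFound.mem_topology_iff _).2 fun v => ?_
  obtain ⟨W, g, w, hW, hw⟩ := EtLC12.RpushTorsion.exists_affine_nhd v
  obtain ⟨t, ht⟩ := sections_surjective_of_compactAcyclic S hS h1 _ (EtLC12.RpushTorsion.isQcqsObj_bc f W hW).1
    ((((EtCoh.push f).obj S.X₃).obj.map g.op).hom s)
  exact ⟨W, g, w, ⟨t, ht⟩, hw⟩

/-- Over a field it is enough to treat points. -/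
theorem compactAcyclic_of_pts {K : Type u} [Field K] (F : EtCoh.Ab (Spec (CommRingCat.of K)))
    (h : ∀ (n : ℕ) (E : Type u) [Field E] (e : Spec (CommRingCat.of E) ⟶ Spec (CommRingCat.of K)) [Etale e],
      Subsingleton (Ext (free (pt e)) F (n + 1))) : CompactAcyclic F := fun W hW n =>
  haveI := hW
  subsingleton_ext_compact F (n + 1) (h n) W

/-- The multiplicative group of a field with surjective norms is compactly acyclic. -/
theorem compactAcyclic_Gm {K : Type u} [Field K]
    (hN : ∀ (E L : Type u) [Field E] [Field L] [Algebra K E] [FiniteDimensional K E] [Algebra E L]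
      [FiniteDimensional E L] [IsGalois E L] (σ : Gal(L/E)), (orderOf σ).Prime →
      (∀ t, t ∈ Subgroup.zpowers σ) → Function.Surjective (Algebra.norm E : L → E)) :
    CompactAcyclic (EtCoh.Gm (Spec (CommRingCat.of K))) := by
  refine compactAcyclic_of_pts _ fun n E _ e _ => subsingleton_ext (cyclicHyp_Gm fun E L _ _ _ _ _ e _ σ hp hσ => ?_)
    (n + 1) (Nat.le_add_left 1 n) e
  obtain ⟨φ, rfl⟩ := Spec.map_surjective e
  algebraize [φ.hom]
  haveI : LocallyOfFiniteType (Spec.map φ) := inferInstance
  have hft : φ.hom.FiniteType := (HasRingHomProperty.Spec_iff (P := @LocallyOfFiniteType)).1 inferInstance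
  haveI : Algebra.FiniteType K E := hft
  haveI : FiniteDimensional K E := finite_of_finite_type_of_isJacobsonRing K E
  exact hN E L σ hp hσ

end Groth.Agent.CurveCd
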