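import Groth.Agent.CurveCd.FreeShriek
import Groth.Agent.CurveCd.FieldPush
import Groth.Agent.EtGmH1.LocTriv
import Groth.Agent.EtAcycLib.Compose
import Groth.Agent.BcQCalc.HofPushInj
import Groth.Agent.BcQCalc.TorsionEmbed

/-!
# Hilbert 90 on étale sites of fields and first direct images of the multiplicative group
-/

set_option autoImplicit false
set_option linter.style.haveILetI false
set_option linter.unusedSectionVars false
set_option backward.isDefEq.respectTransparency false
set_option backward.isDefEq.respectTransparency.types false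

universe u

open CategoryTheory CategoryTheory.Limits AlgebraicGeometry Opposite Abelian

noncomputable section

namespace Groth.Agent.CurveCd

attribute [local instance] EtFound.pull_preservesFiniteLimits

variable {X Y : Scheme.{u}}

/-- Degree one cohomology of the multiplicative group of a one-point scheme vanishes. -/
theorem subsingleton_H1_Gm_of_subsingleton [Subsingleton X] [Nonempty X] :
    Subsingleton (EtCoh.H X (EtCoh.Gm X) 1) := by
  refine subsingleton_of_forall_eq 0 fun c => ?_
  obtain ⟨U, hU, hc⟩ := EtGmH1.exists_open_Hpull_eq_zero c (Classical.arbitrary X)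
  haveI : IsIso U.ι := by
    haveI : Surjective U.ι := ⟨fun y => ⟨⟨Classical.arbitrary X, hU⟩, Subsingleton.elim _ _⟩⟩
    exact (isIso_iff_isOpenImmersion_and_epi_base U.ι).2
      ⟨inferInstance, (TopCat.epi_iff_surjective _).2 U.ι.surjective⟩
  exact (EtAcycLib.bijective_Hpull_of_isIso U.ι (EtCoh.Gm X) 1).1 (hc.trans (map_zero _).symm)

/-- The multiplicative group restricts to itself. -/
def restrGm {U : Scheme.{u}} (e : U ⟶ X) [AlgebraicGeometry.Etale e] [EtShriek.JCont e] :
    (EtShriek.restrAlong e).obj (EtCoh.Gm X) ≅ EtCoh.Gm U :=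
  (fullyFaithfulSheafToPresheaf _ _).preimageIso
    (NatIso.ofComponents (fun _ => Iso.refl _) (fun _ => by rfl))

/-- Degree one cohomology of the multiplicative group of compact étale schemes over a field vanishes. -/
theorem subsingleton_ext_compact_Gm {K : Type u} [Field K] (W : (Spec (CommRingCat.of K)).Etale)
    [CompactSpace W.left] : Subsingleton (Ext (free W) (EtCoh.Gm (Spec (CommRingCat.of K))) 1) := by
  refine subsingleton_ext_compact _ 1 (fun E _ e _ => ?_) W
  haveI := EtFound.jCont e
  refine (subsingleton_ext_free_iff e _ 1).2 ?_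
  haveI := subsingleton_H1_Gm_of_subsingleton (X := Spec (CommRingCat.of E))
  exact GalCd5.subsingleton_H_of_iso (restrGm e).symm 1 inferInstance

/-- The first direct image vanishes when degree one cohomology vanishes on compact étale schemes. -/
theorem isZero_Rpush_one (f : X ⟶ Y) [QuasiCompact f] [QuasiSeparated f] [EtCoh.BCCont f] (G : EtCoh.Ab X)
    (hG : ∀ W : X.Etale, CompactSpace W.left → Subsingleton (Ext (free W) G 1)) :
    IsZero ((EtCoh.Rpush f 1).obj G) := by
  haveI : (EtCoh.push f).IsRightAdjoint := (EtCoh.pullPushAdj f).isRightAdjoint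
  let S := BcQCalc.embSES G
  have hS : S.ShortExact := BcQCalc.embSES_shortExact G
  haveI : Injective S.X₂ := inferInstanceAs (Injective (Injective.under G))
  haveI : Epi ((EtCoh.push f).map S.g) := by
    refine (Sheaf.isLocallySurjective_iff_epi' AddCommGrpCat.{u + 1} ((EtCoh.push f).map S.g)).1 ⟨fun {V} s => ?_⟩
    refine (EtFound.mem_topology_iff _).2 fun v => ?_
    obtain ⟨W, g, w, hW, hw⟩ := EtLC12.RpushTorsion.exists_affine_nhd v
    let W' := (EtCoh.bc f).obj W
    let s' : S.X₃.obj.obj (op W') := ((((EtCoh.push f).obj S.X₃).obj.map g.op).hom s)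
    obtain ⟨y, hy⟩ := Ext.covariant_sequence_exact₃ (free W') hS (Ext.mk₀ (lift s')) (zero_add 1)
      ((hG W' (EtLC12.RpushTorsion.isQcqsObj_bc f W hW).1).elim _ _)
    obtain ⟨φ, rfl⟩ := (Ext.mk₀_bijective _ _).2 y
    rw [Ext.mk₀_comp_mk₀] at hy
    let t : S.X₂.obj.obj (op W') := sec (F := S.X₂) φ
    refine ⟨W, g, w, ⟨t, ?_⟩, hw⟩
    show (S.g.hom.app (op W')).hom (sec (F := S.X₂) φ) = s'
    rw [← sec_comp, (Ext.mk₀_bijective _ _).1 hy, sec_lift]
  let T := SESResLib.derivedLES (EtCoh.push f)
  haveI : Epi (((EtCoh.push f).rightDerived 0).map S.g) :=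
    BcQCalc.epi_of_natIso (EtCoh.push f).rightDerivedZeroIsoSelf S.g
  have h0 : T.δ S hS 0 1 rfl = 0 := (cancel_epi (((EtCoh.push f).rightDerived 0).map S.g)).1
    ((T.comp_δ S hS 0 1 rfl).trans comp_zero.symm)
  exact (T.exact₁ S hS 0 1 rfl).isZero_X₂ h0
    (((EtCoh.push f).isZero_rightDerived_obj_injective_succ 0 S.X₂).eq_of_tgt _ _)

end Groth.Agent.CurveCd
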