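import Groth.Agent.CurveCd.GenericGm
import Groth.Agent.CurveCd.GmOne
import Groth.Agent.CurveCd.ClosedAcyclic
import Groth.Agent.GmDiv.DimOne
import Groth.Agent.GalCd5.Basic

/-!
# Injectivity of the Brauer group of a one dimensional scheme into that of its generic points
-/

set_option autoImplicit false
set_option linter.style.haveILetI false
set_option linter.unusedSectionVars false
set_option backward.isDefEq.respectTransparency false
set_option backward.isDefEq.respectTransparency.types false

universe u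

open CategoryTheory CategoryTheory.Limits AlgebraicGeometry Opposite Abelian

noncomputable section

namespace Groth.Agent.CurveCd

open GenericGm GmDiv

attribute [local instance] Abelian.hasFiniteBiproducts EtFound.pull_preservesFiniteLimits

/-- Degree one cohomology of the multiplicative group of compact étale schemes over a one-point scheme vanishes. -/
theorem subsingleton_ext_Gm_onePoint {Y : Scheme.{u}} [Subsingleton Y] [Nonempty Y] (W : Y.Etale)
    [CompactSpace W.left] : Subsingleton (Ext (free W) (EtCoh.Gm Y) 1) := by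
  let f : W.left ⟶ Y := W.hom
  haveI : Etale f := W.prop
  haveI : DiscreteTopology W.left := by
    haveI := (f.isDiscrete_preimage_singleton (Classical.arbitrary Y)).to_subtype
    let e : (f ⁻¹' {Classical.arbitrary Y} : Set W.left) ≃ₜ W.left :=
      (Homeomorph.setCongr (Set.eq_univ_of_forall fun w => Subsingleton.elim (α := Y) _ _)).trans
        (Homeomorph.Set.univ W.left)
    exact e.symm.isEmbedding.discreteTopology
  haveI : Finite W.left := finite_of_compact_of_discrete
  let O : W.left → W.left.Opens := fun w => ⟨{w}, isOpen_discrete _⟩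
  let e : ∀ w, (O w).toScheme ⟶ Y := fun w => (O w).ι ≫ f
  haveI : ∀ w, Etale (e w) := fun w => inferInstanceAs (Etale ((O w).ι ≫ f))
  let g : ∀ w, Scheme.Etale.mk (e w) ⟶ W := fun w => MorphismProperty.Over.homMk (O w).ι rfl trivial
  haveI : ∀ w, Mono (g w) := fun w =>
    (Scheme.Etale.forget _ ⋙ CategoryTheory.Over.forget _).mono_of_mono_map (inferInstanceAs (Mono (O w).ι))
  have himg : ∀ w (a : (O w).toScheme), (g w).left.base a = w := fun w a => a.2
  refine subsingleton_ext_of_pieces (fun w => Scheme.Etale.mk (e w)) g (fun x => ⟨x, (⟨x, rfl⟩ : (O x).toScheme), himg x _⟩)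
    (fun i j hij a b hab => hij ((himg i a).symm.trans (hab.trans (himg j b)))) _ 1 fun w => ?_
  haveI := EtFound.jCont (e w)
  refine (subsingleton_ext_free_iff (e w) _ 1).2 ?_
  haveI : Subsingleton (O w).toScheme := ⟨fun a b => Subtype.ext ((show a.1 = w from a.2).trans (show b.1 = w from b.2).symm)⟩
  haveI : Nonempty (O w).toScheme := ⟨⟨w, rfl⟩⟩
  haveI := subsingleton_H1_Gm_of_subsingleton (X := (O w).toScheme)
  exact GalCd5.subsingleton_H_of_iso (restrGm (e w)).symm 1 inferInstance

variable {X : Scheme.{u}}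

theorem subsingleton_locI (η : Gen X) : Subsingleton (Spec (X.presheaf.stalk η.1)) := by
  refine ⟨fun a b => (X.fromSpecStalk η.1).isEmbedding.injective ?_⟩
  exact (η.2 _ ((Scheme.range_fromSpecStalk (x := η.1)).le ⟨a, rfl⟩)).trans
    (η.2 _ ((Scheme.range_fromSpecStalk (x := η.1)).le ⟨b, rfl⟩)).symm

/-- The Brauer group of generic points detects degree two classes of skyscraper units. -/
theorem injective_HofPush_locI [CompactSpace X] [QuasiSeparatedSpace X] (η : Gen X)
    [PreservesFiniteLimits (EtCoh.pull (locI η.1))] :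
    Function.Injective (EtLim.HofPush (locI η.1) (EtCoh.Gm (Spec (X.presheaf.stalk η.1))) 2) := by
  haveI : QuasiCompact (locI η.1) := quasiCompact_of_compactSpace _
  haveI : QuasiSeparated (locI η.1) := inferInstance
  haveI := subsingleton_locI η
  haveI : Nonempty (Spec (X.presheaf.stalk η.1)) := ⟨IsLocalRing.closedPoint _⟩
  refine BcQCalc.HofPush_injective_succ (locI η.1) 1 _ fun j hj => ?_
  obtain rfl : j = 0 := by omega
  exact isZero_Rpush_one (locI η.1) _ fun W hW => @subsingleton_ext_Gm_onePoint _ _ _ W hW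

theorem isClosed_of_mem_supp_kernel [Finite (Gen X)] (hdim : topologicalKrullDim X ≤ 1) {x : X}
    (hx : x ∈ EtPBC.supp (kernel (toJ (X := X)))) : IsClosed ({x} : Set X) := by
  obtain ⟨Ω, _, _, ξ, hr, hz⟩ := hx
  refine GmDiv.isClosed_singleton_of_dim hdim fun hmax => hz ?_
  have hξ : ξ (default : Spec (CommRingCat.of Ω)) = x := Set.mem_singleton_iff.1 (hr ▸ Set.mem_range_self _)
  have hb := bijective_stalk_toJ ξ ⟨x, hmax⟩ hξ
  haveI : Mono ((EtCoh.stalk ξ).map (kernel.ι (toJ (X := X)))) :=
    (AddCommGrpCat.mono_iff_injective _).2 ((EtFound.mono_iff_stalks _).1 inferInstance Ω ξ)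
  haveI : Mono ((EtCoh.stalk ξ).map (toJ (X := X))) := (AddCommGrpCat.mono_iff_injective _).2 hb.1
  refine IsZero.of_mono_eq_zero ((EtCoh.stalk ξ).map (kernel.ι (toJ (X := X)))) ?_
  rw [← cancel_mono ((EtCoh.stalk ξ).map (toJ (X := X))), zero_comp, ← Functor.map_comp, kernel.condition]
  exact Functor.map_zero _ _ _

theorem isClosed_of_mem_supp_cokernel [Finite (Gen X)] (hdim : topologicalKrullDim X ≤ 1) {x : X}
    (hx : x ∈ EtPBC.supp (cokernel (toJ (X := X)))) : IsClosed ({x} : Set X) := by
  obtain ⟨Ω, _, _, ξ, hr, hz⟩ := hx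
  refine GmDiv.isClosed_singleton_of_dim hdim fun hmax => hz ?_
  have hξ : ξ (default : Spec (CommRingCat.of Ω)) = x := Set.mem_singleton_iff.1 (hr ▸ Set.mem_range_self _)
  have hb := bijective_stalk_toJ ξ ⟨x, hmax⟩ hξ
  haveI : Epi ((EtCoh.stalk ξ).map (cokernel.π (toJ (X := X)))) :=
    (AddCommGrpCat.epi_iff_surjective _).2 ((EtFound.epi_iff_stalks _).1 inferInstance Ω ξ)
  haveI : Epi ((EtCoh.stalk ξ).map (toJ (X := X))) := (AddCommGrpCat.epi_iff_surjective _).2 hb.2
  refine IsZero.of_epi_eq_zero ((EtCoh.stalk ξ).map (cokernel.π (toJ (X := X)))) ?_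
  rw [← cancel_epi ((EtCoh.stalk ξ).map (toJ (X := X))), comp_zero, ← Functor.map_comp, cokernel.condition]
  exact Functor.map_zero _ _ _

/-- A class of degree two of `G_m` on a one-dimensional scheme vanishing at the generic points vanishes. -/
theorem eq_zero_of_generic [IsNoetherian X] (hdim : topologicalKrullDim X ≤ 1)
    (hsep : ∀ x : X, IsClosed ({x} : Set X) → IsSepClosed (X.residueField x))
    (c : EtCoh.H X (EtCoh.Gm X) 2)
    (hc : ∀ η : Gen X, EtLim.HGmPull (locI η.1) 2 c = 0) : c = 0 := by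
  classical
  haveI := finite_gen X
  haveI := Fintype.ofFinite (Gen X)
  let k := toJ (X := X)
  have hK : Subsingleton (EtCoh.H X (kernel k) 2) :=
    ClosedAcyclic.subsingleton_H _ hsep (fun x hx => isClosed_of_mem_supp_kernel hdim hx) 1
  have hC : Subsingleton (EtCoh.H X (cokernel k) 1) :=
    ClosedAcyclic.subsingleton_H _ hsep (fun x hx => isClosed_of_mem_supp_cokernel hdim hx) 0
  let S₁ : ShortComplex (EtCoh.Ab X) := ShortComplex.mk (kernel.ι k) (Abelian.coimage.π k) (cokernel.condition _)
  have hS₁ : S₁.ShortExact :=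
    { exact := ShortComplex.exact_of_g_is_cokernel _ (cokernelIsCokernel _)
      mono_f := inferInstanceAs (Mono (kernel.ι k))
      epi_g := inferInstanceAs (Epi (Abelian.coimage.π k)) }
  let S₂ : ShortComplex (EtCoh.Ab X) := ShortComplex.mk (Abelian.factorThruCoimage k) (cokernel.π k)
    (by rw [← cancel_epi (Abelian.coimage.π k), ← Category.assoc, Abelian.coimage.fac, cokernel.condition, comp_zero])
  have hS₂ : S₂.ShortExact :=
    { exact := by
        let φ : ShortComplex.mk k (cokernel.π k) (cokernel.condition k) ⟶ S₂ :=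
          { τ₁ := Abelian.coimage.π k, τ₂ := 𝟙 _, τ₃ := 𝟙 _,
            comm₁₂ := (Abelian.coimage.fac k).trans (Category.comp_id _).symm,
            comm₂₃ := (Category.id_comp _).trans (Category.comp_id _).symm }
        haveI : Epi φ.τ₁ := inferInstanceAs (Epi (Abelian.coimage.π k))
        haveI : IsIso φ.τ₂ := inferInstanceAs (IsIso (𝟙 _))
        haveI : Mono φ.τ₃ := inferInstanceAs (Mono (𝟙 _))
        exact (ShortComplex.exact_iff_of_epi_of_isIso_of_mono φ).1
          (ShortComplex.exact_of_g_is_cokernel _ (cokernelIsCokernel k))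
      mono_f := inferInstanceAs (Mono (Abelian.factorThruCoimage k))
      epi_g := inferInstanceAs (Epi (cokernel.π k)) }
  let fam : Gen X → EtCoh.Ab X := fun θ => (EtCoh.push (locI θ.1)).obj (EtCoh.Gm (Spec (X.presheaf.stalk θ.1)))
  have hcomp : ∀ θ : Gen X, c.comp (Ext.mk₀ (k ≫ biproduct.π fam θ)) (add_zero 2) = 0 := fun θ => by
    have e : k ≫ biproduct.π fam θ = EtLim.GmPush (locI θ.1) := biproduct.lift_π _ _
    rw [e]
    refine (injective_HofPush_locI θ) ?_
    rw [map_zero]
    exact hc θ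
  have hJ : c.comp (Ext.mk₀ k) (add_zero 2) = 0 := by
    have ht : (∑ θ, biproduct.π fam θ ≫ biproduct.ι fam θ) = 𝟙 (⨁ fam) := by
      refine biproduct.hom_ext _ _ fun j => ?_
      simp [Preadditive.sum_comp, biproduct.ι_π, comp_dite]
    let Φ : (EtCoh.Gm X ⟶ ⨁ fam) →+ EtCoh.H X (⨁ fam) 2 := AddMonoidHom.mk'
      (fun r => c.comp (Ext.mk₀ r) (add_zero 2)) (fun a b => by rw [Ext.mk₀_add, Ext.comp_add])
    show Φ k = 0
    have hk : k = ∑ θ, k ≫ biproduct.π fam θ ≫ biproduct.ι fam θ := by
      rw [← Preadditive.comp_sum, ht]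
      exact (Category.comp_id k).symm
    rw [hk, map_sum]
    refine Finset.sum_eq_zero fun θ _ => ?_
    show c.comp (Ext.mk₀ (k ≫ biproduct.π fam θ ≫ biproduct.ι fam θ)) (add_zero 2) = 0
    rw [← Category.assoc, ← Ext.mk₀_comp_mk₀, ← Ext.comp_assoc_of_second_deg_zero, hcomp θ, Ext.zero_comp]
  have hco : c.comp (Ext.mk₀ S₁.g) (add_zero 2) = 0 := by
    obtain ⟨z, hz⟩ := Ext.covariant_sequence_exact₁ _ hS₂ (c.comp (Ext.mk₀ S₁.g) (add_zero 2))
      (by rw [Ext.comp_assoc_of_second_deg_zero, Ext.mk₀_comp_mk₀,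
            show S₁.g ≫ S₂.f = k from Abelian.coimage.fac k, hJ]) (rfl : 1 + 1 = 2)
    rw [← hz, show z = 0 from hC.elim (z : EtCoh.H X (cokernel k) 1) 0, Ext.zero_comp]
  obtain ⟨y, rfl⟩ := Ext.covariant_sequence_exact₂ _ hS₁ c hco
  rw [show y = 0 from hK.elim (y : EtCoh.H X (kernel k) 2) 0, Ext.zero_comp]

end Groth.Agent.CurveCd
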