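import Groth.Agent.EtCdp5.Main
import Groth.Agent.EtDescSplit.HFunctor
import Groth.Agent.H9Transfer.Field
import Mathlib.RingTheory.Unramified.Field
import Mathlib.RingTheory.Artinian.Module

/-!
# Cohomology of torsion sheaves on spectra of fields from the constant sheaves `ℤ/ℓ`
-/

set_option autoImplicit false
set_option linter.style.haveILetI false
set_option linter.unusedSectionVars false
set_option backward.isDefEq.respectTransparency false
set_option backward.isDefEq.respectTransparency.types false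

universe u

open CategoryTheory CategoryTheory.Limits AlgebraicGeometry Opposite Abelian

noncomputable section

namespace Groth.Agent.CurveCd

open Groth.Agent.EtFound Groth.Agent.GalCd5

attribute [local instance] EtFound.pull_preservesFiniteLimits

/-- Constructible sheaves on the spectrum of a field are finite locally constant. -/
theorem flc_of_constructible (K : Type u) [Field K] (C : EtCoh.Ab (Spec (CommRingCat.of K)))
    (hC : EtPBC.IsConstructible C) : EtCoh.IsFiniteLocallyConstant C := by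
  obtain ⟨V, hV, hflc⟩ := EtCdp5.exists_open_flc C hC
  haveI : Surjective V.ι := ⟨fun x => by
    obtain ⟨v⟩ := (inferInstance : Nonempty V.toScheme)
    exact ⟨v, Subsingleton.elim (α := Spec (CommRingCat.of K)) _ _⟩⟩
  haveI : IsIso V.ι := IsOpenImmersion.isIso V.ι
  refine EtFound.isFiniteLocallyConstant_of_iso ?_ (EtFound.isFiniteLocallyConstant_pull (inv V.ι) hflc)
  exact ((EtFound.pullCompAb (inv V.ι) V.ι).app C).symm ≪≫
    eqToIso (congrArg (fun k => (EtCoh.pull k).obj C) (IsIso.inv_hom_id V.ι)) ≪≫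
    (EtDescSplit.pullId (Spec (CommRingCat.of K))).app C

theorem not_dvd_finrank_factor {K : Type u} [Field K] (B : Type u) [CommRing B] [Algebra K B] [Module.Finite K B]
    [IsReduced B] {ℓ : ℕ} (h : ¬ ℓ ∣ Module.finrank K B) :
    ∃ m : Ideal B, m.IsMaximal ∧ ¬ ℓ ∣ Module.finrank K (B ⧸ m) := by
  by_contra hne
  push_neg at hne
  haveI : IsArtinianRing B := IsArtinianRing.of_finite K B
  haveI : Fintype (MaximalSpectrum B) := Fintype.ofFinite _
  apply h
  let e : B ≃ₗ[K] ∀ I : MaximalSpectrum B, B ⧸ I.asIdeal :=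
    ((IsArtinianRing.equivPi B).restrictScalars K).toLinearEquiv
  rw [e.finrank_eq, Module.finrank_pi_fintype]
  exact Finset.dvd_sum fun I _ => hne I.asIdeal I.isMaximal

theorem exists_point_coprime {K : Type u} [Field K] {T : Scheme.{u}} (f : T ⟶ Spec (CommRingCat.of K))
    [IsFinite f] [AlgebraicGeometry.Etale f] {ℓ d : ℕ} (hd : f.finrank default = d) (hℓ : ¬ ℓ ∣ d) :
    ∃ (L : Type u) (_ : Field L) (_ : Algebra K L) (_ : Module.Finite K L) (_ : Algebra.IsSeparable K L)
      (l : Spec (CommRingCat.of L) ⟶ T), l ≫ f = sm K L ∧ ¬ ℓ ∣ Module.finrank K L := by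
  haveI : IsAffine T := isAffine_of_isAffineHom f
  let f0 : Spec Γ(T, ⊤) ⟶ Spec (CommRingCat.of K) := T.isoSpec.inv ≫ f
  let φ := Spec.preimage f0
  algebraize [φ.hom]
  have hf0 : f0 = Spec.map (CommRingCat.ofHom (algebraMap K Γ(T, ⊤))) := (Spec.map_preimage f0).symm
  haveI : IsFinite (Spec.map φ) := by rw [Spec.map_preimage]; infer_instance
  haveI : AlgebraicGeometry.Etale (Spec.map φ) := by rw [Spec.map_preimage]; infer_instance
  haveI : Module.Finite K Γ(T, ⊤) := (IsFinite.SpecMap_iff φ).1 ‹IsFinite (Spec.map φ)›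
  haveI : Algebra.Etale K Γ(T, ⊤) :=
    RingHom.etale_algebraMap.1 ((HasRingHomProperty.Spec_iff (P := @AlgebraicGeometry.Etale)).1 ‹_› : φ.hom.Etale)
  haveI : IsReduced Γ(T, ⊤) := Algebra.FormallyUnramified.isReduced_of_field K _
  have hrk : Module.finrank K Γ(T, ⊤) = d := by
    have h1 := Scheme.Hom.finrank_SpecMap_algebraMap K Γ(T, ⊤)
    have h2 : f0.finrank default = d := by rw [Scheme.Hom.finrank_comp_left_of_isIso, hd]
    rw [hf0, h1, Module.rankAtStalk_eq_finrank_of_free] at h2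
    exact h2
  obtain ⟨m, hm, hmd⟩ := not_dvd_finrank_factor Γ(T, ⊤) (K := K) (ℓ := ℓ) (hrk ▸ hℓ)
  haveI := hm
  letI : Field (Γ(T, ⊤) ⧸ m) := Ideal.Quotient.field m
  haveI : Algebra.FormallyUnramified Γ(T, ⊤) (Γ(T, ⊤) ⧸ m) := Algebra.FormallyUnramified.quotient m
  haveI : Algebra.FormallyUnramified K (Γ(T, ⊤) ⧸ m) := Algebra.FormallyUnramified.comp K Γ(T, ⊤) _
  haveI : Algebra.EssFiniteType K (Γ(T, ⊤) ⧸ m) := inferInstance
  haveI : Algebra.IsSeparable K (Γ(T, ⊤) ⧸ m) := Algebra.FormallyUnramified.isSeparable K _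
  refine ⟨Γ(T, ⊤) ⧸ m, inferInstance, inferInstance, inferInstance, inferInstance,
    Spec.map (CommRingCat.ofHom (algebraMap Γ(T, ⊤) (Γ(T, ⊤) ⧸ m))) ≫ T.isoSpec.inv, ?_, hmd⟩
  show (_ ≫ _) ≫ f = _
  rw [Category.assoc, show T.isoSpec.inv ≫ f = Spec.map (CommRingCat.ofHom (algebraMap K Γ(T, ⊤))) from hf0,
    ← Spec.map_comp, ← CommRingCat.ofHom_comp, ← IsScalarTower.algebraMap_eq]

variable (K : Type u) [Field K] (ℓ : ℕ) (hℓ : ℓ.Prime) (q : ℕ)
  (h : ∀ (L : Type u) [Field L] [Algebra K L] [Module.Finite K L] [Algebra.IsSeparable K L],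
    Subsingleton (EtCoh.H (Spec (CommRingCat.of L)) (EtCoh.const (Spec (CommRingCat.of L)) (ZMod ℓ)) q))

include hℓ h in
theorem subsingleton_H_flc_killed' (C : EtCoh.Ab (Spec (CommRingCat.of K)))
    (hC : EtCoh.IsFiniteLocallyConstant C) (hk : ℓ • 𝟙 C = 0) : Subsingleton (EtCoh.H (Spec (CommRingCat.of K)) C q) := by
  haveI := Fact.mk hℓ
  obtain ⟨r, hr⟩ := EtFiltr5.exists_isRk hC ℓ hk
  obtain ⟨T, f, _, _, e, hcop, hcard, ⟨c⟩⟩ := EtFiltr5.exists_cover_chain ℓ r _ C hC hk hr
  obtain ⟨L, _, _, _, _, l, hl, hL⟩ := exists_point_coprime f (EtCdp5.finrank_eq_of_card f e hcard default)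
    (hℓ.coprime_iff_not_dvd.1 hcop)
  haveI := (EtCoh.pullPushAdj l).left_adjoint_additive
  haveI := (EtCoh.pullPushAdj l).leftAdjoint_preservesColimits
  haveI : PreservesFiniteColimits (EtCoh.pull l) := inferInstance
  have h1 : Subsingleton (EtCoh.H _ ((EtCoh.pull l).obj ((EtCoh.pull f).obj C)) q) :=
    EtCdp5.subsingleton_H_of_chain (EtCoh.pull l) q c
      (subsingleton_H_of_iso (EtCore.pullConst l (ZMod ℓ)).symm q (h L))
  have h2 : Subsingleton (EtCoh.H _ ((EtCoh.pull (sm K L)).obj C) q) :=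
    subsingleton_H_of_iso ((EtCore.pullCongr hl.symm ≪≫ EtCore.pullComp l f).app C).symm q h1
  refine subsingleton_of_forall_eq 0 fun x => ?_
  have h3 : Module.finrank K L • x = 0 := H9Transfer.nsmul_finrank_eq_zero (K := K) (L := L) x (h2.elim _ _)
  have h4 : ℓ • x = 0 := by rw [← H9Transfer.comp_nsmul_id, hk, Ext.mk₀_zero, Ext.comp_zero]
  have h5 := Nat.dvd_gcd (addOrderOf_dvd_of_nsmul_eq_zero h4) (addOrderOf_dvd_of_nsmul_eq_zero h3)
  rw [(hℓ.coprime_iff_not_dvd.2 hL).gcd_eq_one, Nat.dvd_one] at h5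
  exact AddMonoid.addOrderOf_eq_one_iff.1 h5

include hℓ h in
theorem subsingleton_H_flc' : ∀ (a : ℕ) (C : EtCoh.Ab (Spec (CommRingCat.of K))),
    EtCoh.IsFiniteLocallyConstant C → (ℓ ^ a) • 𝟙 C = 0 → Subsingleton (EtCoh.H (Spec (CommRingCat.of K)) C q)
  | 0, C, _, hk => EtCdp5.subsingleton_H_of_isZero ((IsZero.iff_id_eq_zero C).2 (by simpa using hk)) q
  | a + 1, C, hC, hk => by
    let m : C ⟶ C := ℓ • 𝟙 C
    let S := ShortComplex.mk (kernel.ι m) (cokernel.π (kernel.ι m)) (cokernel.condition _)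
    have hS : S.ShortExact := { exact := ShortComplex.exact_of_g_is_cokernel _ (cokernelIsCokernel _) }
    have hK : EtCoh.IsFiniteLocallyConstant (kernel m) := EtFound.isFiniteLocallyConstant_of_kernel
      (S := ShortComplex.mk (kernel.ι m) m (kernel.condition _))
      (ShortComplex.exact_of_f_is_kernel _ (kernelIsKernel _)) hC hC
    have hQ : EtCoh.IsFiniteLocallyConstant (cokernel (kernel.ι m)) :=
      EtFound.isFiniteLocallyConstant_of_cokernel (S := S) hS.exact hK hC
    refine GalCd5.subsingleton_H_of_shortExact hS q ?_ ?_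
    · refine subsingleton_H_flc_killed' K ℓ hℓ q h _ hK ?_
      rw [← cancel_mono (kernel.ι m), zero_comp, Preadditive.nsmul_comp, Category.id_comp]
      have := kernel.condition m
      rwa [Preadditive.comp_nsmul, Category.comp_id] at this
    · refine subsingleton_H_flc' a _ hQ ?_
      rw [← cancel_epi (cokernel.π (kernel.ι m)), comp_zero, Preadditive.comp_nsmul, Category.comp_id]
      have hl : ((ℓ ^ a) • 𝟙 C) ≫ m = 0 := by
        rw [Preadditive.comp_nsmul, Category.comp_id, smul_smul, ← pow_succ', hk]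
      rw [show (ℓ ^ a) • cokernel.π (kernel.ι m) = ((ℓ ^ a) • 𝟙 C) ≫ cokernel.π (kernel.ι m) by
        rw [Preadditive.nsmul_comp, Category.id_comp], ← kernel.lift_ι m _ hl, Category.assoc, cokernel.condition,
        comp_zero]

include hℓ h in
/-- `ℓ`-primary torsion sheaves have no cohomology in degree `q` if `ℤ/ℓ` has none over all finite
separable extensions. -/
theorem subsingleton_H_of_isLTorsion (G : EtCoh.Ab (Spec (CommRingCat.of K))) (hG : EtDepth.IsLTorsion ℓ G) :
    Subsingleton (EtCoh.H (Spec (CommRingCat.of K)) G q) :=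
  subsingleton_H_of_constructible hℓ q
    (fun C a hC hk => subsingleton_H_flc' K ℓ hℓ q h a C (flc_of_constructible K C hC) hk) G hG

/-- Classes killed by a power of `ℓ` vanish when `ℓ`-primary sheaves are acyclic. -/
theorem eq_zero_of_pow_nsmul {X : Scheme.{u}} [CompactSpace X] [QuasiSeparatedSpace X] {ℓ : ℕ} (hℓ : ℓ.Prime) (q : ℕ)
    (h : ∀ G : EtCoh.Ab X, EtDepth.IsLTorsion ℓ G → Subsingleton (EtCoh.H X G q))
    (F : EtCoh.Ab X) (hF : EtCoh.IsTorsion F) (x : EtCoh.H X F q) {m : ℕ} (hm : ℓ ^ m • x = 0) : x = 0 := by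
  haveI := EtLC12.QcqsAcyclic.preservesColimitsOfShape_HF X q (EtFound.TorsionInd.J F)
  let hc := isColimitOfPreserves (EtCoh.HF X q) (EtFound.TorsionInd.isColimit F hF)
  obtain ⟨j, a, rfl⟩ := Concrete.isColimit_exists_rep _ hc x
  obtain ⟨n, hn, hC⟩ := EtFound.exists_killedBy X (EtFound.TorsionInd.isConstructible_D F j)
  obtain ⟨e, r, hr, rfl⟩ := Nat.exists_eq_pow_mul_and_not_dvd hn.ne' ℓ hℓ.ne_one
  let C := (EtFound.TorsionInd.D F).obj j
  obtain ⟨t, -, ht⟩ : ∃ t, t < ℓ ^ (e + m + 1) ∧ r * t % ℓ ^ (e + m + 1) = 1 :=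
    Nat.exists_mul_mod_eq_one_of_coprime (((hℓ.coprime_iff_not_dvd.2 hr).symm).pow_right _)
      (Nat.one_lt_pow (by omega) hℓ.one_lt)
  let v := r * t / ℓ ^ (e + m + 1) * ℓ ^ (e + m + 1)
  have huv : r * t = v + 1 := by
    conv_lhs => rw [← Nat.div_add_mod (r * t) (ℓ ^ (e + m + 1)), ht, mul_comm]
  let d : C ⟶ C := (r * t) • 𝟙 C
  have hkill : (ℓ ^ e) • 𝟙 (Abelian.coimage d) = 0 := by
    rw [← cancel_epi (Abelian.coimage.π d), comp_zero, Preadditive.comp_nsmul, Category.comp_id,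
      ← cancel_mono (Abelian.factorThruCoimage d), zero_comp, Preadditive.nsmul_comp, Abelian.coimage.fac]
    show (ℓ ^ e) • ((r * t) • 𝟙 C) = 0
    rw [smul_smul, ← mul_assoc, mul_comm (ℓ ^ e * r) t, mul_smul, hC, smul_zero]
  haveI : Subsingleton ((EtCoh.HF X q).obj (Abelian.coimage d)) := h _ (isLTorsion_of_killed ℓ e hkill)
  set ι := (EtFound.TorsionInd.cocone F).ι.app j
  have hu : (r * t) • ((EtCoh.HF X q).map ι a) = 0 := by
    have h1 : (EtCoh.HF X q).map (d ≫ ι) a = 0 := by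
      rw [← Abelian.coimage.fac d, Category.assoc, Functor.map_comp]
      refine (ConcreteCategory.comp_apply _ _ _).trans ?_
      rw [Subsingleton.elim ((EtCoh.HF X q).map (Abelian.coimage.π d) a) 0, map_zero]
    have h2 : d ≫ ι = (r * t) • ι := by
      show ((r * t) • 𝟙 C) ≫ ι = _
      rw [Preadditive.nsmul_comp, Category.id_comp]
    have h3 : ((r * t) • (EtCoh.HF X q).map ι) a = 0 := by
      rw [← Functor.map_nsmul, ← h2]
      exact h1
    exact h3
  have hv : v • ((EtCoh.HF X q).map ι a) = 0 := by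
    show (r * t / ℓ ^ (e + m + 1) * ℓ ^ (e + m + 1)) • _ = _
    rw [show e + m + 1 = (e + 1) + m by omega, pow_add, ← mul_assoc, mul_smul]
    exact (congrArg _ hm).trans (nsmul_zero _)
  rw [huv, add_smul, hv, zero_add, one_smul] at hu
  exact hu

/-- Torsion sheaves are acyclic in degree `q` when primary sheaves are. -/
theorem subsingleton_H_of_torsion {X : Scheme.{u}} [CompactSpace X] [QuasiSeparatedSpace X] (q : ℕ)
    (h : ∀ ℓ : ℕ, ℓ.Prime → ∀ G : EtCoh.Ab X, EtDepth.IsLTorsion ℓ G → Subsingleton (EtCoh.H X G q))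
    (F : EtCoh.Ab X) (hF : EtCoh.IsTorsion F) : Subsingleton (EtCoh.H X F q) := by
  refine subsingleton_of_forall_eq 0 fun x => ?_
  suffices key : ∀ (n : ℕ) (y : EtCoh.H X F q), 0 < addOrderOf y → addOrderOf y = n → y = 0 by
    exact key _ x (EtLC12.TorsionColim.isAddTorsion_H F hF q x).addOrderOf_pos rfl
  intro n
  induction n using Nat.strong_induction_on with
  | _ n ih =>
    intro y hpos hy
    rcases eq_or_ne n 1 with rfl | hn1
    · exact AddMonoid.addOrderOf_eq_one_iff.1 hy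
    obtain ⟨ℓ, hℓ, hdvd⟩ := Nat.exists_prime_and_dvd hn1
    obtain ⟨r, rfl⟩ := hdvd
    have hr : 0 < r := Nat.pos_of_mul_pos_left (hy ▸ hpos)
    have h1 : r • y = 0 := eq_zero_of_pow_nsmul hℓ q (h ℓ hℓ) F hF (r • y) (m := 1) (by
      rw [pow_one, smul_smul, ← hy, addOrderOf_nsmul_eq_zero])
    have h2 : addOrderOf y ∣ r := addOrderOf_dvd_of_nsmul_eq_zero h1
    rw [hy] at h2
    exact absurd (Nat.le_of_dvd hr h2) (not_le.2 (lt_mul_of_one_lt_left hr hℓ.one_lt))

end Groth.Agent.CurveCd
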