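import Groth.Agent.CurveCd.BrInj
import Groth.Agent.FieldCd.DimOne
import Groth.Agent.FieldCd.Algebraic
import Groth.Agent.S0108
import Groth.Prelude.Def_Dix

/-!
# Primary torsion of the cohomology of the multiplicative group in dimension one
-/

set_option autoImplicit false
set_option linter.style.haveILetI false
set_option backward.isDefEq.respectTransparency false
set_option backward.isDefEq.respectTransparency.types false

universe u

open CategoryTheory CategoryTheory.Limits AlgebraicGeometry Opposite Abelian IsLocalRing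

noncomputable section

namespace Groth.Agent.CurveCd

attribute [local instance] EtFound.pull_preservesFiniteLimits

theorem isUnit_natCast_of_invertibleOn {X : Scheme.{u}} {n : ℕ} (h : Dix.InvertibleOn X n) :
    IsUnit (n : Γ(X, ⊤)) := by
  refine X.toRingedSpace.isUnit_of_isUnit_germ ⊤ _ fun x hx => ?_
  show IsUnit ((X.presheaf.germ ⊤ x hx).hom (n : Γ(X, ⊤)))
  rw [map_natCast]
  by_contra hn
  refine h x ?_
  rw [← map_natCast (X.residue x).hom]
  exact (residue_eq_zero_iff _).2 ((mem_maximalIdeal _).2 hn)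

/-- Classes of `G_m` killed by `ℓ` vanish when the cohomology of `μ_ℓ` does. -/
theorem eq_zero_of_nsmul {X : Scheme.{u}} {ℓ q : ℕ} (hℓ : IsUnit (ℓ : Γ(X, ⊤)))
    (hμ : Subsingleton (EtCoh.H X (EtCoh.mu X ℓ) q)) (c : EtCoh.H X (EtCoh.Gm X) q) (hc : ℓ • c = 0) : c = 0 := by
  haveI : Epi (EtCoh.powMap X ℓ) := S0108.result X ℓ hℓ
  let S := ShortComplex.mk (kernel.ι (EtCoh.powMap X ℓ)) (EtCoh.powMap X ℓ) (kernel.condition _)
  have hS : S.ShortExact := { exact := ShortComplex.exact_of_f_is_kernel _ (kernelIsKernel _) }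
  obtain ⟨y, rfl⟩ := Ext.covariant_sequence_exact₂ _ hS c (by
    let Φ : (EtCoh.Gm X ⟶ EtCoh.Gm X) →+ EtCoh.H X (EtCoh.Gm X) q := AddMonoidHom.mk'
      (fun r => c.comp (Ext.mk₀ r) (add_zero q)) (fun a b => by rw [Ext.mk₀_add, Ext.comp_add])
    show Φ (ℓ • 𝟙 _) = 0
    rw [map_nsmul]
    exact (congrArg (ℓ • ·) (Ext.comp_mk₀_id c)).trans hc)
  rw [show y = 0 from hμ.elim y 0, Ext.zero_comp]

/-- `cd_ℓ ≤ e` for a Noetherian scheme with one point whose residue field has `cd_ℓ ≤ e`. -/
theorem subsingleton_H_onePoint {Y : Scheme.{u}} [IsNoetherian Y] [Subsingleton Y] {ℓ : ℕ} (hℓ : ℓ.Prime) {e : ℕ}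
    (h : ∀ y : Y, Dix.CohDimLEAt (Spec (Y.residueField y)) ℓ e) (F : EtCoh.Ab Y)
    (hF : Dix.IsPrimaryTorsion ℓ F) (q : ℕ) (hq : e < q) : Subsingleton (EtCoh.H Y F q) := by
  refine EtCdFun.main ℓ hℓ (fun _ => e) h (fun x y _ hne => absurd (Subsingleton.elim x y) hne) q F hF
    (fun _ _ => hq) q (fun _ _ => hq)

theorem vd_residueField_locI {X : Scheme.{u}} (η : GmDiv.Gen X) (y : Spec (X.presheaf.stalk η.1)) {ℓ e : ℕ}
    (h : FieldCd.Vd ℓ (X.residueField η.1) e) : FieldCd.Vd ℓ ((Spec (X.presheaf.stalk η.1)).residueField y) e := by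
  have hr : X.fromSpecStalk η.1 y = η.1 := η.2 _ ((Scheme.range_fromSpecStalk (x := η.1)).le ⟨y, rfl⟩)
  have hb : Function.Bijective ((X.fromSpecStalk η.1).residueFieldMap y).hom := by
    refine ⟨RingHom.injective _, fun b => ?_⟩
    obtain ⟨b', rfl⟩ := ((Spec (X.presheaf.stalk η.1)).residue_surjective y) b
    obtain ⟨a, rfl⟩ := (X.fromSpecStalk η.1).stalkMap_surjective y b'
    exact ⟨(X.residue _).hom a, (ConcreteCategory.congr_hom (Scheme.residue_residueFieldMap (X.fromSpecStalk η.1) y) a)⟩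
  let e : X.residueField η.1 ≃+* (Spec (X.presheaf.stalk η.1)).residueField y :=
    (X.residueFieldCongr hr.symm).commRingCatIsoToRingEquiv.trans
      (RingEquiv.ofBijective ((X.fromSpecStalk η.1).residueFieldMap y).hom hb)
  letI := e.toRingHom.toAlgebra
  exact FieldCd.vd_of_ringEquiv e h

/-- In dimension one the cohomology of `G_m` in degrees at least two has no `ℓ`-primary torsion. -/
theorem eq_zero_of_pow_nsmul_Gm {X : Scheme.{u}} [IsNoetherian X] (hdim : topologicalKrullDim X ≤ 1)
    {ℓ : ℕ} (hℓ : ℓ.Prime) (hinv : Dix.InvertibleOn X ℓ)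
    (hcd : ∀ x : X, closure {x} ∈ irreducibleComponents (X : Type u) → Dix.CohDimLEAt (Spec (X.residueField x)) ℓ 1)
    (hcl : ∀ x : X, IsClosed ({x} : Set X) → IsSepClosed (X.residueField x))
    (i : ℕ) (hi : 2 ≤ i) : ∀ (k : ℕ) (c : EtCoh.H X (EtCoh.Gm X) i), ℓ ^ k • c = 0 → c = 0 := by
  intro k
  induction k with
  | zero => exact fun c hc => by rwa [pow_zero, one_smul] at hc
  | succ k ih =>
    intro c hc
    refine ih c ?_
    rw [pow_succ', mul_smul] at hc
    generalize ℓ ^ k • c = d at hc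
    rcases Nat.lt_or_ge 2 i with hi2 | hi2
    · exact eq_zero_of_nsmul (isUnit_natCast_of_invertibleOn hinv)
        (FieldCd.cd_dim_one hdim hℓ hcd hcl _ (GalCd5.isLTorsion_of_killed ℓ 1
          (by rw [pow_one]; exact FieldCd.killed_mu X ℓ)) i hi2) d hc
    obtain rfl : i = 2 := le_antisymm hi2 hi
    refine eq_zero_of_generic hdim hcl d fun η => ?_
    haveI : Subsingleton (Spec (X.presheaf.stalk η.1)) := subsingleton_locI η
    haveI : IsNoetherianRing (X.presheaf.stalk η.1) := inferInstance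
    haveI : IsNoetherian (Spec (X.presheaf.stalk η.1)) := inferInstance
    have hmax : closure {η.1} ∈ irreducibleComponents (X : Type u) := by
      refine ⟨isIrreducible_singleton.closure, fun t ht hle => ?_⟩
      obtain ⟨g, hg⟩ := QuasiSober.sober ht.closure isClosed_closure
      have hgη : g = η.1 := η.2 g (hg.specializes (subset_closure (hle (subset_closure rfl))))
      exact subset_closure.trans ((hg.def.ge).trans (by rw [hgη]))
    refine eq_zero_of_nsmul (isUnit_natCast_of_invertibleOn fun y h0 => ?_) ?_ _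
      (by rw [← map_nsmul, hc, map_zero])
    · refine hinv _ (RingHom.injective ((X.fromSpecStalk η.1).residueFieldMap y).hom ?_)
      rw [map_natCast, map_zero]
      exact h0
    · exact subsingleton_H_onePoint hℓ (fun y => FieldCd.cohDimLEAt_of_vanAbove hℓ
        (vd_residueField_locI η y (FieldCd.vanAbove_of_cohDimLEAt (hcd η.1 hmax)))) _
        (GalCd5.isLTorsion_of_killed ℓ 1 (by rw [pow_one]; exact FieldCd.killed_mu _ ℓ)) 2 Nat.one_lt_two

end Groth.Agent.CurveCd
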