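import Groth.Agent.CurveCd.FreeEt

/-!
# Descent of cohomological vanishing along cyclic étale coverings
-/

set_option autoImplicit false
set_option linter.style.haveILetI false
set_option backward.isDefEq.respectTransparency false
set_option backward.isDefEq.respectTransparency.types false

universe u

open CategoryTheory CategoryTheory.Limits AlgebraicGeometry Opposite Abelian

noncomputable section

namespace Groth.Agent.CurveCd

variable {X : Scheme.{u}}

/-- The action of a morphism on geometric points. -/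
abbrev fib {V W : X.Etale} (g : V ⟶ W) {Ω : Type u} [Field Ω] [IsSepClosed Ω]
    (ξ : Spec (CommRingCat.of Ω) ⟶ X) : Pts ξ V → Pts ξ W := fun z => (Scheme.pointSmallEtale ξ).fiber.map g z

theorem stalk_additive {Ω : Type u} [Field Ω] [IsSepClosed Ω] (ξ : Spec (CommRingCat.of Ω) ⟶ X) :
    (EtCoh.stalk ξ).Additive := by
  haveI : PreservesBinaryBiproducts (EtCoh.stalk ξ) := preservesBinaryBiproducts_of_preservesBinaryProducts _
  exact Functor.additive_of_preservesBinaryBiproducts _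

/-- A morphism is surjective on geometric points. -/
def IsSurjPts {V W : X.Etale} (g : V ⟶ W) : Prop :=
  ∀ (Ω : Type u) [Field Ω] [IsSepClosed Ω] (ξ : Spec (CommRingCat.of Ω) ⟶ X), Function.Surjective (fib g ξ)

theorem epi_fmap {V W : X.Etale} (g : V ⟶ W) (hg : IsSurjPts g) : Epi (fmap g) := by
  refine (EtFound.epi_iff_stalks _).2 fun Ω _ _ ξ t => ?_
  obtain ⟨c, rfl⟩ := comb_surjective ξ W t
  refine ⟨comb ξ V (c.mapDomain (Function.surjInv (hg Ω ξ))), ?_⟩
  rw [fmap_comb, ← Finsupp.mapDomain_comp]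
  exact congrArg (comb ξ W) ((congrArg (fun f => Finsupp.mapDomain f c)
    (funext (Function.surjInv_eq (hg Ω ξ)))).trans Finsupp.mapDomain_id)

/-- Morphisms constant on fibres descend. -/
theorem exists_factor {V W : X.Etale} (g : V ⟶ W) (hg : IsSurjPts g) {F : EtCoh.Ab X} (φ : free V ⟶ F)
    (h : ∀ (Ω : Type u) [Field Ω] [IsSepClosed Ω] (ξ : Spec (CommRingCat.of Ω) ⟶ X) (a b : Pts ξ V),
      fib g ξ a = fib g ξ b → ((EtCoh.stalk ξ).map φ).hom (br ξ a) = ((EtCoh.stalk ξ).map φ).hom (br ξ b)) :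
    ∃ ψ : free W ⟶ F, fmap g ≫ ψ = φ := by
  haveI := epi_fmap g hg
  have hz : kernel.ι (fmap g) ≫ φ = 0 := hom_ext_stalk _ _ fun Ω _ _ ξ t => by
    haveI := stalk_additive ξ
    rw [Functor.map_comp, Functor.map_zero]
    show ((EtCoh.stalk ξ).map φ).hom (((EtCoh.stalk ξ).map (kernel.ι (fmap g))).hom t) = 0
    have ht : ((EtCoh.stalk ξ).map (fmap g)).hom (((EtCoh.stalk ξ).map (kernel.ι (fmap g))).hom t) = 0 := by
      show ((EtCoh.stalk ξ).map (kernel.ι (fmap g)) ≫ (EtCoh.stalk ξ).map (fmap g)).hom t = 0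
      rw [← Functor.map_comp, kernel.condition, Functor.map_zero]
      rfl
    obtain ⟨c, hc⟩ := comb_surjective ξ V (((EtCoh.stalk ξ).map (kernel.ι (fmap g))).hom t)
    rw [← hc] at ht ⊢
    rw [fmap_comb, ← map_zero (comb ξ W)] at ht
    have hc0 := comb_injective ξ W ht
    let s := Function.surjInv (hg Ω ξ)
    let T : (Pts ξ W →₀ ℤ) →+ (EtCoh.stalk ξ).obj F :=
      (Finsupp.linearCombination ℤ fun w => ((EtCoh.stalk ξ).map φ).hom (br ξ (s w))).toAddMonoidHom
    have key : ∀ e : Pts ξ V →₀ ℤ,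
        ((EtCoh.stalk ξ).map φ).hom (comb ξ V e) = T (e.mapDomain (fib g ξ)) := fun e => by
      induction e using Finsupp.induction_linear with
      | zero => rw [map_zero, map_zero, Finsupp.mapDomain_zero, map_zero]
      | add a b ha hb => rw [map_add, map_add, Finsupp.mapDomain_add, map_add, ha, hb]
      | single z n =>
        rw [Finsupp.mapDomain_single, comb_single, map_zsmul]
        refine Eq.trans ?_ (Finsupp.linearCombination_single ℤ n (fib g ξ z)).symm
        exact congrArg (n • ·) (h Ω ξ z (s (fib g ξ z)) (Function.surjInv_eq (hg Ω ξ) _).symm)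
    rw [key, hc0, map_zero]
  exact ⟨Abelian.epiDesc (fmap g) φ hz, Abelian.comp_epiDesc _ _ _⟩

/-- A cyclic Galois covering of degree `l`. -/
structure IsCyclicCover {V W : X.Etale} (g : V ⟶ W) (σ : V ⟶ V) (l : ℕ) : Prop where
  pos : 0 < l
  comp : σ ≫ g = g
  surj : IsSurjPts g
  period : ∀ (Ω : Type u) [Field Ω] [IsSepClosed Ω] (ξ : Spec (CommRingCat.of Ω) ⟶ X) (z : Pts ξ V),
    (fib σ ξ)^[l] z = z
  trans : ∀ (Ω : Type u) [Field Ω] [IsSepClosed Ω] (ξ : Spec (CommRingCat.of Ω) ⟶ X) (z z' : Pts ξ V),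
    fib g ξ z = fib g ξ z' → ∃ i < l, (fib σ ξ)^[i] z = z'
  free_act : ∀ (Ω : Type u) [Field Ω] [IsSepClosed Ω] (ξ : Spec (CommRingCat.of Ω) ⟶ X) (z : Pts ξ V) (i : ℕ),
    i < l → (fib σ ξ)^[i] z = z → i = 0

/-- Powers of an endomorphism. -/
def powMor {V : X.Etale} (σ : V ⟶ V) : ℕ → (free V ⟶ free V)
  | 0 => 𝟙 _
  | i + 1 => fmap σ ≫ powMor σ i

/-- The sum of the powers of an endomorphism. -/
def sumPow {V : X.Etale} (σ : V ⟶ V) (l : ℕ) : free V ⟶ free V :=
  ∑ i ∈ Finset.range l, powMor σ i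

theorem pow_br {V : X.Etale} (σ : V ⟶ V) {Ω : Type u} [Field Ω] [IsSepClosed Ω]
    (ξ : Spec (CommRingCat.of Ω) ⟶ X) (i : ℕ) (z : Pts ξ V) :
    ((EtCoh.stalk ξ).map (powMor σ i)).hom (br ξ z) =
      br ξ ((fib σ ξ)^[i] z) := by
  induction i generalizing z with
  | zero =>
    rw [powMor, CategoryTheory.Functor.map_id]
    rfl
  | succ i hi =>
    rw [powMor, Functor.map_comp, Function.iterate_succ_apply, ← hi (fib σ ξ z)]
    show ((EtCoh.stalk ξ).map _).hom (((EtCoh.stalk ξ).map (fmap σ)).hom (br ξ z)) = _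
    rw [fmap_br]

theorem sumPow_br {V : X.Etale} (σ : V ⟶ V) (l : ℕ) {Ω : Type u} [Field Ω] [IsSepClosed Ω]
    (ξ : Spec (CommRingCat.of Ω) ⟶ X) (z : Pts ξ V) :
    ((EtCoh.stalk ξ).map (sumPow σ l)).hom (br ξ z) = ∑ i ∈ Finset.range l, br ξ ((fib σ ξ)^[i] z) := by
  haveI := stalk_additive ξ
  let Φ : (free V ⟶ free V) →+ (EtCoh.stalk ξ).obj (free V) :=
    AddMonoidHom.mk' (fun f => ((EtCoh.stalk ξ).map f).hom (br ξ z)) (fun a b => by rw [Functor.map_add]; rfl)
  show Φ (sumPow σ l) = _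
  rw [sumPow, map_sum]
  exact Finset.sum_congr rfl fun i _ => pow_br σ ξ i z

/-- Sections killed by the transfer are differences. -/
def H90 {V : X.Etale} (σ : V ⟶ V) (l : ℕ) (F : EtCoh.Ab X) : Prop :=
  ∀ φ : free V ⟶ F, sumPow σ l ≫ φ = 0 → ∃ ψ : free V ⟶ F, (fmap σ - 𝟙 (free V)) ≫ ψ = φ

/-- The transfer is surjective on sections. -/
def NSurj {V W : X.Etale} (g : V ⟶ W) (σ : V ⟶ V) (l : ℕ) (F : EtCoh.Ab X) : Prop :=
  ∀ b : free W ⟶ F, ∃ φ : free V ⟶ F, sumPow σ l ≫ φ = fmap g ≫ b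

namespace IsCyclicCover

variable {V W : X.Etale} {g : V ⟶ W} {σ : V ⟶ V} {l : ℕ} (hc : IsCyclicCover g σ l)
include hc

theorem fib_iterate {Ω : Type u} [Field Ω] [IsSepClosed Ω] (ξ : Spec (CommRingCat.of Ω) ⟶ X) (i : ℕ)
    (z : Pts ξ V) : fib g ξ ((fib σ ξ)^[i] z) = fib g ξ z := by
  induction i with
  | zero => rfl
  | succ i hi =>
    rw [Function.iterate_succ_apply']
    refine Eq.trans ?_ hi
    exact (fiber_map_comp' ξ σ g _).symm.trans (congrArg (fun t => (Scheme.pointSmallEtale ξ).fiber.map t _) hc.comp)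
where
  fiber_map_comp' {Ω : Type u} [Field Ω] [IsSepClosed Ω] (ξ : Spec (CommRingCat.of Ω) ⟶ X) {U V W : X.Etale}
      (a : U ⟶ V) (b : V ⟶ W) (t : Pts ξ U) :
      (Scheme.pointSmallEtale ξ).fiber.map (a ≫ b) t =
        (Scheme.pointSmallEtale ξ).fiber.map b ((Scheme.pointSmallEtale ξ).fiber.map a t) := by
    rw [Functor.map_comp]
    rfl

theorem br_iterate_mod {Ω : Type u} [Field Ω] [IsSepClosed Ω] (ξ : Spec (CommRingCat.of Ω) ⟶ X)
    (z : Pts ξ V) : ∑ i ∈ Finset.range l, br ξ ((fib σ ξ)^[i] (fib σ ξ z)) =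
      ∑ i ∈ Finset.range l, br ξ ((fib σ ξ)^[i] z) := by
  have h := Finset.sum_range_succ' (fun i => br ξ ((fib σ ξ)^[i] z)) l
  rw [Finset.sum_range_succ, hc.period Ω ξ z] at h
  exact (add_right_cancel h).symm

theorem exists_tr : ∃ tr : free W ⟶ free V, fmap g ≫ tr = sumPow σ l := by
  refine exists_factor g hc.surj _ fun Ω _ _ ξ a b hab => ?_
  obtain ⟨i, -, rfl⟩ := hc.trans Ω ξ a b hab
  rw [sumPow_br, sumPow_br]
  clear hab
  induction i with
  | zero => rfl
  | succ i hi => rw [Function.iterate_succ_apply', hc.br_iterate_mod, hi]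

/-- The transfer of a cyclic covering. -/
def tr : free W ⟶ free V := hc.exists_tr.choose

theorem fmap_tr : fmap g ≫ hc.tr = sumPow σ l := hc.exists_tr.choose_spec

theorem tr_br {Ω : Type u} [Field Ω] [IsSepClosed Ω] (ξ : Spec (CommRingCat.of Ω) ⟶ X) (z : Pts ξ V) :
    ((EtCoh.stalk ξ).map hc.tr).hom (br ξ (fib g ξ z)) = ∑ i ∈ Finset.range l, br ξ ((fib σ ξ)^[i] z) := by
  rw [← sumPow_br, ← hc.fmap_tr, Functor.map_comp]
  show _ = ((EtCoh.stalk ξ).map hc.tr).hom (((EtCoh.stalk ξ).map (fmap g)).hom (br ξ z))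
  rw [fmap_br]

theorem fib_injective {Ω : Type u} [Field Ω] [IsSepClosed Ω] (ξ : Spec (CommRingCat.of Ω) ⟶ X) :
    Function.Injective (fib σ ξ) :=
  Function.LeftInverse.injective (g := (fib σ ξ)^[l - 1]) fun z => by
    rw [← Function.iterate_succ_apply, Nat.succ_eq_add_one, Nat.sub_add_cancel hc.pos]
    exact hc.period Ω ξ z

theorem comb_tr {Ω : Type u} [Field Ω] [IsSepClosed Ω] (ξ : Spec (CommRingCat.of Ω) ⟶ X) (d : Pts ξ W →₀ ℤ) :
    ∃ e : Pts ξ V →₀ ℤ, ((EtCoh.stalk ξ).map hc.tr).hom (comb ξ W d) = comb ξ V e ∧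
      ∀ z, e z = d (fib g ξ z) := by
  classical
  induction d using Finsupp.induction_linear with
  | zero => exact ⟨0, by rw [map_zero, map_zero, map_zero], fun z => rfl⟩
  | add a b ha hb =>
    obtain ⟨ea, h1, h2⟩ := ha
    obtain ⟨eb, h3, h4⟩ := hb
    refine ⟨ea + eb, by rw [map_add, map_add, map_add, h1, h3], fun z => ?_⟩
    rw [Finsupp.add_apply, Finsupp.add_apply, h2, h4]
  | single w n =>
    obtain ⟨z₀, rfl⟩ := hc.surj Ω ξ w
    refine ⟨∑ i ∈ Finset.range l, Finsupp.single ((fib σ ξ)^[i] z₀) n, ?_, fun z => ?_⟩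
    · rw [comb_single, map_zsmul, hc.tr_br, Finset.smul_sum, map_sum]
      exact Finset.sum_congr rfl fun i _ => (comb_single ξ _ _).symm
    · rw [Finsupp.finsetSum_apply, Finsupp.single_apply]
      split_ifs with h
      · obtain ⟨i, hi, hiz⟩ := hc.trans Ω ξ z₀ z h
        rw [Finset.sum_eq_single_of_mem i (Finset.mem_range.2 hi) fun j hj hji => ?_, Finsupp.single_apply, if_pos hiz]
        rw [Finsupp.single_apply, if_neg fun hjz => hji ?_]
        have hinj := fun m : ℕ => Function.Injective.iterate (hc.fib_injective ξ) m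
        rcases le_total j i with hji' | hji'
        · obtain ⟨m, rfl⟩ := Nat.exists_eq_add_of_le hji'
          rw [← hjz, add_comm, Function.iterate_add_apply] at hiz
          have := hc.free_act Ω ξ _ m (by omega) hiz
          omega
        · obtain ⟨m, rfl⟩ := Nat.exists_eq_add_of_le hji'
          rw [← hiz, add_comm, Function.iterate_add_apply] at hjz
          have := hc.free_act Ω ξ _ m (by have := Finset.mem_range.1 hj; omega) hjz
          omega
      · refine Finset.sum_eq_zero fun i _ => ?_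
        rw [Finsupp.single_apply, if_neg fun hiz => h ?_]
        rw [← hiz, hc.fib_iterate]

theorem mono_tr : Mono hc.tr := by
  refine (EtFound.mono_iff_stalks _).2 fun Ω _ _ ξ => (injective_iff_map_eq_zero _).2 fun t ht => ?_
  obtain ⟨d, rfl⟩ := comb_surjective ξ W t
  obtain ⟨e, he, he'⟩ := hc.comb_tr ξ d
  have e0 : e = 0 := comb_injective ξ V (by rw [← he, map_zero]; exact ht)
  rw [show d = 0 from Finsupp.ext fun w => by
    obtain ⟨z, rfl⟩ := hc.surj Ω ξ w
    rw [← he', e0]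
    rfl, map_zero]

theorem sub_br {Ω : Type u} [Field Ω] [IsSepClosed Ω] (ξ : Spec (CommRingCat.of Ω) ⟶ X) (c : Pts ξ V →₀ ℤ) :
    ((EtCoh.stalk ξ).map (fmap σ - 𝟙 (free V))).hom (comb ξ V c) =
      comb ξ V (c.mapDomain (fib σ ξ) - c) := by
  haveI := stalk_additive ξ
  rw [Functor.map_sub, CategoryTheory.Functor.map_id, map_sub (comb ξ V), ← fmap_comb]
  rfl

theorem fmap_sub_comp : (fmap σ - 𝟙 (free V)) ≫ fmap g = 0 := by
  rw [Preadditive.sub_comp, Category.id_comp, ← fmap_comp, hc.comp, sub_self]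

theorem tr_comp_sub : hc.tr ≫ (fmap σ - 𝟙 (free V)) = 0 := by
  haveI := epi_fmap g hc.surj
  rw [← cancel_epi (fmap g), comp_zero]
  refine hom_ext_points _ _ fun Ω _ _ ξ z => ?_
  haveI := stalk_additive ξ
  rw [← Category.assoc, hc.fmap_tr, Functor.map_comp, Functor.map_zero, Functor.map_sub, CategoryTheory.Functor.map_id]
  show ((EtCoh.stalk ξ).map (fmap σ)).hom (((EtCoh.stalk ξ).map (sumPow σ l)).hom (br ξ z)) -
    ((EtCoh.stalk ξ).map (sumPow σ l)).hom (br ξ z) = 0
  rw [sumPow_br, map_sum, sub_eq_zero]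
  refine Eq.trans (Finset.sum_congr rfl fun i _ => ?_) (hc.br_iterate_mod ξ z)
  rw [fmap_br]
  exact congrArg (br ξ) (((Function.iterate_succ_apply' (fib σ ξ) i z).symm).trans (Function.iterate_succ_apply _ _ _))

theorem exact_left : (ShortComplex.mk hc.tr (fmap σ - 𝟙 (free V)) hc.tr_comp_sub).Exact := by
  classical
  refine (EtFound.exact_iff_stalks _).2 fun Ω _ _ ξ => (ShortComplex.ab_exact_iff _).2 fun t ht => ?_
  obtain ⟨c, rfl⟩ := comb_surjective ξ V t
  change ((EtCoh.stalk ξ).map (fmap σ - 𝟙 (free V))).hom (comb ξ V c) = 0 at ht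
  rw [hc.sub_br ξ, ← map_zero (comb ξ V)] at ht
  have hinv := sub_eq_zero.1 (comb_injective ξ V ht)
  have hit : ∀ (i : ℕ) z, c ((fib σ ξ)^[i] z) = c z := fun i z => by
    induction i with
    | zero => rfl
    | succ i hi =>
      rw [Function.iterate_succ_apply', ← hi]
      exact (DFunLike.congr_fun hinv _).symm.trans (Finsupp.mapDomain_apply (hc.fib_injective ξ) c _)
  let s := Function.surjInv (hc.surj Ω ξ)
  let d : Pts ξ W →₀ ℤ := c.comapDomain s (Function.injective_surjInv _).injOn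
  obtain ⟨e, he, he'⟩ := hc.comb_tr ξ d
  refine ⟨comb ξ W d, he.trans (congrArg (comb ξ V) (Finsupp.ext fun z => ?_))⟩
  rw [he']
  show c (s (fib g ξ z)) = c z
  obtain ⟨i, -, hi⟩ := hc.trans Ω ξ z (s (fib g ξ z)) (Function.surjInv_eq (hc.surj Ω ξ) _).symm
  rw [← hi, hit]

theorem exact_right : (ShortComplex.mk (fmap σ - 𝟙 (free V)) (fmap g) hc.fmap_sub_comp).Exact := by
  classical
  refine (EtFound.exact_iff_stalks _).2 fun Ω _ _ ξ => (ShortComplex.ab_exact_iff _).2 fun t ht => ?_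
  obtain ⟨c, rfl⟩ := comb_surjective ξ V t
  change ((EtCoh.stalk ξ).map (fmap g)).hom (comb ξ V c) = 0 at ht
  rw [fmap_comb, ← map_zero (comb ξ W)] at ht
  have h0 : Finsupp.mapDomain (fib g ξ) c = 0 := comb_injective ξ W ht
  let R : AddSubgroup ((EtCoh.stalk ξ).obj (free V)) :=
    ((EtCoh.stalk ξ).map (fmap σ - 𝟙 (free V))).hom.range
  show comb ξ V c ∈ R
  have hstep : ∀ (i : ℕ) z, br ξ ((fib σ ξ)^[i] z) - br ξ z ∈ R := fun i z => by
    induction i with
    | zero => rw [Function.iterate_zero_apply, sub_self]; exact zero_mem _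
    | succ i hi =>
      have h1 : br ξ ((fib σ ξ)^[i + 1] z) - br ξ ((fib σ ξ)^[i] z) ∈ R := by
        refine ⟨comb ξ V (Finsupp.single ((fib σ ξ)^[i] z) 1), ?_⟩
        rw [hc.sub_br, Finsupp.mapDomain_single, map_sub, comb_single, comb_single, one_zsmul, one_zsmul,
          ← Function.iterate_succ_apply' (fib σ ξ)]
      have := add_mem h1 hi
      rwa [sub_add_sub_cancel] at this
  let s := Function.surjInv (hc.surj Ω ξ)
  have key : ∀ e : Pts ξ V →₀ ℤ, comb ξ V e - comb ξ V ((e.mapDomain (fib g ξ)).mapDomain s) ∈ R := fun e => by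
    induction e using Finsupp.induction_linear with
    | zero =>
      rw [Finsupp.mapDomain_zero, Finsupp.mapDomain_zero, sub_self]
      exact zero_mem _
    | add a b ha hb =>
      rw [Finsupp.mapDomain_add, Finsupp.mapDomain_add, map_add, map_add, add_sub_add_comm]
      exact add_mem ha hb
    | single z n =>
      rw [Finsupp.mapDomain_single, Finsupp.mapDomain_single, comb_single, comb_single, ← smul_sub]
      refine zsmul_mem ?_ n
      obtain ⟨i, -, hi⟩ := hc.trans Ω ξ (s (fib g ξ z)) z (Function.surjInv_eq (hc.surj Ω ξ) _)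
      conv in br ξ z => rw [← hi]
      exact hstep i _
  simpa [h0] using key c

/-- Classes killed by a cyclic covering vanish. -/
theorem eq_zero_of_comp_eq_zero (F : EtCoh.Ab X) (h90 : H90 σ l F) (hN : NSurj g σ l F) (q : ℕ)
    (hV : ∀ n, 1 ≤ n → n < q → Subsingleton (Ext (free V) F n))
    (hW : ∀ n, 1 ≤ n → n < q → Subsingleton (Ext (free W) F n))
    (x : Ext (free W) F q) (hq : 1 ≤ q) (hx : (Ext.mk₀ (fmap g)).comp x (zero_add q) = 0) : x = 0 := by
  haveI := epi_fmap g hc.surj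
  haveI := hc.mono_tr
  let S₁ : ShortComplex (EtCoh.Ab X) := ShortComplex.mk hc.tr (cokernel.π hc.tr) (cokernel.condition _)
  have hS₁ : S₁.ShortExact :=
    { exact := ShortComplex.exact_of_g_is_cokernel S₁ (cokernelIsCokernel _)
      mono_f := ‹Mono hc.tr›
      epi_g := inferInstanceAs (Epi (cokernel.π hc.tr)) }
  let d : cokernel hc.tr ⟶ free V := cokernel.desc _ (fmap σ - 𝟙 (free V)) hc.tr_comp_sub
  have hd : cokernel.π hc.tr ≫ d = fmap σ - 𝟙 (free V) := cokernel.π_desc _ _ _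
  let S₂ : ShortComplex (EtCoh.Ab X) := ShortComplex.mk d (fmap g) (by
    rw [← cancel_epi (cokernel.π hc.tr), ← Category.assoc, hd, hc.fmap_sub_comp, comp_zero])
  let χ : ShortComplex.mk (fmap σ - 𝟙 (free V)) (fmap g) hc.fmap_sub_comp ⟶ S₂ :=
    { τ₁ := cokernel.π hc.tr, τ₂ := 𝟙 _, τ₃ := 𝟙 _,
      comm₁₂ := hd.trans (Category.comp_id _).symm,
      comm₂₃ := (Category.id_comp _).trans (Category.comp_id _).symm }
  haveI : Epi χ.τ₁ := inferInstanceAs (Epi (cokernel.π hc.tr))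
  haveI : IsIso χ.τ₂ := inferInstanceAs (IsIso (𝟙 _))
  haveI : Mono χ.τ₃ := inferInstanceAs (Mono (𝟙 _))
  have hS₂ : S₂.ShortExact :=
    { exact := (ShortComplex.exact_iff_of_epi_of_isIso_of_mono χ).1 hc.exact_right
      mono_f := hc.exact_left.mono_cokernelDesc
      epi_g := inferInstanceAs (Epi (fmap g)) }
  obtain ⟨r, rfl⟩ : ∃ r, q = r + 1 := ⟨q - 1, by omega⟩
  obtain ⟨y, rfl⟩ := Ext.contravariant_sequence_exact₃ hS₂ F x hx (n₀ := r) (add_comm 1 r)
  rcases Nat.eq_zero_or_pos r with rfl | hr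
  · obtain ⟨y, rfl⟩ := (Ext.mk₀_bijective _ _).2 y
    let f : free V ⟶ F := cokernel.π hc.tr ≫ y
    have hf : sumPow σ l ≫ f = 0 := by
      rw [← hc.fmap_tr, Category.assoc, show hc.tr ≫ f = 0 by rw [← Category.assoc, cokernel.condition, zero_comp],
        comp_zero]
    obtain ⟨ψ, hψ⟩ := h90 f hf
    have hy : y = d ≫ ψ := (cancel_epi (cokernel.π hc.tr)).1 (by rw [← Category.assoc, hd, hψ])
    rw [hy, ← Ext.mk₀_comp_mk₀]
    exact hS₂.extClass_comp_assoc _
  · obtain ⟨z, hz⟩ := Ext.contravariant_sequence_exact₃ hS₁ F y ((hV r hr (by omega)).elim _ _) (n₀ := r - 1) (by omega)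
    rcases Nat.eq_zero_or_pos (r - 1) with h1 | h1
    · obtain rfl : r = 1 := by omega
      obtain ⟨b, rfl⟩ := (Ext.mk₀_bijective _ _).2 z
      obtain ⟨φ, hφ⟩ := hN b
      have hb : b = hc.tr ≫ φ := (cancel_epi (fmap g)).1 (by rw [← Category.assoc, hc.fmap_tr]; exact hφ.symm)
      have hy : y = 0 := by
        rw [← hz, hb, ← Ext.mk₀_comp_mk₀]
        exact hS₁.extClass_comp_assoc _
      rw [hy, Ext.comp_zero]
    · have hy : y = 0 := by rw [← hz, (hW (r - 1) h1 (by omega)).elim z 0, Ext.comp_zero]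
      rw [hy, Ext.comp_zero]

end IsCyclicCover

end Groth.Agent.CurveCd
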