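import Groth.Agent.CurveCd.FieldGm
import Groth.Agent.EtFound.CoprodSections
import Groth.Agent.EtFound.QcqsObjects
import Groth.Agent.AlgSpDec.OneFlat
import Mathlib.AlgebraicGeometry.Morphisms.QuasiFinite

/-!
# Free sheaves of compact étale schemes over a field
-/

set_option autoImplicit false
set_option linter.style.haveILetI false
set_option linter.unusedSectionVars false
set_option backward.isDefEq.respectTransparency false
set_option backward.isDefEq.respectTransparency.types false

universe u

open CategoryTheory CategoryTheory.Limits AlgebraicGeometry Opposite Abelian TopologicalSpace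

noncomputable section

namespace Groth.Agent.CurveCd

variable {X : Scheme.{u}}

/-- Classes on a finite disjoint union are detected on the pieces. -/
theorem subsingleton_ext_of_pieces {W : X.Etale} {ι : Type u} [Finite ι] (Z : ι → X.Etale)
    (g : ∀ i, Z i ⟶ W) [∀ i, Mono (g i)]
    (hcov : ∀ x : W.left, ∃ (i : ι) (z : (Z i).left), (g i).left.base z = x)
    (hdisj : ∀ i j, i ≠ j → ∀ a b, (g i).left.base a ≠ (g j).left.base b)
    (F : EtCoh.Ab X) (q : ℕ) (h : ∀ i, Subsingleton (Ext (free (Z i)) F q)) :
    Subsingleton (Ext (free W) F q) := by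
  classical
  haveI := Fintype.ofFinite ι
  choose π hπ using fun j => (EtFound.bijective_sections_of_disjoint (free (Z j)) Z g hcov hdisj).2
    (fun i => if e : i = j then sec (eqToHom (congrArg (fun i => free (Z i)) e)) else 0)
  have hlift : ∀ i j, fmap (g i) ≫ lift (π j) =
      if e : i = j then eqToHom (congrArg (fun i => free (Z i)) e) else 0 := fun i j => sec_injective (by
    rw [sec_fmap_comp, sec_lift]
    refine (congrFun (hπ j) i).trans ?_
    split_ifs with e
    · rfl
    · exact (map_zero _).symm)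
  have hid : ∑ j, lift (π j) ≫ fmap (g j) = 𝟙 (free W) := by
    refine sec_injective ((EtFound.bijective_sections_of_disjoint (free W) Z g hcov hdisj).1 (funext fun i => ?_))
    refine (sec_fmap_comp (g i) _).symm.trans (Eq.trans ?_ (sec_fmap_comp (g i) _))
    refine congrArg sec ?_
    rw [Category.comp_id, Preadditive.comp_sum, Finset.sum_eq_single i]
    · rw [← Category.assoc, hlift, dif_pos rfl, eqToHom_refl, Category.id_comp]
    · intro j _ hj
      rw [← Category.assoc, hlift, dif_neg (Ne.symm hj), zero_comp]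
    · exact fun hi => absurd (Finset.mem_univ i) hi
  refine subsingleton_of_forall_eq 0 fun x => ?_
  rw [← Ext.mk₀_id_comp x, ← hid]
  rw [show Ext.mk₀ (∑ j, lift (π j) ≫ fmap (g j)) = ∑ j, Ext.mk₀ (lift (π j) ≫ fmap (g j)) from
    map_sum (Ext.addEquiv₀.symm : (free W ⟶ free W) ≃+ _) _ _]
  refine (map_sum ((Ext.bilinearComp (free W) (free W) F 0 q q (zero_add q)).flip x) _ _).trans
    (Finset.sum_eq_zero fun j _ => ?_)
  show (Ext.mk₀ (lift (π j) ≫ fmap (g j))).comp x (zero_add q) = 0
  rw [← Ext.mk₀_comp_mk₀_assoc, (h j).elim ((Ext.mk₀ (fmap (g j))).comp x (zero_add q)) 0, Ext.comp_zero]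

/-- On compact étale schemes over a field it is enough to treat points. -/
theorem subsingleton_ext_compact {K : Type u} [Field K] (F : EtCoh.Ab (Spec (CommRingCat.of K))) (q : ℕ)
    (h : ∀ (E : Type u) [Field E] (e : Spec (CommRingCat.of E) ⟶ Spec (CommRingCat.of K)) [Etale e],
      Subsingleton (Ext (free (pt e)) F q))
    (W : (Spec (CommRingCat.of K)).Etale) [CompactSpace W.left] : Subsingleton (Ext (free W) F q) := by
  let f : W.left ⟶ Spec (CommRingCat.of K) := W.hom
  haveI : Etale f := W.prop
  haveI : IsReduced W.left := @AlgSpDec.isReduced_of_etaleMor W.left _ f ‹_› inferInstance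
  haveI : DiscreteTopology W.left := by
    haveI := (f.isDiscrete_preimage_singleton default).to_subtype
    let e : (f ⁻¹' {(default : Spec (CommRingCat.of K))} : Set W.left) ≃ₜ W.left :=
      (Homeomorph.setCongr (Set.eq_univ_of_forall fun w => Subsingleton.elim (α := Spec (CommRingCat.of K)) _ _)).trans
        (Homeomorph.Set.univ W.left)
    exact e.symm.isEmbedding.discreteTopology
  haveI : Finite W.left := finite_of_compact_of_discrete
  let O : W.left → W.left.Opens := fun w => ⟨{w}, isOpen_discrete _⟩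
  have haff : ∀ w, IsAffineOpen (O w) := fun w => by
    obtain ⟨A, hA, hwA, hAO⟩ := exists_isAffineOpen_mem_and_subset (U := O w) (x := w) rfl
    rwa [show O w = A from le_antisymm (fun x hx => (show x = w from hx) ▸ hwA) hAO]
  have hfield : ∀ w, IsField Γ(W.left, O w) := fun w => by
    haveI : Subsingleton (O w).toScheme := ⟨fun a b => Subtype.ext ((show a.1 = w from a.2).trans (show b.1 = w from b.2).symm)⟩
    haveI : Nonempty (O w).toScheme := ⟨⟨w, rfl⟩⟩
    haveI : Subsingleton (PrimeSpectrum Γ(W.left, O w)) :=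
      ((haff w).isoSpec.inv.homeomorph.toEquiv).subsingleton
    haveI : Nonempty (PrimeSpectrum Γ(W.left, O w)) := ⟨(haff w).isoSpec.hom.base ⟨w, rfl⟩⟩
    haveI : Nontrivial Γ(W.left, O w) := PrimeSpectrum.nonempty_iff_nontrivial.1 ‹_›
    haveI : IsReduced Γ(W.left, O w) := inferInstance
    obtain ⟨P⟩ := (inferInstance : Nonempty (PrimeSpectrum Γ(W.left, O w)))
    have hP : P.asIdeal = ⊥ := by
      rw [← Ideal.zero_eq_bot, ← nilradical_eq_zero Γ(W.left, O w), nilradical_eq_sInf]
      exact le_antisymm (le_sInf fun J hJ => (congrArg PrimeSpectrum.asIdeal (Subsingleton.elim P ⟨J, hJ⟩)).le)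
        (sInf_le P.2)
    refine Ring.isField_iff_maximal_bot.2 ?_
    rw [← hP]
    obtain ⟨M, hM⟩ := Ideal.exists_maximal Γ(W.left, O w)
    rw [congrArg PrimeSpectrum.asIdeal (Subsingleton.elim P ⟨M, hM.isPrime⟩)]
    exact hM
  letI fE : ∀ w, Field Γ(W.left, O w) := fun w => (hfield w).toField
  let e : ∀ w, Spec (CommRingCat.of Γ(W.left, O w)) ⟶ Spec (CommRingCat.of K) := fun w =>
    ((haff w).isoSpec.inv ≫ (O w).ι) ≫ f
  haveI : ∀ w, Etale (e w) := fun w => inferInstance
  let g : ∀ w, pt (e w) ⟶ W := fun w => MorphismProperty.Over.homMk ((haff w).isoSpec.inv ≫ (O w).ι) rfl trivial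
  haveI : ∀ w, Mono (g w) := fun w =>
    (Scheme.Etale.forget _ ⋙ CategoryTheory.Over.forget _).mono_of_mono_map
      (inferInstanceAs (Mono ((haff w).isoSpec.inv ≫ (O w).ι)))
  have himg : ∀ w a, (g w).left.base a = w := fun w a => ((haff w).isoSpec.inv.base a).2
  refine subsingleton_ext_of_pieces (fun w => pt (e w)) g (fun x => ⟨x, (haff x).isoSpec.hom.base ⟨x, rfl⟩, himg x _⟩)
    (fun i j hij a b hab => hij ((himg i a).symm.trans (hab.trans (himg j b)))) F q fun w => h _ (e w)

end Groth.Agent.CurveCd
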