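import Groth.Agent.CurveCd.FreeEt
import Groth.Agent.EtFound.ConstVal

/-!
# Cohomology classes die on étale covers
-/

set_option autoImplicit false
set_option linter.style.haveILetI false
set_option linter.unusedSectionVars false
set_option backward.isDefEq.respectTransparency false
set_option backward.isDefEq.respectTransparency.types false

universe u

open CategoryTheory CategoryTheory.Limits AlgebraicGeometry Opposite Abelian

noncomputable section

namespace Groth.Agent.CurveCd

variable {X : Scheme.{u}}

theorem exists_efface (q : ℕ) : ∀ (F : EtCoh.Ab X) (W : X.Etale) (x : Ext (free W) F (q + 1)) (w : W.left),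
    ∃ (V : X.Etale) (g : V ⟶ W) (v : V.left), g.left v = w ∧ (Ext.mk₀ (fmap g)).comp x (zero_add (q + 1)) = 0 := by
  induction q with
  | zero =>
    intro F W x w
    let S : ShortComplex (EtCoh.Ab X) :=
      ShortComplex.mk (Injective.ι F) (cokernel.π (Injective.ι F)) (cokernel.condition _)
    have hS : S.ShortExact :=
      { exact := ShortComplex.exact_of_g_is_cokernel S (cokernelIsCokernel _)
        mono_f := inferInstanceAs (Mono (Injective.ι F))
        epi_g := inferInstanceAs (Epi (cokernel.π (Injective.ι F))) }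
    haveI : Injective S.X₂ := inferInstanceAs (Injective (Injective.under F))
    obtain ⟨y, rfl⟩ := Ext.covariant_sequence_exact₁ (free W) hS x (Ext.eq_zero_of_injective _) rfl
    obtain ⟨s, rfl⟩ := (Ext.mk₀_bijective _ _).2 y
    haveI : Epi S.g := hS.epi_g
    have hloc : Presheaf.IsLocallySurjective X.smallEtaleTopology S.g.hom :=
      (Sheaf.isLocallySurjective_iff_epi' (J := X.smallEtaleTopology) AddCommGrpCat.{u + 1} S.g).2 inferInstance
    obtain ⟨V, g, v, ⟨t, ht⟩, hv⟩ := (EtFound.mem_topology_iff _).1 (hloc.imageSieve_mem (sec s)) w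
    refine ⟨V, g, v, hv, ?_⟩
    have h : fmap g ≫ s = lift t ≫ S.g := sec_injective (by
      rw [sec_fmap_comp, sec_comp, sec_lift]
      exact ht.symm)
    rw [← Ext.comp_assoc_of_second_deg_zero (α := Ext.mk₀ (fmap g)) (β := Ext.mk₀ s) (γ := hS.extClass) (h₁₃ := zero_add 1),
      Ext.mk₀_comp_mk₀, h, ← Ext.mk₀_comp_mk₀, Ext.comp_assoc_of_second_deg_zero, hS.comp_extClass, Ext.comp_zero]
  | succ q ih =>
    intro F W x w
    let S : ShortComplex (EtCoh.Ab X) :=
      ShortComplex.mk (Injective.ι F) (cokernel.π (Injective.ι F)) (cokernel.condition _)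
    have hS : S.ShortExact :=
      { exact := ShortComplex.exact_of_g_is_cokernel S (cokernelIsCokernel _)
        mono_f := inferInstanceAs (Mono (Injective.ι F))
        epi_g := inferInstanceAs (Epi (cokernel.π (Injective.ι F))) }
    haveI : Injective S.X₂ := inferInstanceAs (Injective (Injective.under F))
    obtain ⟨y, rfl⟩ := Ext.covariant_sequence_exact₁ (free W) hS x (Ext.eq_zero_of_injective _) rfl
    obtain ⟨V, g, v, hv, hy⟩ := ih S.X₃ W y w
    refine ⟨V, g, v, hv, ?_⟩
    rw [← Ext.comp_assoc (α := Ext.mk₀ (fmap g)) (β := y) (γ := hS.extClass) (zero_add (q + 1)) rfl (by omega), hy,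
      Ext.zero_comp]

end Groth.Agent.CurveCd
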