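import Groth.Agent.CurveCd.CyclicStep
import Mathlib.FieldTheory.Galois.Basic
import Mathlib.FieldTheory.IsAlgClosed.AlgebraicClosure
import Mathlib.GroupTheory.SpecificGroups.Cyclic
import Mathlib.AlgebraicGeometry.Morphisms.Etale

/-!
# Spectra of fields in the small étale site
-/

set_option autoImplicit false
set_option linter.style.haveILetI false
set_option linter.unusedSectionVars false
set_option backward.isDefEq.respectTransparency false
set_option backward.isDefEq.respectTransparency.types false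

universe u

open CategoryTheory CategoryTheory.Limits AlgebraicGeometry Opposite

noncomputable section

namespace Groth.Agent.CurveCd

variable {X : Scheme.{u}}

/-- An étale point as an object of the site. -/
abbrev pt {E : Type u} [Field E] (e : Spec (CommRingCat.of E) ⟶ X) [Etale e] : X.Etale := Scheme.Etale.mk e

section

variable {E F : Type u} [Field E] [Field F]

/-- The morphism of points given by a map of fields. -/
def ptMap (φ : E →+* F) {e : Spec (CommRingCat.of E) ⟶ X} [Etale e] {e' : Spec (CommRingCat.of F) ⟶ X} [Etale e']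
    (h : Spec.map (CommRingCat.ofHom φ) ≫ e = e') : pt e' ⟶ pt e :=
  MorphismProperty.Over.homMk (Spec.map (CommRingCat.ofHom φ)) h trivial

theorem ptMap_comp {G : Type u} [Field G] (φ : E →+* F) (ψ : F →+* G) {e : Spec (CommRingCat.of E) ⟶ X} [Etale e]
    {e' : Spec (CommRingCat.of F) ⟶ X} [Etale e'] {e'' : Spec (CommRingCat.of G) ⟶ X} [Etale e'']
    (h : Spec.map (CommRingCat.ofHom φ) ≫ e = e') (h' : Spec.map (CommRingCat.ofHom ψ) ≫ e' = e'')
    (h'' : Spec.map (CommRingCat.ofHom (ψ.comp φ)) ≫ e = e'') :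
    ptMap ψ h' ≫ ptMap φ h = ptMap (ψ.comp φ) h'' :=
  MorphismProperty.Over.Hom.ext (by
    show Spec.map (CommRingCat.ofHom ψ) ≫ Spec.map (CommRingCat.ofHom φ) = _
    rw [← Spec.map_comp]
    rfl)

variable {Ω : Type u} [Field Ω] [IsSepClosed Ω] (ξ : Spec (CommRingCat.of Ω) ⟶ X)

/-- The map of fields of a geometric point. -/
def toHom {e : Spec (CommRingCat.of E) ⟶ X} [Etale e] (z : Pts ξ (pt e)) : E →+* Ω :=
  (Spec.preimage (z.left : Spec (CommRingCat.of Ω) ⟶ Spec (CommRingCat.of E))).hom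

theorem toHom_injective {e : Spec (CommRingCat.of E) ⟶ X} [Etale e] :
    Function.Injective (toHom ξ (e := e)) := fun a b h =>
  CategoryTheory.Over.OverMorphism.ext (Spec.homEquiv.injective (CommRingCat.hom_ext h))

theorem toHom_fib (φ : E →+* F) {e : Spec (CommRingCat.of E) ⟶ X} [Etale e] {e' : Spec (CommRingCat.of F) ⟶ X}
    [Etale e'] (h : Spec.map (CommRingCat.ofHom φ) ≫ e = e') (z : Pts ξ (pt e')) :
    toHom ξ (fib (ptMap φ h) ξ z) = (toHom ξ z).comp φ := by
  show (Spec.preimage ((z.left : Spec (CommRingCat.of Ω) ⟶ Spec (CommRingCat.of F)) ≫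
    Spec.map (CommRingCat.ofHom φ))).hom = _
  rw [Spec.preimage_comp, Spec.preimage_map]
  rfl

theorem exists_pts_over (φ : E →+* F) {e : Spec (CommRingCat.of E) ⟶ X} [Etale e]
    {e' : Spec (CommRingCat.of F) ⟶ X} [Etale e'] (h : Spec.map (CommRingCat.ofHom φ) ≫ e = e')
    (w : Pts ξ (pt e)) (χ : F →+* Ω) (hχ : χ.comp φ = toHom ξ w) :
    ∃ z : Pts ξ (pt e'), fib (ptMap φ h) ξ z = w ∧ toHom ξ z = χ := by
  have hw : (w.left : Spec (CommRingCat.of Ω) ⟶ Spec (CommRingCat.of E)) ≫ e = ξ := CategoryTheory.Over.w w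
  have hw' : (w.left : Spec (CommRingCat.of Ω) ⟶ Spec (CommRingCat.of E)) =
      Spec.map (CommRingCat.ofHom χ) ≫ Spec.map (CommRingCat.ofHom φ) := by
    rw [← Spec.map_comp]
    refine (Spec.map_preimage (w.left : Spec (CommRingCat.of Ω) ⟶ Spec (CommRingCat.of E))).symm.trans ?_
    exact congrArg Spec.map (CommRingCat.hom_ext hχ.symm)
  let z : Pts ξ (pt e') := CategoryTheory.Over.homMk (Spec.map (CommRingCat.ofHom χ)) (by
    show Spec.map (CommRingCat.ofHom χ) ≫ e' = ξ
    rw [← h, ← Category.assoc, ← hw', hw])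
  refine ⟨z, toHom_injective ξ ?_, ?_⟩
  · rw [toHom_fib]
    show (Spec.preimage (Spec.map (CommRingCat.ofHom χ))).hom.comp φ = _
    rw [Spec.preimage_map]
    exact hχ
  · show (Spec.preimage (Spec.map (CommRingCat.ofHom χ))).hom = χ
    rw [Spec.preimage_map]
    rfl

end

section Galois

variable {E L : Type u} [Field E] [Field L] [Algebra E L] [FiniteDimensional E L]
  (e : Spec (CommRingCat.of E) ⟶ X) [Etale e]

/-- The structure morphism of a finite extension. -/
abbrev extHom (L : Type u) [Field L] [Algebra E L] : Spec (CommRingCat.of L) ⟶ X :=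
  Spec.map (CommRingCat.ofHom (algebraMap E L)) ≫ e

theorem etale_specMap [Algebra.IsSeparable E L] : Etale (Spec.map (CommRingCat.ofHom (algebraMap E L))) := by
  haveI : Algebra.FormallyEtale E L := Algebra.FormallyEtale.of_isSeparable E L
  haveI : Algebra.FinitePresentation E L := Algebra.FinitePresentation.of_finiteType.mp inferInstance
  haveI : Algebra.Etale E L := ⟨inferInstance, inferInstance⟩
  rw [HasRingHomProperty.Spec_iff (P := @Etale), CommRingCat.hom_ofHom, RingHom.etale_algebraMap]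
  infer_instance

theorem etale_extHom [Algebra.IsSeparable E L] : Etale (extHom e L) := by
  haveI := etale_specMap (E := E) (L := L)
  exact inferInstance

variable [Etale (extHom e L)]

/-- The covering morphism. -/
abbrev covMap : pt (extHom e L) ⟶ pt e := ptMap (algebraMap E L) rfl

/-- The automorphism of a point given by a Galois automorphism. -/
def autMap (s : Gal(L/E)) : pt (extHom e L) ⟶ pt (extHom e L) :=
  ptMap (s : L →+* L) (by
    show Spec.map _ ≫ Spec.map (CommRingCat.ofHom (algebraMap E L)) ≫ e = _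
    rw [← Category.assoc, ← Spec.map_comp, ← CommRingCat.ofHom_comp]
    exact congrArg (fun r => Spec.map (CommRingCat.ofHom r) ≫ e) (AlgHom.comp_algebraMap (s : L →ₐ[E] L)))

theorem toHom_autMap {Ω : Type u} [Field Ω] [IsSepClosed Ω] (ξ : Spec (CommRingCat.of Ω) ⟶ X) (s : Gal(L/E))
    (z : Pts ξ (pt (extHom e L))) : toHom ξ (fib (autMap e s) ξ z) = (toHom ξ z).comp (s : L →+* L) :=
  toHom_fib ξ _ _ z

variable [IsGalois E L]

theorem surj_covMap : IsSurjPts (covMap (L := L) e) := fun Ω _ _ ξ w => by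
  letI := (toHom ξ w).toAlgebra
  obtain ⟨z, hz, -⟩ := exists_pts_over ξ (algebraMap E L) (e' := extHom e L) rfl w
    (IsSepClosed.lift (K := E) (L := L) (M := Ω)).toRingHom
    (AlgHom.comp_algebraMap (IsSepClosed.lift (K := E) (L := L) (M := Ω)))
  exact ⟨z, hz⟩

theorem exists_autMap_eq {Ω : Type u} [Field Ω] [IsSepClosed Ω] (ξ : Spec (CommRingCat.of Ω) ⟶ X)
    (z z' : Pts ξ (pt (extHom e L))) (h : fib (covMap e) ξ z = fib (covMap e) ξ z') :
    ∃ s : Gal(L/E), fib (autMap e s) ξ z = z' := by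
  have h' : (toHom ξ z).comp (algebraMap E L) = (toHom ξ z').comp (algebraMap E L) :=
    (toHom_fib ξ _ _ z).symm.trans ((congrArg (toHom ξ) h).trans (toHom_fib ξ _ _ z'))
  let Ω' := AlgebraicClosure Ω
  let a : L →+* Ω' := (algebraMap Ω Ω').comp (toHom ξ z)
  let b : L →+* Ω' := (algebraMap Ω Ω').comp (toHom ξ z')
  letI : Algebra L Ω' := a.toAlgebra
  letI : Algebra E Ω' := (a.comp (algebraMap E L)).toAlgebra
  haveI : IsScalarTower E L Ω' := IsScalarTower.of_algebraMap_eq' rfl
  let φ : L →ₐ[E] Ω' :=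
    { b with
      commutes' := fun r => congrArg (algebraMap Ω Ω') (RingHom.congr_fun h' r).symm }
  refine ⟨φ.restrictNormal' L, toHom_injective ξ (RingHom.ext fun x => (algebraMap Ω Ω').injective ?_)⟩
  rw [toHom_autMap]
  exact φ.restrictNormal_commutes L x

theorem autMap_eq_one {Ω : Type u} [Field Ω] [IsSepClosed Ω] (ξ : Spec (CommRingCat.of Ω) ⟶ X)
    (z : Pts ξ (pt (extHom e L))) (s : Gal(L/E)) (h : fib (autMap e s) ξ z = z) : s = 1 := by
  refine AlgEquiv.ext fun x => (toHom ξ z).injective ?_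
  exact RingHom.congr_fun ((toHom_autMap e ξ s z).symm.trans (congrArg (toHom ξ) h)) x

theorem fib_autMap_mul {Ω : Type u} [Field Ω] [IsSepClosed Ω] (ξ : Spec (CommRingCat.of Ω) ⟶ X) (s t : Gal(L/E))
    (z : Pts ξ (pt (extHom e L))) : fib (autMap e (s * t)) ξ z = fib (autMap e t) ξ (fib (autMap e s) ξ z) := by
  refine toHom_injective ξ ?_
  rw [toHom_autMap, toHom_autMap, toHom_autMap]
  rfl

theorem fib_autMap_one {Ω : Type u} [Field Ω] [IsSepClosed Ω] (ξ : Spec (CommRingCat.of Ω) ⟶ X)
    (z : Pts ξ (pt (extHom e L))) : fib (autMap e (1 : Gal(L/E))) ξ z = z := by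
  refine toHom_injective ξ ?_
  rw [toHom_autMap]
  rfl

theorem iterate_autMap {Ω : Type u} [Field Ω] [IsSepClosed Ω] (ξ : Spec (CommRingCat.of Ω) ⟶ X) (s : Gal(L/E))
    (i : ℕ) (z : Pts ξ (pt (extHom e L))) : (fib (autMap e s) ξ)^[i] z = fib (autMap e (s ^ i)) ξ z := by
  induction i with
  | zero => rw [pow_zero, fib_autMap_one]; rfl
  | succ i hi => rw [Function.iterate_succ_apply', hi, pow_succ, fib_autMap_mul]

/-- A generator of a cyclic Galois group gives a cyclic covering. -/
theorem isCyclicCover (σ : Gal(L/E)) (hσ : ∀ t, t ∈ Subgroup.zpowers σ) :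
    IsCyclicCover (covMap e) (autMap e σ) (orderOf σ) where
  pos := orderOf_pos σ
  comp := MorphismProperty.Over.Hom.ext (by
    show Spec.map _ ≫ Spec.map (CommRingCat.ofHom (algebraMap E L)) = Spec.map (CommRingCat.ofHom (algebraMap E L))
    rw [← Spec.map_comp, ← CommRingCat.ofHom_comp]
    exact congrArg (fun r => Spec.map (CommRingCat.ofHom r)) (AlgHom.comp_algebraMap (σ : L →ₐ[E] L)))
  surj := surj_covMap e
  period Ω _ _ ξ z := by rw [iterate_autMap, pow_orderOf_eq_one, fib_autMap_one]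
  trans Ω _ _ ξ z z' h := by
    obtain ⟨s, hs⟩ := exists_autMap_eq e ξ z z' h
    obtain ⟨n, hn⟩ := (isOfFinOrder_of_finite σ).mem_powers_iff_mem_zpowers.2 (hσ s)
    exact ⟨n % orderOf σ, Nat.mod_lt _ (orderOf_pos σ), by
      rw [iterate_autMap, pow_mod_orderOf, show σ ^ n = s from hn]; exact hs⟩
  free_act Ω _ _ ξ z i hi h := by
    by_contra h0
    exact absurd (autMap_eq_one e ξ z _ ((iterate_autMap e ξ σ i z).symm.trans h))
      (pow_ne_one_of_lt_orderOf h0 hi)

end Galois

end Groth.Agent.CurveCd
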