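import Groth.Agent.H9Transfer.Basic
import Groth.Agent.EtFound.Stalk
import Groth.Agent.EtFound.Germ

/-!
# Free sheaves on objects of the small étale site
-/

set_option autoImplicit false
set_option linter.style.haveILetI false
set_option backward.isDefEq.respectTransparency false
set_option backward.isDefEq.respectTransparency.types false

universe u

open CategoryTheory CategoryTheory.Limits AlgebraicGeometry Opposite

noncomputable section

namespace Groth.Agent.CurveCd

variable {X : Scheme.{u}}

/-- The free presheaf on an object. -/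
abbrev freeP (W : X.Etale) : X.Etaleᵒᵖ ⥤ AddCommGrpCat.{u + 1} :=
  yoneda.obj W ⋙ uliftFunctor.{u + 1} ⋙ AddCommGrpCat.free.{u + 1}

/-- The free sheaf on an object. -/
def free (W : X.Etale) : EtCoh.Ab X :=
  (presheafToSheaf X.smallEtaleTopology AddCommGrpCat.{u + 1}).obj (freeP W)

/-- The unit to the free sheaf. -/
def toFree (W : X.Etale) : freeP W ⟶ (free W).obj := toSheafify X.smallEtaleTopology (freeP W)

/-- A morphism as an element of the free presheaf. -/
def ofHom {U W : X.Etale} (f : U ⟶ W) : (freeP W).obj (op U) := FreeAbelianGroup.of (ULift.up f)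

/-- The universal section. -/
def univ (W : X.Etale) : (free W).obj.obj (op W) := ((toFree W).app (op W)).hom (ofHom (𝟙 W))

/-- The evaluation of morphisms out of a free sheaf. -/
def sec {W : X.Etale} {F : EtCoh.Ab X} : (free W ⟶ F) →+ F.obj.obj (op W) :=
  AddMonoidHom.mk' (fun φ => (φ.hom.app (op W)).hom (univ W)) (fun _ _ => rfl)

theorem map_ofHom {U V W : X.Etale} (a : V ⟶ U) (f : U ⟶ W) :
    ((freeP W).map a.op).hom (ofHom f) = ofHom (a ≫ f) :=
  FreeAbelianGroup.map_of_apply _

theorem app_ofHom {U W : X.Etale} {F : EtCoh.Ab X} (φ : free W ⟶ F) (f : U ⟶ W) :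
    (φ.hom.app (op U)).hom (((toFree W).app (op U)).hom (ofHom f)) = (F.obj.map f.op).hom (sec φ) := by
  have h : ofHom f = ((freeP W).map f.op).hom (ofHom (𝟙 W)) := by rw [map_ofHom, Category.comp_id]
  rw [h, NatTrans.naturality_apply, NatTrans.naturality_apply]
  rfl

theorem sec_injective {W : X.Etale} {F : EtCoh.Ab X} : Function.Injective (sec (W := W) (F := F)) := by
  intro φ ψ h
  refine ((sheafificationAdjunction X.smallEtaleTopology AddCommGrpCat.{u + 1}).homEquiv _ _).injective ?_
  refine NatTrans.ext (funext fun U => ?_)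
  refine AddCommGrpCat.hom_ext (FreeAbelianGroup.lift_ext _ _ ?_)
  rintro ⟨f⟩
  exact (app_ofHom φ f).trans ((congrArg (F.obj.map f.op).hom h).trans (app_ofHom ψ f).symm)

/-- The presheaf morphism given by a section. -/
def liftNat {W : X.Etale} {F : EtCoh.Ab X} (s : F.obj.obj (op W)) : freeP W ⟶ F.obj where
  app U := AddCommGrpCat.ofHom (FreeAbelianGroup.lift fun f => (F.obj.map f.down.op).hom s)
  naturality U V a := by
    refine AddCommGrpCat.hom_ext (FreeAbelianGroup.lift_ext _ _ ?_)
    rintro ⟨f⟩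
    refine (congrArg (FreeAbelianGroup.lift fun f : ULift.{u + 1} (V.unop ⟶ W) => (F.obj.map f.down.op).hom s)
      (FreeAbelianGroup.map_of_apply (ULift.up f))).trans ?_
    rw [FreeAbelianGroup.lift_apply_of]
    refine Eq.trans ?_ (congrArg (F.obj.map a).hom (FreeAbelianGroup.lift_apply_of _ (ULift.up f)).symm)
    show (F.obj.map (a.unop ≫ f).op).hom s = _
    rw [op_comp, Functor.map_comp]
    rfl

/-- The morphism out of a free sheaf given by a section. -/
def lift {W : X.Etale} {F : EtCoh.Ab X} (s : F.obj.obj (op W)) : free W ⟶ F :=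
  ((sheafificationAdjunction X.smallEtaleTopology AddCommGrpCat.{u + 1}).homEquiv _ _).symm (liftNat s)

@[simp]
theorem sec_lift {W : X.Etale} {F : EtCoh.Ab X} (s : F.obj.obj (op W)) : sec (lift s) = s := by
  have h := congrArg (fun t : freeP W ⟶ F.obj => (t.app (op W)).hom (ofHom (𝟙 W)))
    (((sheafificationAdjunction X.smallEtaleTopology AddCommGrpCat.{u + 1}).homEquiv (freeP W) F).apply_symm_apply
      (liftNat s))
  refine Eq.trans h ((FreeAbelianGroup.lift_apply_of _ (ULift.up (𝟙 W))).trans ?_)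
  simp

theorem sec_comp {W : X.Etale} {F G : EtCoh.Ab X} (φ : free W ⟶ F) (ψ : F ⟶ G) :
    sec (φ ≫ ψ) = (ψ.hom.app (op W)).hom (sec φ) := rfl

/-- Functoriality of free sheaves. -/
def fmap {V W : X.Etale} (g : V ⟶ W) : free V ⟶ free W := lift (((toFree W).app (op V)).hom (ofHom g))

theorem sec_fmap_comp {V W : X.Etale} (g : V ⟶ W) {F : EtCoh.Ab X} (φ : free W ⟶ F) :
    sec (fmap g ≫ φ) = (F.obj.map g.op).hom (sec φ) := by
  rw [sec_comp, fmap, sec_lift]
  exact app_ofHom φ g

theorem fmap_comp {U V W : X.Etale} (f : U ⟶ V) (g : V ⟶ W) : fmap (f ≫ g) = fmap f ≫ fmap g := by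
  apply sec_injective
  rw [sec_fmap_comp, fmap, fmap, sec_lift, sec_lift, ← NatTrans.naturality_apply, map_ofHom]

theorem fmap_id (W : X.Etale) : fmap (𝟙 W) = 𝟙 (free W) := sec_injective (sec_lift _)

section Stalk

variable {Ω : Type u} [Field Ω] [IsSepClosed Ω] (ξ : Spec (CommRingCat.of Ω) ⟶ X)

/-- The geometric points of an object. -/
abbrev Pts (W : X.Etale) : Type u := (Scheme.pointSmallEtale ξ).fiber.obj W

/-- The stalk element of a geometric point. -/
def br {W : X.Etale} (z : Pts ξ W) : (EtCoh.stalk ξ).obj (free W) :=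
  ((Scheme.pointSmallEtale ξ).toPresheafFiber W z (free W).obj).hom (univ W)

theorem map_br {W : X.Etale} {F : EtCoh.Ab X} (φ : free W ⟶ F) (z : Pts ξ W) :
    ((EtCoh.stalk ξ).map φ).hom (br ξ z) = ((Scheme.pointSmallEtale ξ).toPresheafFiber W z F.obj).hom (sec φ) :=
  (Scheme.pointSmallEtale ξ).toPresheafFiber_naturality_apply φ.hom W z (univ W)

theorem fmap_br {V W : X.Etale} (g : V ⟶ W) (z : Pts ξ V) :
    ((EtCoh.stalk ξ).map (fmap g)).hom (br ξ z) = br ξ ((Scheme.pointSmallEtale ξ).fiber.map g z) := by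
  rw [map_br, fmap, sec_lift]
  have h : ofHom g = ((freeP W).map g.op).hom (ofHom (𝟙 W)) := by rw [map_ofHom, Category.comp_id]
  rw [h, NatTrans.naturality_apply]
  exact (Scheme.pointSmallEtale ξ).toPresheafFiber_w_apply g z (free W).obj (univ W)

/-- The comparison from finitely supported functions on points to the stalk. -/
def comb (W : X.Etale) : (Pts ξ W →₀ ℤ) →+ (EtCoh.stalk ξ).obj (free W) :=
  (Finsupp.linearCombination ℤ (br ξ)).toAddMonoidHom

@[simp]
theorem comb_single {W : X.Etale} (z : Pts ξ W) (n : ℤ) : comb ξ W (Finsupp.single z n) = n • br ξ z :=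
  Finsupp.linearCombination_single ℤ n z

theorem bijective_toFree (W : X.Etale) :
    Function.Bijective ((Scheme.pointSmallEtale ξ).presheafFiber.map (toFree W)) := by
  unfold toFree
  exact (Scheme.pointSmallEtale ξ).toPresheafFiber_map_bijective (toSheafify X.smallEtaleTopology (freeP W))

theorem comb_surjective (W : X.Etale) : Function.Surjective (comb ξ W) := by
  intro t
  obtain ⟨p, rfl⟩ := (bijective_toFree ξ W).2 t
  obtain ⟨U, u, s, rfl⟩ := (Scheme.pointSmallEtale ξ).toPresheafFiber_jointly_surjective p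
  rw [← Set.mem_range, ← AddMonoidHom.coe_range]
  refine FreeAbelianGroup.induction_on (motive := fun s => ((Scheme.pointSmallEtale ξ).presheafFiber.map (toFree W))
    (((Scheme.pointSmallEtale ξ).toPresheafFiber U u (freeP W)) s) ∈ (comb ξ W).range) s ?_ ?_ ?_ ?_
  · erw [map_zero, map_zero]
    exact zero_mem _
  · rintro ⟨f⟩
    refine ⟨Finsupp.single ((Scheme.pointSmallEtale ξ).fiber.map f u) 1, ?_⟩
    rw [comb_single, one_zsmul]
    refine ((Scheme.pointSmallEtale ξ).toPresheafFiber_w_apply f u (free W).obj (univ W)).symm.trans ?_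
    refine Eq.trans ?_ ((Scheme.pointSmallEtale ξ).toPresheafFiber_naturality_apply (toFree W) U u _).symm
    refine congrArg _ ?_
    refine (NatTrans.naturality_apply (toFree W) f.op (ofHom (𝟙 W))).symm.trans ?_
    rw [map_ofHom, Category.comp_id]
    rfl
  · intro f hf
    erw [map_neg, map_neg]
    exact neg_mem hf
  · intro a b ha hb
    erw [map_add, map_add]
    exact add_mem ha hb

theorem comb_injective (W : X.Etale) : Function.Injective (comb ξ W) := by
  classical
  intro c d hcd
  ext a
  let φ : ∀ (U : X.Etale) (_ : Pts ξ U), (freeP W).obj (op U) ⟶ AddCommGrpCat.of (ULift.{u + 1} ℤ) := fun U u =>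
    AddCommGrpCat.ofHom (FreeAbelianGroup.lift fun f =>
      ULift.up (if (Scheme.pointSmallEtale ξ).fiber.map f.down u = a then 1 else 0))
  have hφ : ∀ ⦃U V : X.Etale⦄ (f : U ⟶ V) (u : Pts ξ U),
      (freeP W).map f.op ≫ φ U u = φ V ((Scheme.pointSmallEtale ξ).fiber.map f u) := fun U V f u => by
    refine AddCommGrpCat.hom_ext (FreeAbelianGroup.lift_ext _ _ ?_)
    rintro ⟨h⟩
    show ((φ U u).hom) (((freeP W).map f.op).hom (FreeAbelianGroup.of (ULift.up h))) = _
    refine (congrArg (φ U u).hom (FreeAbelianGroup.map_of_apply (ULift.up h))).trans ?_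
    refine (FreeAbelianGroup.lift_apply_of _ _).trans ?_
    refine Eq.trans ?_ (FreeAbelianGroup.lift_apply_of _ _).symm
    show ULift.up (if (Scheme.pointSmallEtale ξ).fiber.map (f ≫ h) u = a then (1 : ℤ) else 0) = _
    rw [Functor.map_comp]
    rfl
  let e := (Scheme.pointSmallEtale ξ).presheafFiberDesc φ hφ
  let E := AddEquiv.ofBijective ((Scheme.pointSmallEtale ξ).presheafFiber.map (toFree W)).hom (bijective_toFree ξ W)
  let ev : (EtCoh.stalk ξ).obj (free W) →+ ℤ :=
    (AddEquiv.ulift.toAddMonoidHom).comp (e.hom.comp E.symm.toAddMonoidHom)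
  have hbr : ∀ z, ev (br ξ z) = if z = a then 1 else 0 := fun z => by
    have hz : E ((Scheme.pointSmallEtale ξ).toPresheafFiber W z (freeP W) (ofHom (𝟙 W))) = br ξ z :=
      (Scheme.pointSmallEtale ξ).toPresheafFiber_naturality_apply (toFree W) W z _
    show (e.hom (E.symm (br ξ z))).down = _
    rw [← hz, AddEquiv.symm_apply_apply]
    refine (congrArg ULift.down ((ConcreteCategory.congr_hom
      ((Scheme.pointSmallEtale ξ).toPresheafFiber_presheafFiberDesc φ hφ W z) (ofHom (𝟙 W))).trans
      (FreeAbelianGroup.lift_apply_of _ _))).trans ?_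
    simp
  have key : ev.comp (comb ξ W) = Finsupp.applyAddHom a := by
    refine Finsupp.addHom_ext fun z n => ?_
    rw [AddMonoidHom.comp_apply, comb_single, map_zsmul, hbr, Finsupp.applyAddHom_apply, Finsupp.single_apply]
    split <;> simp_all
  exact (DFunLike.congr_fun key c).symm.trans ((congrArg ev hcd).trans (DFunLike.congr_fun key d))

theorem fmap_comb {V W : X.Etale} (g : V ⟶ W) (c : Pts ξ V →₀ ℤ) :
    ((EtCoh.stalk ξ).map (fmap g)).hom (comb ξ V c) =
      comb ξ W (c.mapDomain ((Scheme.pointSmallEtale ξ).fiber.map g)) := by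
  induction c using Finsupp.induction_linear with
  | zero => rw [Finsupp.mapDomain_zero, map_zero, map_zero, map_zero]
  | add c d hc hd => rw [Finsupp.mapDomain_add, map_add, map_add, map_add, hc, hd]
  | single z n => rw [Finsupp.mapDomain_single, comb_single, comb_single, map_zsmul, fmap_br]

end Stalk

theorem hom_ext_stalk {F G : EtCoh.Ab X} (φ ψ : F ⟶ G)
    (h : ∀ (Ω : Type u) [Field Ω] [IsSepClosed Ω] (ξ : Spec (CommRingCat.of Ω) ⟶ X) (t : (EtCoh.stalk ξ).obj F),
      ((EtCoh.stalk ξ).map φ).hom t = ((EtCoh.stalk ξ).map ψ).hom t) : φ = ψ := by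
  refine Sheaf.hom_ext (NatTrans.ext (funext fun U => AddCommGrpCat.hom_ext (AddMonoidHom.ext fun s => ?_)))
  haveI := SiteBase.hasSheafCompose_forget.{u + 1} X.smallEtaleTopology
  refine (((isSheaf_iff_isSheaf_of_type _ _).1
    ((sheafCompose X.smallEtaleTopology (forget AddCommGrpCat.{u + 1})).obj G).property).isSeparated
    _ (EtFound.equalizerSieve_mem_of_germs G.obj U.unop _ _ fun Ω _ _ ξ z => ?_)).ext fun V g hg => hg
  exact ((Scheme.pointSmallEtale ξ).toPresheafFiber_naturality_apply φ.hom U.unop z s).symm.trans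
    ((h Ω ξ _).trans ((Scheme.pointSmallEtale ξ).toPresheafFiber_naturality_apply ψ.hom U.unop z s))

/-- Morphisms out of a free sheaf are determined by their values on points. -/
theorem hom_ext_points {W : X.Etale} {F : EtCoh.Ab X} (φ ψ : free W ⟶ F)
    (h : ∀ (Ω : Type u) [Field Ω] [IsSepClosed Ω] (ξ : Spec (CommRingCat.of Ω) ⟶ X) (z : Pts ξ W),
      ((EtCoh.stalk ξ).map φ).hom (br ξ z) = ((EtCoh.stalk ξ).map ψ).hom (br ξ z)) : φ = ψ := by
  refine hom_ext_stalk φ ψ fun Ω _ _ ξ t => ?_
  obtain ⟨c, rfl⟩ := comb_surjective ξ W t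
  induction c using Finsupp.induction_linear with
  | zero => simp
  | add c d hc hd => rw [map_add, map_add, map_add, hc, hd]
  | single z n => rw [comb_single, map_zsmul, map_zsmul, h Ω ξ z]

theorem top_hom_ext {V : X.Etale} (a b : V ⟶ EtCoh.top X) : a = b := by
  refine MorphismProperty.Over.Hom.ext ?_
  have h1 := MorphismProperty.Over.w a
  have h2 := MorphismProperty.Over.w b
  exact (Category.comp_id a.left).symm.trans (h1.trans (h2.symm.trans (Category.comp_id b.left)))

/-- The constant sheaf is free on the final object. -/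
def topIso : free (EtCoh.top X) ≅ H9Transfer.Zs X where
  hom := lift (H9Transfer.one X)
  inv := ((EtCore.constAdj X).homEquiv _ _).symm (AddCommGrpCat.ofHom
    ((zmultiplesHom _ (univ (EtCoh.top X))).comp (AddEquiv.ulift : ULift.{u + 1} ℤ ≃+ ℤ).toAddMonoidHom))
  hom_inv_id := by
    apply sec_injective
    rw [sec_comp, sec_lift]
    have h := ConcreteCategory.congr_hom (((EtCore.constAdj X).homEquiv_unit _ _ _).symm.trans
      (((EtCore.constAdj X).homEquiv _ _).apply_symm_apply (AddCommGrpCat.ofHom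
        ((zmultiplesHom ((free (EtCoh.top X)).obj.obj (op (EtCoh.top X))) (univ (EtCoh.top X))).comp
          (AddEquiv.ulift : ULift.{u + 1} ℤ ≃+ ℤ).toAddMonoidHom)))) (⟨1⟩ : ULift.{u + 1} ℤ)
    exact h.trans (one_zsmul _)
  inv_hom_id := by
    refine ((EtCore.constAdj X).homEquiv _ _).injective (AddCommGrpCat.hom_ext (AddMonoidHom.ext fun n => ?_))
    rw [(EtCore.constAdj X).homEquiv_naturality_right, Equiv.apply_symm_apply, (EtCore.constAdj X).homEquiv_unit,
      (EtCore.gsec X).map_id]
    erw [Category.comp_id]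
    obtain ⟨m⟩ := n
    have h := congrArg (((lift (H9Transfer.one X)).hom.app (op (EtCoh.top X))).hom) (rfl : m • univ (EtCoh.top X) = _)
    refine h.trans ((map_zsmul _ _ _).trans ?_)
    rw [show ((lift (H9Transfer.one X)).hom.app (op (EtCoh.top X))).hom (univ (EtCoh.top X)) = H9Transfer.one X from
      sec_lift _]
    refine (map_zsmul ((EtCore.constAdj X).unit.app (AddCommGrpCat.of (ULift.{u + 1} ℤ))).hom m ⟨1⟩).symm.trans ?_
    exact congrArg _ (ULift.ext _ _ (mul_one m))

end Groth.Agent.CurveCd
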