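import Groth.Agent.CurveCd.FieldGm
import Groth.Agent.EtMVLib.ExtTools
import Groth.Agent.EtCdp5.Main
import Groth.Agent.EtFound.ExtZeroExact

/-!
# Free sheaves as extensions by zero
-/

set_option autoImplicit false
set_option linter.style.haveILetI false
set_option linter.unusedSectionVars false
set_option backward.isDefEq.respectTransparency false
set_option backward.isDefEq.respectTransparency.types false
set_option synthInstance.maxHeartbeats 200000

universe u

open CategoryTheory CategoryTheory.Limits AlgebraicGeometry Opposite Abelian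

noncomputable section

namespace Groth.Agent.CurveCd

attribute [local instance] EtFound.pull_preservesFiniteLimits

variable {U X : Scheme.{u}} (e : U ⟶ X) [Etale e] [EtShriek.JCont e]

/-- The object defined by `e` is the image of the top object. -/
def mkTopIso : Scheme.Etale.mk e ≅ (EtShriek.compEtale e).obj (EtCoh.top U) :=
  MorphismProperty.Over.isoMk (Iso.refl _) ((Category.id_comp _).trans (Category.id_comp _))

/-- The comparison map from the free sheaf. -/
def freeToShriek : free (Scheme.Etale.mk e) ⟶ (EtShriek.extZero e).obj (free (EtCoh.top U)) :=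
  lift ((((EtShriek.extZero e).obj (free (EtCoh.top U))).obj.map (mkTopIso e).hom.op).hom
    (sec (W := EtCoh.top U) (F := (EtShriek.restrAlong e).obj ((EtShriek.extZero e).obj (free (EtCoh.top U))))
      ((EtShriek.extZeroAdj e).unit.app (free (EtCoh.top U)))))

/-- The comparison map to the free sheaf. -/
def shriekToFree : (EtShriek.extZero e).obj (free (EtCoh.top U)) ⟶ free (Scheme.Etale.mk e) :=
  ((EtShriek.extZeroAdj e).homEquiv _ _).symm (lift (F := (EtShriek.restrAlong e).obj (free (Scheme.Etale.mk e)))
    ((((free (Scheme.Etale.mk e)).obj.map (mkTopIso e).inv.op).hom (sec (𝟙 (free (Scheme.Etale.mk e)))))))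

theorem homEquiv_eq (F : EtCoh.Ab X) (h : (EtShriek.extZero e).obj (free (EtCoh.top U)) ⟶ F) :
    sec (freeToShriek e ≫ h) = (F.obj.map (mkTopIso e).hom.op).hom
      (sec (W := EtCoh.top U) (F := (EtShriek.restrAlong e).obj F) ((EtShriek.extZeroAdj e).homEquiv _ _ h)) := by
  rw [sec_comp, freeToShriek, sec_lift, Adjunction.homEquiv_unit, sec_comp]
  exact NatTrans.naturality_apply h.hom _ _

/-- Free sheaves are extensions by zero. -/
def freeShriekIso : free (Scheme.Etale.mk e) ≅ (EtShriek.extZero e).obj (free (EtCoh.top U)) where
  hom := freeToShriek e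
  inv := shriekToFree e
  hom_inv_id := sec_injective (by
    rw [homEquiv_eq, shriekToFree, Equiv.apply_symm_apply, sec_lift]
    refine Eq.trans (ConcreteCategory.congr_hom ((free (Scheme.Etale.mk e)).obj.map_comp _ _).symm _) ?_
    rw [← op_comp, Iso.hom_inv_id, op_id, CategoryTheory.Functor.map_id]
    rfl)
  inv_hom_id := ((EtShriek.extZeroAdj e).homEquiv _ _).injective (sec_injective (by
    rw [Adjunction.homEquiv_naturality_right, shriekToFree, Equiv.apply_symm_apply, sec_comp, sec_lift]
    show ((freeToShriek e).hom.app (op ((EtShriek.compEtale e).obj (EtCoh.top U)))).hom _ = _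
    refine (NatTrans.naturality_apply (freeToShriek e).hom (mkTopIso e).inv.op _).trans ?_
    rw [← sec_comp, Category.id_comp, freeToShriek, sec_lift]
    refine Eq.trans (ConcreteCategory.congr_hom (((EtShriek.extZero e).obj (free (EtCoh.top U))).obj.map_comp _ _).symm _) ?_
    rw [← op_comp, Iso.inv_hom_id, op_id, CategoryTheory.Functor.map_id, Adjunction.homEquiv_id]
    rfl))

set_option maxHeartbeats 800000 in
/-- Extensions of a free sheaf are cohomology of the restriction. -/
theorem subsingleton_ext_free_iff (F : EtCoh.Ab X) (q : ℕ) :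
    Subsingleton (Ext (free (Scheme.Etale.mk e)) F q) ↔
      Subsingleton (EtCoh.H U ((EtShriek.restrAlong e).obj F) q) := by
  haveI : PreservesFiniteLimits (EtShriek.extZero e) := EtFound.extZero_preservesFiniteLimits e
  haveI : (EtShriek.extZero e).PreservesMonomorphisms := inferInstance
  haveI := (EtShriek.extZeroAdj e).right_adjoint_additive
  haveI := (EtShriek.extZeroAdj e).rightAdjoint_preservesLimits
  haveI : PreservesFiniteLimits (EtShriek.restrAlong e) := inferInstance
  haveI := (EtCoh.pullPushAdj e).leftAdjoint_preservesColimits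
  haveI : PreservesFiniteColimits (EtCoh.pull e) := inferInstance
  haveI : PreservesFiniteColimits (EtShriek.restrAlong e) := preservesFiniteColimits_of_natIso (FinEtTrace5.pullIso e).symm
  have h1 := EtMVLib.adjExtMap_bijective (EtShriek.extZeroAdj e) (free (EtCoh.top U)) F q
  have h2 := EtAcycLib.bijective_mk₀_comp (B := F) (n := q) (freeShriekIso e)
  rw [subsingleton_H_iff]
  refine ⟨fun h => ?_, fun h => ?_⟩
  · haveI := h
    haveI := h2.1.subsingleton
    exact h1.2.subsingleton
  · haveI := h
    haveI := h1.1.subsingleton
    exact h2.2.subsingleton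

end Groth.Agent.CurveCd
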