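import Groth.Agent.CurveCd.GenericLoc
import Groth.Agent.EtFound.Germ
import Groth.Agent.EtFound.Stalk
import Groth.Prelude.Def_EtLim

/-!
# The multiplicative group near generic points
-/

set_option autoImplicit false
set_option linter.style.haveILetI false
set_option linter.unusedSectionVars false
set_option backward.isDefEq.respectTransparency false
set_option backward.isDefEq.respectTransparency.types false

universe u

open CategoryTheory CategoryTheory.Limits AlgebraicGeometry Opposite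

noncomputable section

namespace Groth.Agent.CurveCd.GenericGm

open GenericLoc GmDiv

variable {X : Scheme.{u}}

/-- The spectrum of the local ring. -/
abbrev locI (x : X) : Spec (X.presheaf.stalk x) ⟶ X := X.fromSpecStalk x

/-- The generic units. -/
def J [Finite (Gen X)] : EtCoh.Ab X :=
  ⨁ fun η : Gen X => (EtCoh.push (locI η.1)).obj (EtCoh.Gm (Spec (X.presheaf.stalk η.1)))

/-- The restriction of units to the generic points. -/
def toJ [Finite (Gen X)] : EtCoh.Gm X ⟶ J (X := X) := biproduct.lift fun η => EtLim.GmPush (locI η.1)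

/-- Refinement to an affine neighbourhood over a given open. -/
theorem exists_affine_nhd_over {V : X.Etale} (v : V.left) (U : X.Opens) (hv : V.hom v ∈ U) :
    ∃ (W : X.Etale) (g : W ⟶ V) (w : W.left), IsAffine W.left ∧ g.left w = v ∧ Set.range W.hom ⊆ (U : Set X) := by
  obtain ⟨O, hO, hx, hOU⟩ := exists_isAffineOpen_mem_and_subset (U := V.hom ⁻¹ᵁ U) (x := v) hv
  haveI : Etale V.hom := V.prop
  refine ⟨Scheme.Etale.mk (O.ι ≫ V.hom), MorphismProperty.Over.homMk O.ι rfl trivial, (⟨v, hx⟩ : O.toScheme),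
    hO, rfl, ?_⟩
  rintro _ ⟨w, rfl⟩
  exact hOU w.2

variable {Ω : Type u} [Field Ω] [IsSepClosed Ω] (ξ : Spec (CommRingCat.of Ω) ⟶ X)

/-- The image of a point of the fibre. -/
abbrev im {V : X.Etale} (z : (Scheme.pointSmallEtale ξ).fiber.obj V) : V.left :=
  (z.left : Spec (CommRingCat.of Ω) ⟶ V.left) (default : Spec (CommRingCat.of Ω))

theorem hom_im {V : X.Etale} (z : (Scheme.pointSmallEtale ξ).fiber.obj V) :
    V.hom (im ξ z) = ξ (default : Spec (CommRingCat.of Ω)) :=
  (Scheme.Hom.comp_apply _ _ _).symm.trans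
    (congrArg (fun f : Spec (CommRingCat.of Ω) ⟶ X => f (default : Spec (CommRingCat.of Ω))) (CategoryTheory.Over.w z))

theorem isUnit_ι_appTop {W : Scheme.{u}} (d : Γ(W, ⊤)) : IsUnit ((W.basicOpen d).ι.appTop.hom d) := by
  have h5 : IsUnit ((W.presheaf.map (homOfLE (W.basicOpen_le d)).op).hom d) :=
    W.toRingedSpace.isUnit_res_basicOpen d
  have h6 := h5.map (W.presheaf.map (homOfLE (x := (W.basicOpen d).ι ''ᵁ ⊤) (y := W.basicOpen d)
    (by simp)).op).hom
  rw [← CommRingCat.comp_apply, ← Functor.map_comp] at h6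
  rw [Scheme.Opens.ι_appTop]
  exact h6

theorem bijective_stalk_gmPush (η : X) (hξ : ξ (default : Spec (CommRingCat.of Ω)) = η) :
    Function.Bijective ((EtCoh.stalk ξ).map (EtLim.GmPush (locI η))).hom := by
  obtain ⟨U, hU, hηU, -⟩ := exists_isAffineOpen_mem_and_subset (U := (⊤ : X.Opens)) (x := η) trivial
  constructor
  · refine (injective_iff_map_eq_zero _).2 fun a ha => ?_
    obtain ⟨V, z, s, rfl⟩ := (Scheme.pointSmallEtale ξ).toPresheafFiber_jointly_surjective a
    have h1 := (Scheme.pointSmallEtale ξ).toPresheafFiber_naturality_apply (EtLim.GmPush (locI η)).hom V z s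
    obtain ⟨V₁, g₁, z₁, hz₁, hs₁⟩ := ((Scheme.pointSmallEtale ξ).toPresheafFiber_eq_iff' V z _ 0).1
      ((h1.symm.trans ha).trans (map_zero _).symm)
    obtain ⟨W, g₂, w, hWA, hw, hWU⟩ := exists_affine_nhd_over (im ξ z₁) U (by rw [hom_im, hξ]; exact hηU)
    obtain ⟨zW, hzW, hzw⟩ := EtFound.exists_lift_point g₂ z₁ w hw
    haveI := hWA
    let g := g₂ ≫ g₁
    let s' : (EtCoh.Gm X).obj.obj (op W) := ((EtCoh.Gm X).obj.map g.op).hom s
    have hs' : ((EtLim.GmPush (locI η)).hom.app (op W)).hom s' = 0 := by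
      refine (NatTrans.naturality_apply (EtLim.GmPush (locI η)).hom g.op s).trans ?_
      rw [op_comp, Functor.map_comp]
      exact (congrArg _ hs₁).trans ((congrArg (((EtCoh.push (locI η)).obj (EtCoh.Gm (Spec (X.presheaf.stalk η)))).obj.map g₂.op).hom (map_zero _)).trans (map_zero _))
    obtain ⟨M, hM, hinj, -⟩ := exists_fractions (V := W.left) hU η hηU W.hom hWU
    have h3 := congrArg (fun x => ((uv x : Γ(pullback W.hom (locI η), ⊤)ˣ) : Γ(pullback W.hom (locI η), ⊤))) hs'
    obtain ⟨c, hcM, hc⟩ := hinj (uv (P := W.left) s' : Γ(W.left, ⊤)) 1 (h3.trans (map_one _).symm)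
    have hwη : W.hom w = η := by rw [← hzw, hom_im, hξ]
    let O := W.left.basicOpen (c : Γ(W.left, ⊤))
    have hwO : w ∈ O := hM c hcM w hwη
    haveI : Etale W.hom := W.prop
    let W' : X.Etale := Scheme.Etale.mk (O.ι ≫ W.hom)
    let g' : W' ⟶ W := MorphismProperty.Over.homMk O.ι rfl trivial
    have hzero : ((EtCoh.Gm X).obj.map g'.op).hom s' = 0 := by
      apply uv_injective (P := W'.left)
      apply Units.ext
      show O.ι.appTop.hom (uv (P := W.left) s' : Γ(W.left, ⊤)) = (1 : Γ(O.toScheme, ⊤))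
      have hcu : IsUnit (O.ι.appTop.hom (c : Γ(W.left, ⊤))) := isUnit_ι_appTop (W := W.left) c
      refine hcu.mul_left_cancel ?_
      rw [← map_mul, hc, mul_one, mul_one]
    obtain ⟨z', hz', -⟩ := EtFound.exists_lift_point g' zW (⟨w, hwO⟩ : O.toScheme) hzw.symm
    let Fb := fun (A : X.Etale) (a : (Scheme.pointSmallEtale ξ).fiber.obj A) =>
      ((Scheme.pointSmallEtale ξ).toPresheafFiber A a (EtCoh.Gm X).obj).hom
    show Fb V z s = 0
    have e1 : Fb V₁ z₁ (((EtCoh.Gm X).obj.map g₁.op).hom s) = Fb V z s :=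
      ((Scheme.pointSmallEtale ξ).toPresheafFiber_w_apply g₁ z₁ _ _).trans (by rw [hz₁])
    have e2 : Fb W zW s' = Fb V₁ z₁ (((EtCoh.Gm X).obj.map g₁.op).hom s) := by
      show Fb W zW (((EtCoh.Gm X).obj.map (g₂ ≫ g₁).op).hom s) = _
      rw [op_comp, Functor.map_comp]
      exact ((Scheme.pointSmallEtale ξ).toPresheafFiber_w_apply g₂ zW _ _).trans (by rw [hzW]; rfl)
    have e3 : Fb W' z' (((EtCoh.Gm X).obj.map g'.op).hom s') = Fb W zW s' :=
      ((Scheme.pointSmallEtale ξ).toPresheafFiber_w_apply g' z' _ _).trans (by rw [hz'])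
    rw [← e1, ← e2, ← e3, hzero, map_zero]
  · intro b
    obtain ⟨V, z, t₀, rfl⟩ := (Scheme.pointSmallEtale ξ).toPresheafFiber_jointly_surjective b
    obtain ⟨W, g₂, w, hWA, hw, hWU⟩ := exists_affine_nhd_over (im ξ z) U (by rw [hom_im, hξ]; exact hηU)
    obtain ⟨zW, hzW, hzw⟩ := EtFound.exists_lift_point g₂ z w hw
    haveI := hWA
    let t : ((EtCoh.push (locI η)).obj (EtCoh.Gm (Spec (X.presheaf.stalk η)))).obj.obj (op W) :=
      (((EtCoh.push (locI η)).obj (EtCoh.Gm (Spec (X.presheaf.stalk η)))).obj.map g₂.op).hom t₀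
    obtain ⟨M, hM, hinj, hsurj⟩ := exists_fractions (V := W.left) hU η hηU W.hom hWU
    let T : Γ(pullback W.hom (locI η), ⊤)ˣ := uv t
    let q₀ := (pullback.fst W.hom (locI η)).appTop.hom
    obtain ⟨b₁, r₁, hr₁M, h₁⟩ := hsurj (T : Γ(pullback W.hom (locI η), ⊤))
    obtain ⟨b₂, r₂, hr₂M, h₂⟩ := hsurj ((T⁻¹ : Γ(pullback W.hom (locI η), ⊤)ˣ) : Γ(pullback W.hom (locI η), ⊤))
    have h12 : q₀ (b₁ * b₂) = q₀ (r₁ * r₂) := by
      rw [map_mul, map_mul]
      refine (congrArg₂ (· * ·) h₁ h₂).symm.trans ?_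
      rw [mul_mul_mul_comm, Units.mul_inv, one_mul]
      rfl
    obtain ⟨c, hcM, hc⟩ := hinj _ _ h12
    let d : Γ(W.left, ⊤) := r₁ * r₂ * c
    let O := W.left.basicOpen d
    have hwη : W.hom w = η := by rw [← hzw, hom_im, hξ]
    have hwO : w ∈ O := hM d (M.mul_mem (M.mul_mem hr₁M hr₂M) hcM) w hwη
    haveI : Etale W.hom := W.prop
    let W' : X.Etale := Scheme.Etale.mk (O.ι ≫ W.hom)
    let g' : W' ⟶ W := MorphismProperty.Over.homMk O.ι rfl trivial
    let ρ := O.ι.appTop.hom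
    have hd : IsUnit (ρ d) := isUnit_ι_appTop (W := W.left) d
    obtain ⟨hr, hcu⟩ := IsUnit.mul_iff.1 (show IsUnit (ρ (r₁ * r₂) * ρ c) by rwa [← map_mul])
    have hr1 : IsUnit (ρ r₁) := (IsUnit.mul_iff.1 (show IsUnit (ρ r₁ * ρ r₂) by rwa [← map_mul])).1
    have hb : IsUnit (ρ b₁) := by
      have h6 : ρ b₁ * (ρ b₂ * ρ c) = ρ d := by
        rw [← map_mul, ← map_mul]
        refine congrArg ρ ?_
        calc b₁ * (b₂ * c) = c * (b₁ * b₂) := by ring
          _ = c * (r₁ * r₂) := hc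
          _ = d := by show _ = _ * _; ring
      exact (IsUnit.mul_iff.1 (h6 ▸ hd)).1
    obtain ⟨s, hs⟩ := uv_surjective (P := W'.left) (hb.unit * hr1.unit⁻¹)
    obtain ⟨z', hz', -⟩ := EtFound.exists_lift_point g' zW (⟨w, hwO⟩ : O.toScheme) hzw.symm
    refine ⟨((Scheme.pointSmallEtale ξ).toPresheafFiber W' z' (EtCoh.Gm X).obj).hom s, ?_⟩
    refine ((Scheme.pointSmallEtale ξ).toPresheafFiber_naturality_apply (EtLim.GmPush (locI η)).hom W' z' s).trans ?_
    have key : ((EtLim.GmPush (locI η)).hom.app (op W')).hom s =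
        (((EtCoh.push (locI η)).obj (EtCoh.Gm (Spec (X.presheaf.stalk η)))).obj.map g'.op).hom t := by
      apply uv_injective
      apply Units.ext
      let q : ((EtCoh.bc (locI η)).obj W').left ⟶ W'.left := pullback.fst W'.hom (locI η)
      let G := ((EtCoh.bc (locI η)).map g').left
      have hG : G ≫ pullback.fst W.hom (locI η) = q ≫ O.ι := (EtCoh.isPullback_bc_map (locI η) g').w
      show q.appTop.hom (uv (P := W'.left) s : Γ(W'.left, ⊤)) =
        G.appTop.hom (T : Γ(pullback W.hom (locI η), ⊤))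
      have hGq : ∀ x, G.appTop.hom (q₀ x) = q.appTop.hom (ρ x) := fun x =>
        congrArg (fun f => (Scheme.Hom.appTop f).hom x) hG
      refine (hr1.map q.appTop.hom).mul_right_cancel ?_
      have e1 : G.appTop.hom (T : Γ(pullback W.hom (locI η), ⊤)) * q.appTop.hom (ρ r₁) = q.appTop.hom (ρ b₁) := by
        refine (congrArg (G.appTop.hom (T : Γ(pullback W.hom (locI η), ⊤)) * ·) (hGq r₁)).symm.trans ?_
        refine ((G.appTop.hom).map_mul _ _).symm.trans ?_
        exact (congrArg G.appTop.hom h₁).trans (hGq b₁)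
      refine Eq.trans ?_ e1.symm
      refine ((q.appTop.hom).map_mul _ _).symm.trans (congrArg q.appTop.hom ?_)
      rw [hs, Units.val_mul, mul_assoc, IsUnit.val_inv_mul]
      exact (mul_one _).trans hb.unit_spec
    rw [key, (Scheme.pointSmallEtale ξ).toPresheafFiber_w_apply, hz', ← hzW]
    exact (Scheme.pointSmallEtale ξ).toPresheafFiber_w_apply _ _ _ _

theorem subsingleton_Gm_of_isEmpty {P : Scheme.{u}} [IsEmpty P] : Subsingleton (EtCoh.ΓUnits.obj (op P)) :=
  uv_injective.subsingleton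

theorem subsingleton_stalk_other (θ η : Gen X) (hne : θ ≠ η) (hξ : ξ (default : Spec (CommRingCat.of Ω)) = η.1) :
    Subsingleton ((EtCoh.stalk ξ).obj ((EtCoh.push (locI θ.1)).obj (EtCoh.Gm (Spec (X.presheaf.stalk θ.1))))) := by
  refine subsingleton_of_forall_eq 0 fun a => ?_
  obtain ⟨V, z, t, rfl⟩ := (Scheme.pointSmallEtale ξ).toPresheafFiber_jointly_surjective a
  haveI : Etale V.hom := V.prop
  let O : V.left.Opens := ⟨(V.hom ⁻¹' closure {θ.1})ᶜ, (isClosed_closure.preimage V.hom.continuous).isOpen_compl⟩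
  have hO : im ξ z ∈ O := fun h => hne (Subtype.ext (η.2 θ.1
    (specializes_iff_mem_closure.2 (by rw [← hξ, ← hom_im ξ z]; exact h))))
  let W : X.Etale := Scheme.Etale.mk (O.ι ≫ V.hom)
  let g : W ⟶ V := MorphismProperty.Over.homMk O.ι rfl trivial
  obtain ⟨z', hz', -⟩ := EtFound.exists_lift_point g z (⟨_, hO⟩ : O.toScheme) rfl
  haveI : IsEmpty ((EtCoh.bc (locI θ.1)).obj W).left := ⟨fun p => by
    let a : W.left := (pullback.fst W.hom (locI θ.1)).base p
    have h1 : W.hom a = locI θ.1 ((pullback.snd W.hom (locI θ.1)).base p) := by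
      exact (Scheme.Hom.comp_apply _ _ _).symm.trans ((congrArg (fun f : pullback W.hom (locI θ.1) ⟶ X => f p)
        pullback.condition).trans (Scheme.Hom.comp_apply _ _ _))
    have h2 : locI θ.1 ((pullback.snd W.hom (locI θ.1)).base p) = θ.1 :=
      θ.2 _ ((Scheme.range_fromSpecStalk (x := θ.1)).le ⟨_, rfl⟩)
    have h3 : V.hom a.1 = θ.1 := (Scheme.Hom.comp_apply O.ι V.hom a).symm.trans (h1.trans h2)
    exact a.2 (show V.hom a.1 ∈ closure {θ.1} by rw [h3]; exact subset_closure rfl)⟩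
  haveI : Subsingleton (((EtCoh.push (locI θ.1)).obj (EtCoh.Gm (Spec (X.presheaf.stalk θ.1)))).obj.obj (op W)) :=
    subsingleton_Gm_of_isEmpty (P := ((EtCoh.bc (locI θ.1)).obj W).left)
  refine Eq.trans ?_ (map_zero ((Scheme.pointSmallEtale ξ).toPresheafFiber W z'
    ((EtCoh.push (locI θ.1)).obj (EtCoh.Gm (Spec (X.presheaf.stalk θ.1)))).obj).hom)
  refine Eq.trans ?_ (congrArg _ (Subsingleton.elim
    ((((EtCoh.push (locI θ.1)).obj (EtCoh.Gm (Spec (X.presheaf.stalk θ.1)))).obj.map g.op).hom t) 0))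
  exact (((Scheme.pointSmallEtale ξ).toPresheafFiber_w_apply g z' _ _).trans (by rw [hz'])).symm

attribute [local instance] Abelian.hasFiniteBiproducts

theorem bijective_stalk_toJ [Finite (Gen X)] (η : Gen X) (hξ : ξ (default : Spec (CommRingCat.of Ω)) = η.1) :
    Function.Bijective ((EtCoh.stalk ξ).map (toJ (X := X))).hom := by
  classical
  haveI := Fintype.ofFinite (Gen X)
  haveI : PreservesBinaryBiproducts (EtCoh.stalk ξ) := preservesBinaryBiproducts_of_preservesBinaryProducts _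
  haveI : (EtCoh.stalk ξ).Additive := Functor.additive_of_preservesBinaryBiproducts _
  let fam : Gen X → EtCoh.Ab X := fun θ => (EtCoh.push (locI θ.1)).obj (EtCoh.Gm (Spec (X.presheaf.stalk θ.1)))
  have htot : (∑ θ, biproduct.π fam θ ≫ biproduct.ι fam θ) = 𝟙 (⨁ fam) := by
    refine biproduct.hom_ext _ _ fun k => ?_
    simp [Preadditive.sum_comp, biproduct.ι_π, comp_dite]
  let pr : ∀ θ, (EtCoh.stalk ξ).obj (⨁ fam) → (EtCoh.stalk ξ).obj (fam θ) := fun θ =>
    ((EtCoh.stalk ξ).map (biproduct.π fam θ)).hom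
  let Φ : (EtCoh.stalk ξ).obj (⨁ fam) → ((⨁ fam) ⟶ (⨁ fam)) →+ (EtCoh.stalk ξ).obj (⨁ fam) := fun e =>
    AddMonoidHom.mk' (fun f => ((EtCoh.stalk ξ).map f).hom e) (fun f g => by rw [Functor.map_add]; rfl)
  have key : ∀ e, e = ∑ θ, ((EtCoh.stalk ξ).map (biproduct.ι fam θ)).hom (pr θ e) := fun e => by
    have h := congrArg (Φ e) htot
    rw [map_sum] at h
    refine (ConcreteCategory.congr_hom ((EtCoh.stalk ξ).map_id (⨁ fam)) e).symm.trans (h.symm.trans ?_)
    refine Finset.sum_congr rfl fun θ _ => ?_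
    show ((EtCoh.stalk ξ).map (_ ≫ _)).hom e = _
    rw [Functor.map_comp]
    rfl
  have hpr : ∀ θ a, pr θ (((EtCoh.stalk ξ).map (toJ (X := X))).hom a) =
      ((EtCoh.stalk ξ).map (EtLim.GmPush (locI θ.1))).hom a := fun θ a => by
    show ((EtCoh.stalk ξ).map (toJ (X := X)) ≫ (EtCoh.stalk ξ).map (biproduct.π fam θ)).hom a = _
    rw [← Functor.map_comp]
    exact congrArg (fun f => ((EtCoh.stalk ξ).map f).hom a) (biproduct.lift_π _ _)
  have hb := bijective_stalk_gmPush ξ η.1 hξ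
  refine ⟨(injective_iff_map_eq_zero _).2 fun a ha => (injective_iff_map_eq_zero _).1 hb.1 a ?_, fun b => ?_⟩
  · rw [← hpr η a, ha]
    exact map_zero _
  · obtain ⟨a, ha⟩ := hb.2 (pr η b)
    refine ⟨a, (key _).trans ((Finset.sum_congr rfl fun θ _ => congrArg _ ?_).trans (key b).symm)⟩
    by_cases hθ : θ = η
    · subst hθ
      exact (hpr θ a).trans ha
    · exact (subsingleton_stalk_other ξ θ η hθ hξ).elim _ _

end Groth.Agent.CurveCd.GenericGm
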