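import Groth.Agent.GmDiv.Rat
import Groth.Agent.EtLC12.RpushTorsion
import Mathlib.RingTheory.Localization.BaseChange

/-!
# Sections over the base change to the local ring at a point, as localizations
-/

set_option autoImplicit false
set_option linter.style.haveILetI false
set_option linter.unusedSectionVars false
set_option backward.isDefEq.respectTransparency false
set_option backward.isDefEq.respectTransparency.types false

universe u

open CategoryTheory CategoryTheory.Limits AlgebraicGeometry Opposite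

noncomputable section

namespace Groth.Agent.CurveCd.GenericLoc

/-- The sections of an affine scheme over a local ring of the base form a localization. -/
theorem exists_localization {X : Scheme.{u}} {U : X.Opens} (hU : IsAffineOpen U) (η : X) (hη : η ∈ U)
    {V : Scheme.{u}} [IsAffine V] (f : V ⟶ X) (hf : Set.range f ⊆ (U : Set X)) :
    ∃ M : Submonoid Γ(V, ⊤), (∀ r ∈ M, ∀ v : V, f v = η → v ∈ V.basicOpen r) ∧
      letI := (pullback.fst f (X.fromSpecStalk η)).appTop.hom.toAlgebra
      IsLocalization M Γ(pullback f (X.fromSpecStalk η), ⊤) := by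
  let A := Γ(X, U)
  haveI : IsOpenImmersion hU.fromSpec := inferInstance
  let e : V ⟶ Spec A := IsOpenImmersion.lift hU.fromSpec f (by rw [hU.range_fromSpec]; exact hf)
  let φ : A ⟶ Γ(V, ⊤) := Spec.preimage (V.isoSpec.inv ≫ e)
  have hφ : V.isoSpec.hom ≫ Spec.map φ ≫ hU.fromSpec = f := by
    rw [Spec.map_preimage, Category.assoc, Iso.hom_inv_id_assoc, IsOpenImmersion.lift_fac]
  letI : Algebra A (X.presheaf.stalk η) := (X.presheaf.germ U η hη).hom.toAlgebra
  letI := φ.hom.toAlgebra
  let p := hU.primeIdealOf ⟨η, hη⟩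
  haveI : IsLocalization.AtPrime (X.presheaf.stalk η) p.asIdeal := hU.isLocalization_stalk ⟨η, hη⟩
  let M := Algebra.algebraMapSubmonoid Γ(V, ⊤) p.asIdeal.primeCompl
  have hM : ∀ r ∈ M, ∀ v : V, f v = η → v ∈ V.basicOpen r := by
    rintro _ ⟨a, ha, rfl⟩ v hv
    have h1 : Spec.map φ (V.isoSpec.hom v) = p := by
      refine hU.fromSpec.isOpenEmbedding.injective ?_
      refine Eq.trans ?_ (hU.fromSpec_primeIdealOf ⟨η, hη⟩).symm
      show hU.fromSpec (Spec.map φ (V.isoSpec.hom v)) = η
      rw [← Scheme.Hom.comp_apply, ← Scheme.Hom.comp_apply, hφ, hv]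
    have h2 : V.isoSpec.hom v ∈ PrimeSpectrum.basicOpen (φ.hom a) := fun h3 => ha (by
      have h4 : a ∈ (Spec.map φ (V.isoSpec.hom v)).asIdeal := h3
      rwa [h1] at h4)
    have h3 := Scheme.toSpecΓ_preimage_basicOpen (X := V) (φ.hom a)
    show v ∈ V.basicOpen (φ.hom a)
    rw [← h3]
    exact h2
  have hAL : ∀ a, algebraMap A (Localization M) a = algebraMap Γ(V, ⊤) (Localization M) (φ.hom a) := fun a =>
    IsScalarTower.algebraMap_apply A Γ(V, ⊤) (Localization M) a
  let ψ : X.presheaf.stalk η →+* Localization M := IsLocalization.lift (M := p.asIdeal.primeCompl)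
    (g := algebraMap A (Localization M)) fun a =>
    hAL a ▸ IsLocalization.map_units (Localization M) (⟨φ.hom a, a, a.2, rfl⟩ : M)
  letI := ψ.toAlgebra
  haveI : IsScalarTower A (X.presheaf.stalk η) (Localization M) :=
    IsScalarTower.of_algebraMap_eq fun a => (IsLocalization.lift_eq _ a).symm
  have hpo : Algebra.IsPushout A Γ(V, ⊤) (X.presheaf.stalk η) (Localization M) :=
    Algebra.isPushout_of_isLocalization p.asIdeal.primeCompl (X.presheaf.stalk η) Γ(V, ⊤) (Localization M)
  let T := Spec (CommRingCat.of (Localization M))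
  let t1 : T ⟶ V := Spec.map (CommRingCat.ofHom (algebraMap Γ(V, ⊤) (Localization M))) ≫ V.isoSpec.inv
  let t2 : T ⟶ Spec (X.presheaf.stalk η) := Spec.map (CommRingCat.ofHom ψ)
  have hsq := isPullback_SpecMap_of_isPushout _ _ _ _ (CommRingCat.isPushout_iff_isPushout.2 hpo)
  have hu : X.fromSpecStalk η = Spec.map (CommRingCat.ofHom (algebraMap A (X.presheaf.stalk η))) ≫ hU.fromSpec :=
    (hU.fromSpecStalk_eq_fromSpecStalk hη).symm
  have hT : IsPullback t1 t2 f (X.fromSpecStalk η) := by
    have hw : t1 ≫ f = t2 ≫ X.fromSpecStalk η := by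
      rw [← hφ, hu, Category.assoc, Iso.inv_hom_id_assoc]
      exact (Category.assoc _ _ _).symm.trans ((congrArg (· ≫ hU.fromSpec) hsq.w).trans (Category.assoc _ _ _))
    refine ⟨⟨hw⟩, ⟨PullbackCone.IsLimit.mk hw
      (fun s => hsq.lift (s.fst ≫ V.isoSpec.hom) s.snd (by
        rw [← cancel_mono hU.fromSpec, Category.assoc, Category.assoc, Category.assoc, ← hu]
        exact (congrArg (s.fst ≫ ·) hφ).trans s.condition)) ?_ ?_ ?_⟩⟩
    · intro s
      show hsq.lift _ _ _ ≫ Spec.map _ ≫ V.isoSpec.inv = _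
      rw [hsq.lift_fst_assoc, Category.assoc, Iso.hom_inv_id, Category.comp_id]
    · intro s
      exact hsq.lift_snd _ _ _
    · intro s m h1 h2
      refine hsq.hom_ext ?_ (h2.trans (hsq.lift_snd _ _ _).symm)
      rw [hsq.lift_fst, ← h1]
      simp [t1]
  refine ⟨M, hM, ?_⟩
  let P := pullback f (X.fromSpecStalk η)
  letI := (pullback.fst f (X.fromSpecStalk η)).appTop.hom.toAlgebra
  let ι : Γ(P, ⊤) ≅ CommRingCat.of (Localization M) :=
    (Scheme.Γ.mapIso hT.isoPullback.op) ≪≫ (Scheme.ΓSpecIso (CommRingCat.of (Localization M)))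
  have hι : (pullback.fst f (X.fromSpecStalk η)).appTop ≫ ι.hom =
      CommRingCat.ofHom (algebraMap Γ(V, ⊤) (Localization M)) := by
    show (pullback.fst f (X.fromSpecStalk η)).appTop ≫ hT.isoPullback.hom.appTop ≫ _ = _
    rw [← Scheme.Hom.comp_appTop_assoc, hT.isoPullback_hom_fst, Scheme.Hom.comp_appTop, Category.assoc,
      Scheme.ΓSpecIso_naturality]
    rw [show V.isoSpec.inv.appTop = (Scheme.ΓSpecIso Γ(V, ⊤)).inv by
      rw [← cancel_epi V.isoSpec.hom.appTop, ← Scheme.Hom.comp_appTop, Iso.inv_hom_id, Scheme.Hom.id_appTop]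
      simp [Scheme.isoSpec]]
    exact Iso.inv_hom_id_assoc _ _
  exact IsLocalization.isLocalization_of_algEquiv M
    (AlgEquiv.ofRingEquiv (f := ι.symm.commRingCatIsoToRingEquiv) fun r => by
      show ι.inv.hom (algebraMap Γ(V, ⊤) (Localization M) r) = _
      have h := ConcreteCategory.congr_hom hι r
      exact (congrArg ι.inv.hom h.symm).trans (ConcreteCategory.congr_hom ι.hom_inv_id _))

/-- `exists_localization` without instances. -/
theorem exists_fractions {X : Scheme.{u}} {U : X.Opens} (hU : IsAffineOpen U) (η : X) (hη : η ∈ U)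
    {V : Scheme.{u}} [IsAffine V] (f : V ⟶ X) (hf : Set.range f ⊆ (U : Set X)) :
    ∃ M : Submonoid Γ(V, ⊤), (∀ r ∈ M, ∀ v : V, f v = η → v ∈ V.basicOpen r) ∧
      (∀ a b, (pullback.fst f (X.fromSpecStalk η)).appTop.hom a = (pullback.fst f (X.fromSpecStalk η)).appTop.hom b →
        ∃ c ∈ M, c * a = c * b) ∧
      (∀ T : Γ(pullback f (X.fromSpecStalk η), ⊤), ∃ b r, r ∈ M ∧
        T * (pullback.fst f (X.fromSpecStalk η)).appTop.hom r = (pullback.fst f (X.fromSpecStalk η)).appTop.hom b) := by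
  obtain ⟨M, hM, hloc⟩ := exists_localization hU η hη f hf
  letI := (pullback.fst f (X.fromSpecStalk η)).appTop.hom.toAlgebra
  haveI : IsLocalization M Γ(pullback f (X.fromSpecStalk η), ⊤) := hloc
  refine ⟨M, hM, fun a b h => ?_, fun T => ?_⟩
  · obtain ⟨c, hc⟩ := (IsLocalization.eq_iff_exists M Γ(pullback f (X.fromSpecStalk η), ⊤)).1 h
    exact ⟨c, c.2, hc⟩
  · obtain ⟨⟨b, r⟩, h⟩ := IsLocalization.surj M T
    exact ⟨b, r, r.2, h⟩

end Groth.Agent.CurveCd.GenericLoc
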