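import Groth.Agent.CurveCd.FieldPush
import Groth.Agent.CurveFF.Base
import Groth.Agent.S0229

/-!
# The generic point of an integral curve
-/

set_option autoImplicit false
set_option linter.style.haveILetI false
set_option linter.unusedSectionVars false
set_option backward.isDefEq.respectTransparency false
set_option backward.isDefEq.respectTransparency.types false

universe u

open CategoryTheory CategoryTheory.Limits AlgebraicGeometry Opposite Abelian

noncomputable section

namespace Groth.Agent.CurveCd

variable (k : Type u) [Field k] [IsAlgClosed k] (X : Scheme.{u})
  (f : X ⟶ Spec (CommRingCat.of k)) [LocallyOfFiniteType f] [IsIntegral X]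

include f in
/-- Norms are surjective over finite extensions of the function field of an integral curve. -/
theorem norm_surjective_functionField (hdim : topologicalKrullDim X = 1)
    (E L : Type u) [Field E] [Field L] [Algebra X.functionField E] [FiniteDimensional X.functionField E]
    [Algebra E L] [FiniteDimensional E L] : Function.Surjective (Algebra.norm E : L → E) := by
  letI : X.Over (Spec (CommRingCat.of k)) := ⟨f⟩
  haveI : LocallyOfFiniteType (X ↘ Spec (CommRingCat.of k)) := ‹LocallyOfFiniteType f›
  letI := CurveFF.ffAlg k X
  have hK : Algebra.trdeg k X.functionField = 1 := by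
    have h := VarDim.topologicalKrullDim_eq_deg_genericPoint (X ↘ Spec (CommRingCat.of k))
    rw [hdim] at h
    have h1 : VarDim.deg (X ↘ Spec (CommRingCat.of k)) (genericPoint X) = 1 := by exact_mod_cast h.symm
    have h2 := VarDim.deg_eq_tdeg (X ↘ Spec (CommRingCat.of k)) (genericPoint X)
    rw [h1, Nat.cast_one] at h2
    letI := Curv2.resAlgebra k X (genericPoint X)
    have hb : Function.Bijective (X.residue (genericPoint X)).hom :=
      ⟨(X.residue (genericPoint X)).hom.injective, X.residue_surjective (genericPoint X)⟩
    let e : X.functionField ≃ₐ[k] X.residueField (genericPoint X) :=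
      AlgEquiv.ofRingEquiv (f := RingEquiv.ofBijective _ hb) fun _ => rfl
    exact e.trdeg_eq.trans h2.symm
  refine GalCohMisc.norm_surjective_of_isCr (TsenLib.isCr_one_of_finite (K := X.functionField) ?_)
  exact TsenLib.isCr_one_of_isCi (TsenLib.tsen_lang (k := k) (by simpa using hK))

include f in
/-- The multiplicative group of the function field of an integral curve is compactly acyclic. -/
theorem compactAcyclic_Gm_generic (hdim : topologicalKrullDim X = 1) :
    CompactAcyclic (EtCoh.Gm (Spec (X.presheaf.stalk (genericPoint X)))) :=
  compactAcyclic_Gm (K := X.functionField) fun E L _ _ _ _ _ _ _ _ _ _ => norm_surjective_functionField k X f hdim E L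

include f in
/-- The higher direct images of the multiplicative group of the generic point vanish. -/
theorem isZero_Rpush_generic [QuasiSeparated f] (hdim : topologicalKrullDim X = 1)
    [EtCoh.BCCont (X.fromSpecStalk (genericPoint X))] (q : ℕ) :
    IsZero ((EtCoh.Rpush (X.fromSpecStalk (genericPoint X)) (q + 1)).obj
      (EtCoh.Gm (Spec (X.presheaf.stalk (genericPoint X))))) := by
  haveI : QuasiSeparatedSpace X := quasiSeparatedSpace_of_quasiSeparated f
  exact isZero_Rpush_of_compactAcyclic _ _ (compactAcyclic_Gm_generic k X f hdim) q

end Groth.Agent.CurveCd
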