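import Groth.Agent.CurveCd.Tower
import Groth.Agent.GmDiv.DimOne
import Groth.Agent.EtFound.PushImm
import Groth.Agent.EtFound.AbRecollement
import Groth.Agent.EtFound.LiftEtale
import Mathlib.RingTheory.Polynomial.ScaleRoots
import Mathlib.FieldTheory.PrimitiveElement
import Mathlib.RingTheory.Etale.StandardEtale

/-!
# Étale schemes over a generic point extend
-/

set_option autoImplicit false
set_option linter.style.haveILetI false
set_option linter.unusedSectionVars false
set_option backward.isDefEq.respectTransparency false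
set_option backward.isDefEq.respectTransparency.types false
set_option synthInstance.maxHeartbeats 200000

universe u

open CategoryTheory CategoryTheory.Limits AlgebraicGeometry Opposite Polynomial IsLocalRing
open scoped TensorProduct

noncomputable section

namespace Groth.Agent.CurveCd

open Groth.Agent.GmDiv (Gen ptI)

/-- A finite separable extension of a localization receives a map from a standard étale algebra. -/
theorem exists_standardEtale_model {A K : Type u} [CommRing A] [Field K] [Algebra A K] (M : Submonoid A)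
    [IsLocalization M K] (L : Type u) [Field L] [Algebra K L] [FiniteDimensional K L] [Algebra.IsSeparable K L]
    [Algebra A L] [IsScalarTower A K L] :
    ∃ (P : StandardEtalePair A), Nonempty (L →ₐ[K] K ⊗[A] P.Ring) ∧ Nonempty (K ⊗[A] P.Ring →+* L) := by
  classical
  let pb := Field.powerBasisOfFiniteOfSeparable K L
  let p := minpoly K pb.gen
  obtain ⟨⟨d, hdM⟩, hd⟩ := IsLocalization.exist_integer_multiples M (Finset.range (p.natDegree + 1)) fun i => p.coeff i
  let δ : K := algebraMap A K d
  have hδ : δ ≠ 0 := (IsLocalization.map_units K (⟨d, hdM⟩ : M)).ne_zero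
  let q := p.scaleRoots δ
  have hp : p.Monic := minpoly.monic (Algebra.IsIntegral.isIntegral pb.gen)
  have hq : q.Monic := (monic_scaleRoots_iff δ).2 hp
  have hl : q ∈ lifts (algebraMap A K) := by
    refine (lifts_iff_coeff_lifts q).2 fun i => ?_
    rw [coeff_scaleRoots]
    rcases lt_trichotomy i p.natDegree with hi | rfl | hi
    · obtain ⟨a, ha⟩ := hd i (Finset.mem_range.2 (by omega))
      refine ⟨a * d ^ (p.natDegree - i - 1), ?_⟩
      have hpow : δ ^ (p.natDegree - i) = δ * δ ^ (p.natDegree - i - 1) := by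
        rw [← pow_succ']; congr 1; omega
      rw [map_mul, map_pow, ha, hpow, Algebra.smul_def, ← mul_assoc, mul_comm (p.coeff i) δ]
    · exact ⟨1, by rw [map_one, Nat.sub_self, pow_zero, mul_one, hp.coeff_natDegree]⟩
    · exact ⟨0, by rw [map_zero, coeff_eq_zero_of_natDegree_lt hi, zero_mul]⟩
  obtain ⟨f, hf, -, hfm⟩ := lifts_and_natDegree_eq_and_monic hl hq
  let P : StandardEtalePair A := ⟨f, hfm, derivative f, 1, 0, 1, by rw [mul_one, mul_zero, add_zero, pow_one]⟩
  refine ⟨P, ⟨?_⟩, ⟨?_⟩⟩
  · let x : K ⊗[A] P.Ring := (1 : K) ⊗ₜ P.X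
    have hx0 : aeval x f = 0 := by
      rw [show x = Algebra.TensorProduct.includeRight P.X from rfl, aeval_algHom_apply, P.hasMap_X.1, map_zero]
    have hx : aeval x q = 0 := by rw [← hf, aeval_map_algebraMap]; exact hx0
    refine pb.lift (algebraMap K _ δ⁻¹ * x) ?_
    have h := scaleRoots_aeval_eq_zero (r := δ⁻¹) hx
    have e : q.scaleRoots δ⁻¹ = p := by
      show (p.scaleRoots δ).scaleRoots δ⁻¹ = p
      rw [← scaleRoots_mul, mul_inv_cancel₀ hδ, scaleRoots_one]
    rwa [e] at h
  · let θ : L := algebraMap K L δ * pb.gen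
    have hθ : aeval θ q = 0 := scaleRoots_aeval_eq_zero (minpoly.aeval K pb.gen)
    have hθ' : aeval θ f = 0 := by rwa [← hf, aeval_map_algebraMap] at hθ
    have hmap : P.HasMap θ := by
      refine ⟨hθ', isUnit_iff_ne_zero.2 ?_⟩
      show aeval θ (derivative f) ≠ 0
      rw [← aeval_map_algebraMap K, ← derivative_map, hf]
      have hint := Algebra.IsIntegral.isIntegral (R := K) θ
      have hback : aeval pb.gen ((minpoly K θ).scaleRoots δ⁻¹) = 0 := by
        have h := scaleRoots_aeval_eq_zero (r := δ⁻¹) (minpoly.aeval K θ)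
        rwa [show algebraMap K L δ⁻¹ * θ = pb.gen by
          rw [← mul_assoc, ← map_mul, inv_mul_cancel₀ hδ, map_one, one_mul]] at h
      have hle : q.natDegree ≤ (minpoly K θ).natDegree := by
        rw [natDegree_scaleRoots]
        have h := natDegree_le_of_dvd (minpoly.dvd K pb.gen hback) ((monic_scaleRoots_iff δ⁻¹).2 (minpoly.monic hint)).ne_zero
        rwa [natDegree_scaleRoots] at h
      have hqm : minpoly K θ = q :=
        (eq_of_monic_of_dvd_of_natDegree_le (minpoly.monic hint) hq (minpoly.dvd K θ hθ) hle).symm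
      rw [← hqm]
      exact (Algebra.IsSeparable.isSeparable K θ).aeval_derivative_ne_zero (minpoly.aeval K θ)
    exact (Algebra.TensorProduct.lift (Algebra.ofId K L |>.restrictScalars A) (P.lift θ hmap)
      fun _ _ => Commute.all _ _).toRingHom

theorem isIso_residue_maximal {X : Scheme.{u}} [IsReduced X] (η : Gen X) : IsIso (X.residue η.1) := by
  haveI := GmDiv.isDomain_stalk_of_maximal η.2
  have hone : ∀ P : PrimeSpectrum (X.presheaf.stalk η.1), X.fromSpecStalk η.1 P = η.1 := fun P =>
    η.2 _ ((Scheme.range_fromSpecStalk (x := η.1)).le ⟨P, rfl⟩)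
  have hm : IsLocalRing.maximalIdeal (X.presheaf.stalk η.1) = ⊥ := by
    have := (X.fromSpecStalk η.1).isEmbedding.injective
      ((hone ⟨⊥, Ideal.isPrime_bot⟩).trans (hone ⟨IsLocalRing.maximalIdeal _, inferInstance⟩).symm)
    exact (congrArg PrimeSpectrum.asIdeal this).symm
  refine (ConcreteCategory.isIso_iff_bijective _).2 ⟨?_, X.residue_surjective η.1⟩
  refine (injective_iff_map_eq_zero (X.residue η.1).hom).2 fun a ha => ?_
  have : a ∈ IsLocalRing.maximalIdeal (X.presheaf.stalk η.1) := (IsLocalRing.residue_eq_zero_iff a).1 ha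
  rwa [hm, Ideal.mem_bot] at this

theorem liftable_ptI {X : Scheme.{u}} [IsReduced X] (η : Gen X) : EtFound.Liftable (ptI η.1) := by
  intro U x
  let K := X.residueField η.1
  let f : U.left ⟶ Spec (CommRingCat.of K) := U.hom
  haveI : Etale f := U.prop
  haveI : DiscreteTopology U.left := by
    haveI := (f.isDiscrete_preimage_singleton default).to_subtype
    let e : (f ⁻¹' {(default : Spec (CommRingCat.of K))} : Set U.left) ≃ₜ U.left :=
      (Homeomorph.setCongr (Set.eq_univ_of_forall fun w => Subsingleton.elim (α := Spec (CommRingCat.of K)) _ _)).trans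
        (Homeomorph.Set.univ U.left)
    exact e.symm.isEmbedding.discreteTopology
  let O : U.left.Opens := ⟨{x}, isOpen_discrete _⟩
  let T : (Spec (CommRingCat.of K)).Etale := Scheme.Etale.mk (O.ι ≫ f)
  haveI : Etale (𝟙 (Spec (CommRingCat.of K))) := inferInstance
  let g : T ⟶ pt (𝟙 (Spec (CommRingCat.of K))) :=
    MorphismProperty.Over.homMk (O.ι ≫ f) (Category.comp_id _) trivial
  obtain ⟨L, _, _, _, _, _, a, ha⟩ := exists_galois_lift (𝟙 (Spec (CommRingCat.of K))) g (⟨x, rfl⟩ : O.toScheme)
  -- an affine neighbourhood of the generic point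
  obtain ⟨U₀, hU₀, hη, -⟩ := exists_isAffineOpen_mem_and_subset (U := (⊤ : X.Opens)) (x := η.1) trivial
  haveI := GmDiv.isDomain_stalk_of_maximal η.2
  let A := Γ(X, U₀)
  let ρ : A →+* K := ((X.presheaf.germ U₀ η.1 hη) ≫ X.residue η.1).hom
  letI : Algebra A K := ρ.toAlgebra
  letI : Algebra A (X.presheaf.stalk η.1) := TopCat.Presheaf.algebra_section_stalk X.presheaf ⟨η.1, hη⟩
  haveI := hU₀.isLocalization_stalk ⟨η.1, hη⟩
  haveI : IsIso (X.residue η.1) := isIso_residue_maximal η
  let M := (hU₀.primeIdealOf ⟨η.1, hη⟩).asIdeal.primeCompl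
  haveI : IsLocalization M K := IsLocalization.isLocalization_of_algEquiv M
    (AlgEquiv.ofRingEquiv (f := (asIso (X.residue η.1)).commRingCatIsoToRingEquiv) fun _ => rfl :
      X.presheaf.stalk η.1 ≃ₐ[A] K)
  letI : Algebra A L := ((algebraMap K L).comp ρ).toAlgebra
  haveI : IsScalarTower A K L := .of_algebraMap_eq' rfl
  obtain ⟨P, ⟨φ⟩, ⟨ψ⟩⟩ := exists_standardEtale_model (K := K) M L
  let s := Spec.map (CommRingCat.ofHom (algebraMap A P.Ring))
  haveI : Etale s := by
    rw [HasRingHomProperty.Spec_iff (P := @Etale)]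
    exact RingHom.etale_algebraMap.2 inferInstance
  let j := hU₀.fromSpec
  let V : X.Etale := Scheme.Etale.mk (s ≫ j)
  let t := Spec.map (CommRingCat.ofHom (algebraMap A K))
  have htj : t ≫ j = ptI η.1 := by
    show Spec.map ((X.presheaf.germ U₀ η.1 hη) ≫ X.residue η.1) ≫ _ = Spec.map (X.residue η.1) ≫ X.fromSpecStalk η.1
    rw [Spec.map_comp, Category.assoc, ← hU₀.fromSpecStalk_eq_fromSpecStalk hη, IsAffineOpen.fromSpecStalk]
  let m : pullback V.hom (ptI η.1) ⟶ pullback t s :=
    pullback.lift (pullback.snd V.hom (ptI η.1)) (pullback.fst V.hom (ptI η.1)) (by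
      rw [← cancel_mono j, Category.assoc, Category.assoc, htj]
      exact pullback.condition.symm)
  let r : pullback V.hom (ptI η.1) ⟶ U.left :=
    m ≫ (pullbackSpecIso A K P.Ring).hom ≫ Spec.map (CommRingCat.ofHom φ.toRingHom) ≫ a.left ≫ O.ι
  have hr : r ≫ f = pullback.snd V.hom (ptI η.1) := by
    show (m ≫ _ ≫ _ ≫ a.left ≫ O.ι) ≫ f = _
    have h1 : a.left ≫ O.ι ≫ f = Spec.map (CommRingCat.ofHom (algebraMap K L)) :=
      congrArg (fun q : pt (extHom (𝟙 _) L) ⟶ pt (𝟙 _) => q.left) ha
    simp only [Category.assoc]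
    rw [h1, ← Spec.map_comp, ← CommRingCat.ofHom_comp,
      show φ.toRingHom.comp (algebraMap K L) = algebraMap K (K ⊗[A] P.Ring) from φ.comp_algebraMap,
      pullbackSpecIso_hom_fst']
    exact pullback.lift_fst _ _ _
  let z : Spec (CommRingCat.of L) ⟶ pullback t s :=
    Spec.map (CommRingCat.ofHom ψ) ≫ (pullbackSpecIso A K P.Ring).inv
  let zz := z default
  obtain ⟨w, -, -⟩ := Scheme.Pullback.exists_preimage_pullback (f := V.hom) (g := ptI η.1)
    (pullback.snd t s zz) (pullback.fst t s zz) (by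
      show (s ≫ j) (pullback.snd t s zz) = ptI η.1 (pullback.fst t s zz)
      rw [← htj, ← Scheme.Hom.comp_apply, ← Scheme.Hom.comp_apply, ← pullback.condition_assoc]
      rfl)
  refine ⟨V, MorphismProperty.Over.homMk r hr trivial, w, ?_⟩
  exact ((m ≫ (pullbackSpecIso A K P.Ring).hom ≫ Spec.map (CommRingCat.ofHom φ.toRingHom) ≫ a.left) w).2

/-- The stalks of the unit at a generic point are isomorphisms. -/
theorem isIso_stalk_unit_generic {X : Scheme.{u}} [IsReduced X] (η : Gen X) [EtCoh.BCCont (ptI η.1)] (F : EtCoh.Ab X)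
    {Ω : Type u} [Field Ω] [IsSepClosed Ω] (ξ : Spec (CommRingCat.of Ω) ⟶ X)
    (hξ : ξ (default : Spec (CommRingCat.of Ω)) = η.1) :
    IsIso ((EtCoh.stalk ξ).map ((EtCoh.pullPushAdj (ptI η.1)).unit.app F)) := by
  haveI : IsPreimmersion (ptI η.1) := inferInstanceAs (IsPreimmersion (X.fromSpecResidueField η.1))
  have hmem : ξ.base (default : Spec (CommRingCat.of Ω)) ∈ Set.range (ptI η.1).base :=
    ⟨default, (Scheme.fromSpecResidueField_apply η.1 _).trans hξ.symm⟩
  refine EtFound.isIso_stalk_of_lift (ptI η.1) _ ξ hmem fun k _ _ z => ?_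
  refine (NatIso.isIso_map_iff (EtFound.sheafFiberPullIso (A := AddCommGrpCat.{u + 1}) (ptI η.1) z) _).1 ?_
  have := EtFound.counit_isIso (A := AddCommGrpCat.{u + 1}) (ptI η.1) (liftable_ptI η) ((EtCoh.pull (ptI η.1)).obj F)
  have : IsIso ((EtCoh.pull (ptI η.1)).map ((EtCoh.pullPushAdj (ptI η.1)).unit.app F)) :=
    @IsIso.of_isIso_fac_right _ _ _ _ _ _ _ _ this (IsIso.id _) ((EtCoh.pullPushAdj (ptI η.1)).left_triangle_components F)
  exact inferInstanceAs (IsIso ((EtCoh.stalk z).map ((EtCoh.pull (ptI η.1)).map ((EtCoh.pullPushAdj (ptI η.1)).unit.app F))))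

end Groth.Agent.CurveCd
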