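import Groth.Agent.EtLC12.QcqsAcyclic
import Mathlib.CategoryTheory.Functor.OfSequence

/-!
# Isomorphisms of étale sheaves are detected on affine objects; localisation as a sequential colimit
-/

set_option autoImplicit false
set_option linter.style.haveILetI false

universe u

open CategoryTheory CategoryTheory.Limits AlgebraicGeometry Opposite

noncomputable section

namespace Groth.Agent.CurveCd

open Groth.Agent.EtFound

variable {X : Scheme.{u}}

/-- every object is covered by affine ones -/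
theorem exists_affine_sieve (U : X.Etale) :
    ∃ S ∈ X.smallEtaleTopology U, ∀ ⦃V : X.Etale⦄ (g : V ⟶ U), S g →
      ∃ (W : X.Etale) (a : V ⟶ W) (b : W ⟶ U), IsAffine W.left ∧ a ≫ b = g := by
  choose A hA hmem _ using fun x : U.left => exists_isAffineOpen_mem_and_subset (U := (⊤ : U.left.Opens))
    (TopologicalSpace.Opens.mem_top x)
  haveI : AlgebraicGeometry.Etale U.hom := U.prop
  let W : U.left → X.Etale := fun x => Scheme.Etale.mk ((A x).ι ≫ U.hom)
  let i : ∀ x, W x ⟶ U := fun x => MorphismProperty.Over.homMk (A x).ι rfl trivial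
  refine ⟨Sieve.ofArrows W i, (mem_topology_iff _).2 fun x => ?_, ?_⟩
  · exact ⟨W x, i x, (⟨x, hmem x⟩ : (A x : Scheme.{u})), Sieve.ofArrows_mk W i x, rfl⟩
  · intro V g hg
    obtain ⟨_, a, _, ⟨k⟩, rfl⟩ := hg
    exact ⟨W k, a, i k, hA k, rfl⟩

theorem isIso_of_bijective_affine {F G : EtCoh.Ab X} (ψ : F ⟶ G)
    (h : ∀ U : X.Etale, IsAffine U.left → Function.Bijective (ψ.hom.app (op U))) : IsIso ψ := by
  haveI hi : Presheaf.IsLocallyInjective X.smallEtaleTopology ψ.hom := ⟨fun {U} x y hxy => by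
    obtain ⟨S, hS, hfac⟩ := exists_affine_sieve (unop U)
    refine X.smallEtaleTopology.superset_covering ?_ hS
    intro V g hg
    obtain ⟨W, a, b, hW, rfl⟩ := hfac g hg
    show F.obj.map (a ≫ b).op x = F.obj.map (a ≫ b).op y
    rw [op_comp, Functor.map_comp, ConcreteCategory.comp_apply, ConcreteCategory.comp_apply]
    refine congrArg _ ((h W hW).1 ?_)
    rw [NatTrans.naturality_apply ψ.hom, NatTrans.naturality_apply ψ.hom, hxy]⟩
  haveI hs : Presheaf.IsLocallySurjective X.smallEtaleTopology ψ.hom := ⟨fun {U} x => by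
    obtain ⟨S, hS, hfac⟩ := exists_affine_sieve U
    refine X.smallEtaleTopology.superset_covering ?_ hS
    intro V g hg
    obtain ⟨W, a, b, hW, rfl⟩ := hfac g hg
    obtain ⟨t, ht⟩ := (h W hW).2 (G.obj.map b.op x)
    refine ⟨F.obj.map a.op t, ?_⟩
    rw [NatTrans.naturality_apply ψ.hom, ht, op_comp, Functor.map_comp, ConcreteCategory.comp_apply]⟩
  haveI : Sheaf.IsLocallyInjective ψ := hi
  haveI : Sheaf.IsLocallySurjective ψ := hs
  exact (Sheaf.isLocallyBijective_iff_isIso ψ).1 ⟨hi, hs⟩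

theorem nsmul_app_apply {F G : EtCoh.Ab X} (f : F ⟶ G) (U : X.Etale) (n : ℤ) (x : F.obj.obj (op U)) :
    (n • f).hom.app (op U) x = n • f.hom.app (op U) x := rfl

section Localization

variable (S : Submonoid ℤ)

/-- an enumeration of `S` in which every element occurs infinitely often -/
def enum (n : ℕ) : ℤ :=
  ((exists_surjective_nat S).choose (Nat.unpair n).1 : S)

lemma enum_mem (n : ℕ) : enum S n ∈ S := ((exists_surjective_nat S).choose _).2

lemma exists_enum_eq (s : S) (n : ℕ) : ∃ k, n ≤ k ∧ enum S k = s := by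
  obtain ⟨i, hi⟩ := (exists_surjective_nat S).choose_spec s
  exact ⟨Nat.pair i n, Nat.right_le_pair i n, by simp [enum, Nat.unpair_pair, hi]⟩

/-- the partial products -/
def prod (n : ℕ) : ℤ := ∏ i ∈ Finset.range n, enum S i

lemma prod_mem (n : ℕ) : prod S n ∈ S := S.prod_mem fun i _ => enum_mem S i

variable (F : EtCoh.Ab X)

/-- the sequence `F → F → ⋯` -/
def seq : ℕ ⥤ EtCoh.Ab X :=
  Functor.ofSequence (X := fun _ => F) fun n => enum S n • 𝟙 F

lemma seq_map_succ (n : ℕ) : (seq S F).map (homOfLE n.le_succ) = enum S n • 𝟙 F :=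
  Functor.ofSequence_map_homOfLE_succ _ n

lemma seq_map_zero : ∀ n : ℕ, (seq S F).map (homOfLE n.zero_le) = prod S n • 𝟙 F
  | 0 => by
    rw [prod, Finset.prod_range_zero, one_smul]
    exact (seq S F).map_id 0
  | n + 1 => by
    rw [← homOfLE_comp n.zero_le n.le_succ, Functor.map_comp, seq_map_zero n, seq_map_succ]
    change (prod S n • 𝟙 F) ≫ (enum S n • 𝟙 F) = _
    rw [Linear.smul_comp, Category.id_comp, smul_smul, prod, prod, Finset.prod_range_succ]

variable {F} {G : EtCoh.Ab X} (φ : F ⟶ G)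
  (hφ : ∀ U : X.Etale, IsAffine U.left → IsLocalizedModule S (φ.hom.app (op U)).hom.toIntLinearMap)

include hφ in
theorem isIso_smul {s : ℤ} (hs : s ∈ S) : IsIso (s • 𝟙 G) :=
  isIso_of_bijective_affine _ fun U hU => by
    haveI := hφ U hU
    exact (Module.End.isUnit_iff _).1
      (IsLocalizedModule.map_units (φ.hom.app (op U)).hom.toIntLinearMap ⟨s, hs⟩)

/-- the leg `φ / (e₀ ⋯ e_{n-1})` -/
def leg (n : ℕ) : F ⟶ G :=
  haveI := isIso_smul S φ hφ (prod_mem S n)
  φ ≫ inv (prod S n • 𝟙 G)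

lemma prod_smul_leg (n : ℕ) : prod S n • leg S φ hφ n = φ := by
  haveI := isIso_smul S φ hφ (prod_mem S n)
  have h : (prod S n) • leg S φ hφ n = leg S φ hφ n ≫ (prod S n • 𝟙 G) := by
    rw [Linear.comp_smul, Category.comp_id]
  rw [h, leg, Category.assoc, IsIso.inv_hom_id, Category.comp_id]

lemma leg_zero : leg S φ hφ 0 = φ := by
  simpa [prod] using prod_smul_leg S φ hφ 0

lemma leg_succ (n : ℕ) : enum S n • leg S φ hφ (n + 1) = leg S φ hφ n := by
  haveI := isIso_smul S φ hφ (prod_mem S n)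
  rw [← cancel_mono (prod S n • 𝟙 G), Linear.comp_smul, Category.comp_id, Linear.comp_smul, Category.comp_id,
    smul_smul, prod_smul_leg]
  rw [show prod S n * enum S n = prod S (n + 1) from (Finset.prod_range_succ _ n).symm, prod_smul_leg]

/-- the cocone with point `G` -/
def cocone : Cocone (AsSmall.down.{0, 0, u + 1} ⋙ seq S F) where
  pt := G
  ι :=
    let τ : seq S F ⟶ (Functor.const ℕ).obj G := NatTrans.ofSequence (fun n => leg S φ hφ n) fun n => by
      rw [seq_map_succ]
      change (enum S n • 𝟙 F) ≫ leg S φ hφ (n + 1) = leg S φ hφ n ≫ 𝟙 G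
      rw [Linear.smul_comp, Category.id_comp, Category.comp_id, leg_succ]
    { app := fun j => τ.app (AsSmall.down.obj j)
      naturality := fun i j f => τ.naturality (AsSmall.down.map f) }

lemma cocone_ι_app (n : ℕ) : (cocone S φ hφ).ι.app (AsSmall.up.obj n) = leg S φ hφ n := rfl

/-- the localised sheaf is the colimit of the sequence -/
def isColimitCocone : IsColimit (cocone S φ hφ) := by
  refine (colimit.isColimit _).ofPointIso (i := ?_)
  refine isIso_of_bijective_affine _ fun U hU => ?_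
  haveI := hφ U hU
  let loc := (φ.hom.app (op U)).hom.toIntLinearMap
  haveI := preservesColimitsOfShape_sections_qcqs_ab U (isQcqsObj_of_isAffine U) (AsSmall.{u + 1} ℕ)
  let hc := isColimitOfPreserves (sheafToPresheaf X.smallEtaleTopology AddCommGrpCat.{u + 1} ⋙
    (evaluation X.Etaleᵒᵖ AddCommGrpCat.{u + 1}).obj (op U))
    (colimit.isColimit (AsSmall.down.{0, 0, u + 1} ⋙ seq S F))
  let D := (colimit.isColimit (AsSmall.down.{0, 0, u + 1} ⋙ seq S F)).desc (cocone S φ hφ)
  have hD : ∀ (j : AsSmall.{u + 1} ℕ) (t : F.obj.obj (op U)), D.hom.app (op U)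
      ((colimit.ι (AsSmall.down.{0, 0, u + 1} ⋙ seq S F) j).hom.app (op U) t) =
      (leg S φ hφ (AsSmall.down.obj j)).hom.app (op U) t := fun j t =>
    congrArg (fun a : F ⟶ G => a.hom.app (op U) t)
      ((colimit.isColimit (AsSmall.down.{0, 0, u + 1} ⋙ seq S F)).fac (cocone S φ hφ) j)
  change Function.Bijective (D.hom.app (op U))
  refine ⟨(injective_iff_map_eq_zero _).2 fun x hx => ?_, fun g => ?_⟩
  · obtain ⟨j, t, rfl⟩ := Concrete.isColimit_exists_rep _ hc x
    obtain ⟨n, rfl⟩ : ∃ n, AsSmall.up.obj n = j := ⟨AsSmall.down.obj j, rfl⟩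
    have h0 : loc t = 0 := by
      change φ.hom.app (op U) t = 0
      have h1 : (leg S φ hφ n).hom.app (op U) t = 0 := (hD _ t).symm.trans hx
      rw [← prod_smul_leg S φ hφ n, nsmul_app_apply, h1, smul_zero]
    obtain ⟨s, hs⟩ := IsLocalizedModule.exists_of_eq (S := S) (f := loc) (x₁ := t) (x₂ := 0)
      (by rw [h0, map_zero])
    rw [smul_zero] at hs
    obtain ⟨k, hk, hks⟩ := exists_enum_eq S s n
    have hw := colimit.w (AsSmall.down.{0, 0, u + 1} ⋙ seq S F)
      (AsSmall.up.map (homOfLE hk) ≫ AsSmall.up.map (homOfLE k.le_succ))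
    refine (congrArg (fun a => a.hom.app (op U) t) hw).symm.trans ?_
    change (colimit.ι (AsSmall.down.{0, 0, u + 1} ⋙ seq S F) (AsSmall.up.obj (k + 1))).hom.app (op U)
      (((seq S F).map (homOfLE hk ≫ homOfLE k.le_succ)).hom.app (op U) t) = 0
    refine (congrArg _ ?_).trans (map_zero _)
    rw [Functor.map_comp, seq_map_succ, hks]
    change (s : ℤ) • ((seq S F).map (homOfLE hk)).hom.app (op U) t = 0
    exact (map_zsmul ((seq S F).map (homOfLE hk) |>.hom.app (op U)).hom (s : ℤ) t).symm.trans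
      ((congrArg _ hs).trans (map_zero _))
  · obtain ⟨⟨t, s⟩, hs⟩ := IsLocalizedModule.surj S loc g
    obtain ⟨k, -, hks⟩ := exists_enum_eq S s 0
    refine ⟨(colimit.ι (AsSmall.down.{0, 0, u + 1} ⋙ seq S F) (AsSmall.up.obj (k + 1))).hom.app (op U)
      (prod S k • t), (hD _ _).trans ?_⟩
    haveI := isIso_smul S φ hφ (prod_mem S (k + 1))
    have hi : Function.Injective fun y : G.obj.obj (op U) => prod S (k + 1) • y :=
      ((Module.End.isUnit_iff _).1 (IsLocalizedModule.map_units loc ⟨_, prod_mem S (k + 1)⟩)).1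
    apply hi
    change prod S (k + 1) • (leg S φ hφ (k + 1)).hom.app (op U) (prod S k • t) = prod S (k + 1) • g
    rw [← nsmul_app_apply, prod_smul_leg, map_zsmul, show φ.hom.app (op U) t = (s : ℤ) • g from hs.symm,
      show prod S (k + 1) = prod S k * (s : ℤ) by rw [prod, Finset.prod_range_succ, hks]; rfl]
    exact (mul_smul (prod S k) (s : ℤ) g).symm

include hφ in
/-- Cohomology commutes with localisation of the integers. -/
theorem isLocalizedModule_HF_map [CompactSpace X] [QuasiSeparatedSpace X] (i : ℕ) :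
    IsLocalizedModule S ((EtCoh.HF X i).map φ).hom.toIntLinearMap := by
  haveI := EtLC12.QcqsAcyclic.preservesColimitsOfShape_HF X i (AsSmall.{u + 1} ℕ)
  haveI : (EtCoh.HF X i).Additive := ⟨fun {F G f g} => by
    ext x
    change Sheaf.H.map (f + g) i x = Sheaf.H.map f i x + Sheaf.H.map g i x
    exact Sheaf.H.map_add_apply f g x⟩
  have hmap : ∀ {A B : EtCoh.Ab X} (r : ℤ) (f : A ⟶ B) (x : (EtCoh.HF X i).obj A),
      (EtCoh.HF X i).map (r • f) x = r • (EtCoh.HF X i).map f x := fun r f x => by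
    rw [Functor.map_zsmul]; rfl
  let hc := isColimitOfPreserves (EtCoh.HF X i) (isColimitCocone S φ hφ)
  refine ⟨fun s => ?_, fun y => ?_, fun {x₁ x₂} h => ?_⟩
  · haveI := isIso_smul S φ hφ s.2
    rw [Module.End.isUnit_iff]
    have h := ConcreteCategory.bijective_of_isIso ((EtCoh.HF X i).map ((s : ℤ) • 𝟙 G))
    rw [Functor.map_zsmul, CategoryTheory.Functor.map_id] at h
    exact h
  · obtain ⟨j, t, ht⟩ := Concrete.isColimit_exists_rep _ hc y
    obtain ⟨n, rfl⟩ : ∃ n, AsSmall.up.obj n = j := ⟨AsSmall.down.obj j, rfl⟩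
    refine ⟨⟨t, ⟨prod S n, prod_mem S n⟩⟩, ?_⟩
    change prod S n • y = (EtCoh.HF X i).map φ t
    rw [← prod_smul_leg S φ hφ n, hmap]
    exact congrArg _ ht.symm
  · have hz : (EtCoh.HF X i).map φ (x₁ - x₂) = 0 := by rw [map_sub, sub_eq_zero]; exact h
    have h0 : ((EtCoh.HF X i).map ((cocone S φ hφ).ι.app (AsSmall.up.obj 0))) (x₁ - x₂) =
        ((EtCoh.HF X i).map ((cocone S φ hφ).ι.app (AsSmall.up.obj 0))) 0 := by
      rw [map_zero]
      exact (congrArg (fun f : F ⟶ G => (EtCoh.HF X i).map f (x₁ - x₂)) (leg_zero S φ hφ)).trans hz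
    obtain ⟨j, a, b, hab⟩ := Concrete.isColimit_exists_of_rep_eq _ hc _ _ h0
    obtain ⟨n, rfl⟩ : ∃ n, AsSmall.up.obj n = j := ⟨AsSmall.down.obj j, rfl⟩
    refine ⟨⟨prod S n, prod_mem S n⟩, sub_eq_zero.1 ?_⟩
    rw [← smul_sub]
    have ha : (AsSmall.down.{0, 0, u + 1} ⋙ seq S F).map a = prod S n • 𝟙 F := by
      rw [← seq_map_zero]; rfl
    change (EtCoh.HF X i).map ((AsSmall.down.{0, 0, u + 1} ⋙ seq S F).map a) (x₁ - x₂) = _ at hab
    refine Eq.trans ?_ ((congrArg (fun f : F ⟶ F => (EtCoh.HF X i).map f (x₁ - x₂)) ha).symm.trans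
      (hab.trans (map_zero _)))
    refine Eq.trans ?_ (hmap (prod S n) (𝟙 F) (x₁ - x₂)).symm
    rw [CategoryTheory.Functor.map_id]
    rfl

end Localization

end Groth.Agent.CurveCd
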