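import Groth.Agent.CurveCd.GenericPush
import Mathlib.CategoryTheory.Abelian.Injective.Basic

/-!
# Cohomology of direct images of compactly acyclic sheaves
-/

set_option autoImplicit false
set_option linter.style.haveILetI false
set_option linter.unusedSectionVars false
set_option backward.isDefEq.respectTransparency false
set_option backward.isDefEq.respectTransparency.types false
set_option synthInstance.maxHeartbeats 200000

universe u

open CategoryTheory CategoryTheory.Limits AlgebraicGeometry Opposite Abelian

noncomputable section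

namespace Groth.Agent.CurveCd

attribute [local instance] EtFound.pull_preservesFiniteLimits

variable {X Y : Scheme.{u}} (f : X ⟶ Y) [EtCoh.BCCont f]

theorem shortExact_push_of_compactAcyclic [QuasiCompact f] [QuasiSeparated f] (S : ShortComplex (EtCoh.Ab X))
    (hS : S.ShortExact) (h1 : CompactAcyclic S.X₁) [(EtCoh.push f).Additive] :
    (S.map (EtCoh.push f)).ShortExact := by
  haveI : (EtCoh.push f).IsRightAdjoint := (EtCoh.pullPushAdj f).isRightAdjoint
  haveI : PreservesFiniteLimits (EtCoh.push f) := inferInstance
  haveI := hS.mono_f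
  haveI : Epi (S.map (EtCoh.push f)).g := by
    show Epi ((EtCoh.push f).map S.g)
    refine (Sheaf.isLocallySurjective_iff_epi' AddCommGrpCat.{u + 1} ((EtCoh.push f).map S.g)).1 ⟨fun {V} s => ?_⟩
    refine (EtFound.mem_topology_iff _).2 fun v => ?_
    obtain ⟨W, g, w, hW, hw⟩ := EtLC12.RpushTorsion.exists_affine_nhd v
    obtain ⟨t, ht⟩ := sections_surjective_of_compactAcyclic S hS h1 _ (EtLC12.RpushTorsion.isQcqsObj_bc f W hW).1
      ((((EtCoh.push f).obj S.X₃).obj.map g.op).hom s)
    exact ⟨W, g, w, ⟨t, ht⟩, hw⟩
  haveI : Mono (S.map (EtCoh.push f)).f := inferInstanceAs (Mono ((EtCoh.push f).map S.f))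
  exact { exact := hS.exact.map_of_mono_of_preservesKernel (EtCoh.push f) hS.mono_f inferInstance }

/-- Direct images of compactly acyclic sheaves from quasi-compact schemes are acyclic. -/
theorem subsingleton_H_push_of_compactAcyclic [QuasiCompact f] [QuasiSeparated f] [CompactSpace X] :
    ∀ (n : ℕ) (G : EtCoh.Ab X), CompactAcyclic G → Subsingleton (EtCoh.H Y ((EtCoh.push f).obj G) (n + 1)) := by
  haveI : (EtCoh.push f).IsRightAdjoint := (EtCoh.pullPushAdj f).isRightAdjoint
  haveI : (EtCoh.push f).Additive := (EtCoh.pullPushAdj f).right_adjoint_additive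
  intro n
  induction n with
  | zero =>
    intro G hG
    rw [subsingleton_H_iff]
    let P := Classical.arbitrary (InjectivePresentation G)
    have hP := shortExact_push_of_compactAcyclic f P.shortComplex P.shortExact_shortComplex hG
    haveI := P.injective
    haveI : Injective (P.shortComplex.map (EtCoh.push f)).X₂ :=
      (EtCoh.pullPushAdj f).map_injective P.J inferInstance
    refine subsingleton_of_forall_eq 0 fun x => ?_
    obtain ⟨z, rfl⟩ := Ext.covariant_sequence_exact₁ _ hP x (Ext.eq_zero_of_injective _) (rfl : 0 + 1 = 0 + 1)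
    obtain ⟨φ, rfl⟩ := (Ext.mk₀_bijective _ _).2 z
    have hc : CompactSpace ((EtCoh.bc f).obj (EtCoh.top Y)).left :=
      ((asIso (pullback.snd (𝟙 Y) f)).hom.homeomorph.symm).compactSpace
    obtain ⟨t, ht⟩ := sections_surjective_of_compactAcyclic P.shortComplex P.shortExact_shortComplex hG
      ((EtCoh.bc f).obj (EtCoh.top Y)) hc (show P.shortComplex.X₃.obj.obj (op ((EtCoh.bc f).obj (EtCoh.top Y))) from sec (F := (P.shortComplex.map (EtCoh.push f)).X₃) φ)
    have hφ : lift (F := (EtCoh.push f).obj P.J) t ≫ (P.shortComplex.map (EtCoh.push f)).g = φ := by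
      refine sec_injective ((sec_comp _ _).trans ?_)
      rw [sec_lift]
      exact ht
    rw [← hφ, ← Ext.mk₀_comp_mk₀, Ext.comp_assoc_of_second_deg_zero, hP.comp_extClass, Ext.comp_zero]
  | succ n ih =>
    intro G hG
    let P := Classical.arbitrary (InjectivePresentation G)
    have hP := shortExact_push_of_compactAcyclic f P.shortComplex P.shortExact_shortComplex hG
    haveI := P.injective
    haveI : Injective (P.shortComplex.map (EtCoh.push f)).X₂ :=
      (EtCoh.pullPushAdj f).map_injective P.J inferInstance
    refine subsingleton_of_forall_eq 0 fun x => ?_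
    obtain ⟨z, rfl⟩ := Ext.covariant_sequence_exact₁ _ hP x (Ext.eq_zero_of_injective _) (rfl : n + 1 + 1 = n + 1 + 1)
    rw [(ih _ (compactAcyclic_X₃ _ P.shortExact_shortComplex hG P.injective)).elim z 0, Ext.zero_comp]

end Groth.Agent.CurveCd
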