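import Groth.Agent.CurveCd.LiftGeneric
import Groth.Agent.CurveCd.ClosedAcyclic
import Groth.Agent.CurveCd.TorsionCd
import Groth.Agent.S3240

/-!
# Sheaves of rational vector spaces on integral curves
-/

set_option autoImplicit false
set_option linter.style.haveILetI false
set_option backward.isDefEq.respectTransparency false
set_option backward.isDefEq.respectTransparency.types false

universe u

open CategoryTheory CategoryTheory.Limits AlgebraicGeometry Opposite Abelian

noncomputable section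

namespace Groth.Agent.CurveCd

attribute [local instance] EtFound.pull_preservesFiniteLimits

/-- Vanishing along a morphism with acyclic kernel and cokernel. -/
theorem subsingleton_H_of_hom {X : Scheme.{u}} {F G : EtCoh.Ab X} (k : F ⟶ G) (q : ℕ)
    (hK : Subsingleton (EtCoh.H X (kernel k) (q + 1))) (hC : Subsingleton (EtCoh.H X (cokernel k) q))
    (hG : Subsingleton (EtCoh.H X G (q + 1))) : Subsingleton (EtCoh.H X F (q + 1)) := by
  let S₁ : ShortComplex (EtCoh.Ab X) := ShortComplex.mk (kernel.ι k) (Abelian.coimage.π k) (cokernel.condition _)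
  have hS₁ : S₁.ShortExact :=
    { exact := ShortComplex.exact_of_g_is_cokernel _ (cokernelIsCokernel _)
      mono_f := inferInstanceAs (Mono (kernel.ι k))
      epi_g := inferInstanceAs (Epi (Abelian.coimage.π k)) }
  let S₂ : ShortComplex (EtCoh.Ab X) := ShortComplex.mk (Abelian.factorThruCoimage k) (cokernel.π k)
    (by rw [← cancel_epi (Abelian.coimage.π k), ← Category.assoc, Abelian.coimage.fac, cokernel.condition, comp_zero])
  have hS₂ : S₂.ShortExact :=
    { exact := by
        let φ : ShortComplex.mk k (cokernel.π k) (cokernel.condition k) ⟶ S₂ :=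
          { τ₁ := Abelian.coimage.π k, τ₂ := 𝟙 _, τ₃ := 𝟙 _,
            comm₁₂ := (Abelian.coimage.fac k).trans (Category.comp_id _).symm,
            comm₂₃ := (Category.id_comp _).trans (Category.comp_id _).symm }
        haveI : Epi φ.τ₁ := inferInstanceAs (Epi (Abelian.coimage.π k))
        haveI : IsIso φ.τ₂ := inferInstanceAs (IsIso (𝟙 _))
        haveI : Mono φ.τ₃ := inferInstanceAs (Mono (𝟙 _))
        exact (ShortComplex.exact_iff_of_epi_of_isIso_of_mono φ).1
          (ShortComplex.exact_of_g_is_cokernel _ (cokernelIsCokernel k))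
      mono_f := inferInstanceAs (Mono (Abelian.factorThruCoimage k))
      epi_g := inferInstanceAs (Epi (cokernel.π k)) }
  refine subsingleton_of_forall_eq 0 fun c => ?_
  have hco : c.comp (Ext.mk₀ S₁.g) (add_zero (q + 1)) = 0 := by
    obtain ⟨z, hz⟩ := Ext.covariant_sequence_exact₁ _ hS₂ (c.comp (Ext.mk₀ S₁.g) (add_zero (q + 1)))
      (hG.elim _ _) (rfl : q + 1 = q + 1)
    rw [← hz, show z = 0 from hC.elim (z : EtCoh.H X (cokernel k) q) 0, Ext.zero_comp]
  obtain ⟨y, rfl⟩ := Ext.covariant_sequence_exact₂ _ hS₁ c hco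
  rw [show y = 0 from hK.elim (y : EtCoh.H X (kernel k) (q + 1)) 0, Ext.zero_comp]

/-- Sheaves of rational vector spaces on an integral scheme of dimension one over an algebraically closed
field are acyclic in degrees at least two. -/
theorem subsingleton_H_of_divisible {k : Type u} [Field k] [IsAlgClosed k] (Y : Scheme.{u}) [IsIntegral Y]
    (f : Y ⟶ Spec (CommRingCat.of k)) [LocallyOfFiniteType f] [QuasiCompact f]
    (hdim : topologicalKrullDim Y ≤ 1) (F : EtCoh.Ab Y) (hdiv : ∀ n : ℕ, 0 < n → IsIso (n • 𝟙 F)) (i : ℕ) (hi : 2 ≤ i) :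
    Subsingleton (EtCoh.H Y F i) := by
  haveI : IsLocallyNoetherian Y := LocallyOfFiniteType.isLocallyNoetherian f
  haveI : CompactSpace Y := QuasiCompact.compactSpace_of_compactSpace f
  haveI : IsNoetherian Y := {}
  let η : GmDiv.Gen Y := ⟨genericPoint Y, fun y hy => (hy.antisymm (genericPoint_specializes y)).eq⟩
  haveI : QuasiCompact (GmDiv.ptI η.1) := quasiCompact_of_compactSpace _
  have hadd : (EtCoh.pull (GmDiv.ptI η.1)).Additive := (EtCoh.pullPushAdj _).left_adjoint_additive
  have hadd' : (EtCoh.push (GmDiv.ptI η.1)).Additive := (EtCoh.pullPushAdj _).right_adjoint_additive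
  let u := (EtCoh.pullPushAdj (GmDiv.ptI η.1)).unit.app F
  obtain ⟨p, rfl⟩ : ∃ p, i = p + 1 + 1 := ⟨i - 2, by omega⟩
  have hsep : ∀ x : Y, IsClosed ({x} : Set Y) → IsSepClosed (Y.residueField x) := fun x hx =>
    isSepClosed_residueField_of_isClosed k f hx
  have hcl : ∀ x : Y, x ≠ η.1 → IsClosed ({x} : Set Y) := fun x hx =>
    GmDiv.isClosed_singleton_of_dim hdim fun hmax => hx (hmax η.1 (genericPoint_specializes x)).symm
  have hsupp : ∀ {Ω : Type u} [Field Ω] [IsSepClosed Ω] (ξ : Spec (CommRingCat.of Ω) ⟶ Y),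
      ξ (default : Spec (CommRingCat.of Ω)) = η.1 → IsIso ((EtCoh.stalk ξ).map u) := fun ξ h =>
    isIso_stalk_unit_generic η F ξ h
  refine subsingleton_H_of_hom u (p + 1) ?_ ?_ ?_
  · refine ClosedAcyclic.subsingleton_H _ hsep (fun x hx => ?_) (p + 1)
    obtain ⟨Ω, _, _, ξ, hr, hz⟩ := hx
    refine hcl x fun he => hz ?_
    haveI := hsupp ξ ((Set.mem_singleton_iff.1 (hr ▸ Set.mem_range_self _)).trans he)
    haveI : Mono ((EtCoh.stalk ξ).map (kernel.ι u)) :=
      (AddCommGrpCat.mono_iff_injective _).2 ((EtFound.mono_iff_stalks _).1 inferInstance Ω ξ)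
    refine IsZero.of_mono_eq_zero ((EtCoh.stalk ξ).map (kernel.ι u)) ?_
    rw [← cancel_mono ((EtCoh.stalk ξ).map u), zero_comp, ← Functor.map_comp, kernel.condition]
    exact Functor.map_zero _ _ _
  · refine ClosedAcyclic.subsingleton_H _ hsep (fun x hx => ?_) p
    obtain ⟨Ω, _, _, ξ, hr, hz⟩ := hx
    refine hcl x fun he => hz ?_
    haveI := hsupp ξ ((Set.mem_singleton_iff.1 (hr ▸ Set.mem_range_self _)).trans he)
    haveI : Epi ((EtCoh.stalk ξ).map (cokernel.π u)) :=
      (AddCommGrpCat.epi_iff_surjective _).2 ((EtFound.epi_iff_stalks _).1 inferInstance Ω ξ)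
    refine IsZero.of_epi_eq_zero ((EtCoh.stalk ξ).map (cokernel.π u)) ?_
    rw [← cancel_epi ((EtCoh.stalk ξ).map u), comp_zero, ← Functor.map_comp, cokernel.condition]
    exact Functor.map_zero _ _ _
  · let G := (EtCoh.push (GmDiv.ptI η.1)).obj ((EtCoh.pull (GmDiv.ptI η.1)).obj F)
    refine subsingleton_of_forall_eq 0 fun c => ?_
    obtain ⟨n, hn, hnc⟩ := isOfFinAddOrder_iff_nsmul_eq_zero.1
      ((S3240.result Y η.1 ((EtCoh.pull (GmDiv.ptI η.1)).obj F) (p + 1 + 1) (by omega)).2 c)
    haveI := hdiv n hn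
    have hG : IsIso (n • 𝟙 G) := by
      have e : n • 𝟙 G = (EtCoh.push (GmDiv.ptI η.1)).map ((EtCoh.pull (GmDiv.ptI η.1)).map (n • 𝟙 F)) := by
        rw [Functor.map_nsmul, Functor.map_nsmul, CategoryTheory.Functor.map_id, CategoryTheory.Functor.map_id]
      rw [e]
      infer_instance
    have h0 : (c : EtCoh.H Y G (p + 1 + 1)).comp (Ext.mk₀ (n • 𝟙 G)) (add_zero _) = 0 := by
      let Φ : (G ⟶ G) →+ EtCoh.H Y G (p + 1 + 1) := AddMonoidHom.mk'
        (fun r => (c : EtCoh.H Y G (p + 1 + 1)).comp (Ext.mk₀ r) (add_zero _)) (fun a b => by rw [Ext.mk₀_add, Ext.comp_add])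
      show Φ (n • 𝟙 G) = 0
      rw [map_nsmul]
      exact (congrArg (n • ·) (Ext.comp_mk₀_id (c : EtCoh.H Y G (p + 1 + 1)))).trans hnc
    have h1 := congrArg (fun y => Ext.comp y (Ext.mk₀ (inv (n • 𝟙 G))) (add_zero (p + 1 + 1))) h0
    rw [Ext.comp_assoc_of_second_deg_zero, Ext.mk₀_comp_mk₀, IsIso.hom_inv_id, Ext.comp_mk₀_id, Ext.zero_comp] at h1
    exact h1

end Groth.Agent.CurveCd
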