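import Groth.Agent.CurveCd.FieldPts
import Groth.Agent.CurveCd.Efface
import Mathlib.FieldTheory.Galois.GaloisClosure
import Mathlib.FieldTheory.IsSepClosed
import Mathlib.GroupTheory.Sylow
import Mathlib.GroupTheory.IndexNormal

/-!
# Vanishing of cohomology of fields from cyclic extensions
-/

set_option autoImplicit false
set_option linter.style.haveILetI false
set_option linter.unusedSectionVars false
set_option backward.isDefEq.respectTransparency false
set_option backward.isDefEq.respectTransparency.types false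

universe u

open CategoryTheory CategoryTheory.Limits AlgebraicGeometry Opposite Abelian

noncomputable section

namespace Groth.Agent.CurveCd

variable {X : Scheme.{u}}

/-- Hilbert 90 and surjectivity of norms for a coefficient sheaf, in all cyclic extensions of prime degree. -/
structure CyclicHyp (F : EtCoh.Ab X) : Prop where
  h90 : ∀ (E L : Type u) [Field E] [Field L] [Algebra E L] [FiniteDimensional E L] [IsGalois E L]
    (e : Spec (CommRingCat.of E) ⟶ X) [Etale e] [Etale (extHom e L)] (σ : Gal(L/E)),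
    (orderOf σ).Prime → (∀ t, t ∈ Subgroup.zpowers σ) → H90 (autMap e σ) (orderOf σ) F
  nsurj : ∀ (E L : Type u) [Field E] [Field L] [Algebra E L] [FiniteDimensional E L] [IsGalois E L]
    (e : Spec (CommRingCat.of E) ⟶ X) [Etale e] [Etale (extHom e L)] (σ : Gal(L/E)),
    (orderOf σ).Prime → (∀ t, t ∈ Subgroup.zpowers σ) → NSurj (covMap e) (autMap e σ) (orderOf σ) F

/-- Lower vanishing. -/
def VanishBelow (F : EtCoh.Ab X) (q : ℕ) : Prop :=
  ∀ n, 1 ≤ n → n < q → ∀ (E : Type u) [Field E] (e : Spec (CommRingCat.of E) ⟶ X) [Etale e],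
    Subsingleton (Ext (free (pt e)) F n)

theorem eq_zero_of_cyclic {F : EtCoh.Ab X} (hF : CyclicHyp F) {q : ℕ} (hq : 1 ≤ q) (hlow : VanishBelow F q)
    {E L : Type u} [Field E] [Field L] [Algebra E L] [FiniteDimensional E L] [IsGalois E L]
    (e : Spec (CommRingCat.of E) ⟶ X) [Etale e] [Etale (extHom e L)] (hp : (Nat.card Gal(L/E)).Prime)
    (x : Ext (free (pt e)) F q) (hx : (Ext.mk₀ (fmap (covMap (L := L) e))).comp x (zero_add q) = 0) : x = 0 := by
  haveI := Fact.mk hp
  haveI : IsCyclic Gal(L/E) := isCyclic_of_prime_card rfl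
  obtain ⟨σ, hσ⟩ := IsCyclic.exists_generator (α := Gal(L/E))
  have ho : (orderOf σ).Prime := by rw [orderOf_eq_card_of_forall_mem_zpowers hσ]; exact hp
  exact (isCyclicCover e σ hσ).eq_zero_of_comp_eq_zero F (hF.h90 E L e σ ho hσ) (hF.nsurj E L e σ ho hσ) q
    (fun n h1 h2 => hlow n h1 h2 L (extHom e L)) (fun n h1 h2 => hlow n h1 h2 E e) x hq hx

theorem eq_zero_of_pGroup {F : EtCoh.Ab X} (hF : CyclicHyp F) {q : ℕ} (hq : 1 ≤ q) (hlow : VanishBelow F q)
    {l : ℕ} (hl : l.Prime) (k : ℕ) :
    ∀ (E L : Type u) [Field E] [Field L] [Algebra E L] [FiniteDimensional E L] [IsGalois E L]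
      (e : Spec (CommRingCat.of E) ⟶ X) [Etale e] [Etale (extHom e L)], Nat.card Gal(L/E) = l ^ k →
      ∀ x : Ext (free (pt e)) F q, (Ext.mk₀ (fmap (covMap (L := L) e))).comp x (zero_add q) = 0 → x = 0 := by
  haveI := Fact.mk hl
  induction k with
  | zero =>
    intro E L _ _ _ _ _ e _ _ hcard x hx
    rw [pow_zero] at hcard
    have hrk : Module.finrank E L = 1 := (IsGalois.card_aut_eq_finrank E L).symm.trans hcard
    have hbij : Function.Bijective (algebraMap E L) :=
      ⟨(algebraMap E L).injective, fun y => by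
        obtain ⟨c, hc⟩ := (finrank_eq_one_iff_of_nonzero' (1 : L) one_ne_zero).1 hrk y
        exact ⟨c, (Algebra.algebraMap_eq_smul_one c).trans hc⟩⟩
    let ε := RingEquiv.ofBijective (algebraMap E L) hbij
    have hε : (ε.symm : L →+* E).comp (algebraMap E L) = RingHom.id E := RingHom.ext fun r => ε.symm_apply_apply r
    let b : pt e ⟶ pt (extHom e L) := ptMap (ε.symm : L →+* E) (by
      show Spec.map _ ≫ Spec.map (CommRingCat.ofHom (algebraMap E L)) ≫ e = e
      rw [← Category.assoc, ← Spec.map_comp, ← CommRingCat.ofHom_comp, hε, CommRingCat.ofHom_id, Spec.map_id,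
        Category.id_comp])
    have hb : b ≫ covMap e = 𝟙 (pt e) := MorphismProperty.Over.Hom.ext (by
      show Spec.map _ ≫ Spec.map (CommRingCat.ofHom (algebraMap E L)) = 𝟙 _
      rw [← Spec.map_comp, ← CommRingCat.ofHom_comp, hε, CommRingCat.ofHom_id, Spec.map_id])
    have h := congrArg (fun y => (Ext.mk₀ (fmap b)).comp y (zero_add q)) hx
    rw [Ext.mk₀_comp_mk₀_assoc, ← fmap_comp, hb, fmap_id, Ext.mk₀_id_comp, Ext.comp_zero] at h
    exact h
  | succ k ih =>
    intro E L _ _ _ _ _ e _ _ hcard x hx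
    obtain ⟨N, hN⟩ := Sylow.exists_subgroup_card_pow_prime l (n := k) (G := Gal(L/E))
      (by rw [hcard]; exact pow_dvd_pow l (Nat.le_succ k))
    have hidx : N.index = l := by
      have := N.card_mul_index
      rw [hN, hcard, pow_succ] at this
      exact Nat.eq_of_mul_eq_mul_left (pow_pos hl.pos k) this
    haveI : N.Normal := Subgroup.normal_of_index_eq_minFac_card (by
      rw [hidx, hcard, Nat.Prime.pow_minFac hl (Nat.succ_ne_zero k)])
    let E1 := IntermediateField.fixedField N
    haveI : IsGalois E E1 := IsGalois.of_fixedField_normal_subgroup N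
    haveI : Etale (extHom e E1) := etale_extHom e
    haveI : Etale (extHom (extHom e E1) L) := etale_extHom _
    have hc1 : Nat.card Gal(L/E1) = l ^ k := by
      rw [IsGalois.card_aut_eq_finrank, IntermediateField.finrank_fixedField_eq_card, hN]
    have hc2 : (Nat.card Gal(E1/E)).Prime := by
      have h1 : Module.finrank E1 L = l ^ k := by rw [IntermediateField.finrank_fixedField_eq_card, hN]
      have h2 := Module.finrank_mul_finrank E E1 L
      rw [h1, ← IsGalois.card_aut_eq_finrank E L, hcard, pow_succ'] at h2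
      rw [IsGalois.card_aut_eq_finrank, Nat.eq_of_mul_eq_mul_right (pow_pos hl.pos k) h2]
      exact hl
    refine eq_zero_of_cyclic hF hq hlow e hc2 x (ih E1 L (extHom e E1) hc1 _ ?_)
    let t : pt (extHom (extHom e E1) L) ⟶ pt (extHom e L) := ptMap (RingHom.id L) (by
      show Spec.map _ ≫ Spec.map (CommRingCat.ofHom (algebraMap E L)) ≫ e =
        Spec.map _ ≫ Spec.map (CommRingCat.ofHom (algebraMap E E1)) ≫ e
      rw [CommRingCat.ofHom_id, Spec.map_id, Category.id_comp, ← Category.assoc, ← Spec.map_comp,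
        ← CommRingCat.ofHom_comp, ← IsScalarTower.algebraMap_eq])
    have ht : covMap (L := L) (extHom e E1) ≫ covMap (L := E1) e = t ≫ covMap (L := L) e :=
      MorphismProperty.Over.Hom.ext (by
        show Spec.map _ ≫ Spec.map (CommRingCat.ofHom (algebraMap E E1)) =
          Spec.map (CommRingCat.ofHom (RingHom.id L)) ≫ Spec.map (CommRingCat.ofHom (algebraMap E L))
        rw [CommRingCat.ofHom_id, Spec.map_id, Category.id_comp, ← Spec.map_comp, ← CommRingCat.ofHom_comp,
          ← IsScalarTower.algebraMap_eq])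
    rw [Ext.mk₀_comp_mk₀_assoc, ← fmap_comp, ht, fmap_comp, ← Ext.mk₀_comp_mk₀_assoc, hx, Ext.comp_zero]

theorem nsmul_index_eq_zero {F : EtCoh.Ab X} {q : ℕ}
    {E L : Type u} [Field E] [Field L] [Algebra E L] [FiniteDimensional E L] [IsGalois E L]
    (e : Spec (CommRingCat.of E) ⟶ X) [Etale e] [Etale (extHom e L)] (P : Subgroup Gal(L/E))
    [Etale (extHom e (IntermediateField.fixedField P))]
    (x : Ext (free (pt e)) F q)
    (hx : (Ext.mk₀ (fmap (covMap (L := IntermediateField.fixedField P) e))).comp x (zero_add q) = 0) :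
    P.index • x = 0 := by
  classical
  let E1 := IntermediateField.fixedField P
  haveI : Fintype (Gal(L/E) ⧸ P) := Fintype.ofFinite _
  let h := covMap (L := E1) e
  let inc : pt (extHom e L) ⟶ pt (extHom e E1) := ptMap (algebraMap E1 L) (by
    show Spec.map _ ≫ Spec.map (CommRingCat.ofHom (algebraMap E E1)) ≫ e = _
    rw [← Category.assoc, ← Spec.map_comp, ← CommRingCat.ofHom_comp, ← IsScalarTower.algebraMap_eq])
  have hinc : inc ≫ h = covMap (L := L) e := MorphismProperty.Over.Hom.ext (by
    show Spec.map _ ≫ Spec.map (CommRingCat.ofHom (algebraMap E E1)) = _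
    rw [← Spec.map_comp, ← CommRingCat.ofHom_comp, ← IsScalarTower.algebraMap_eq]
    rfl)
  let r : Gal(L/E) → (pt (extHom e L) ⟶ pt (extHom e E1)) := fun s => autMap e s ≫ inc
  have hr : ∀ s p, p ∈ P → r (s * p) = r s := fun s p hp => MorphismProperty.Over.Hom.ext (by
    show Spec.map _ ≫ Spec.map (CommRingCat.ofHom (algebraMap E1 L)) =
      Spec.map _ ≫ Spec.map (CommRingCat.ofHom (algebraMap E1 L))
    rw [← Spec.map_comp, ← Spec.map_comp, ← CommRingCat.ofHom_comp, ← CommRingCat.ofHom_comp]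
    refine congrArg (fun f => Spec.map (CommRingCat.ofHom f)) (RingHom.ext fun y => ?_)
    show (s * p) (y : L) = s (y : L)
    rw [AlgEquiv.mul_apply, y.2 ⟨p, hp⟩ |> fun hy => (show p (y : L) = y from hy)])
  have hfib : ∀ {Ω : Type u} [Field Ω] [IsSepClosed Ω] (ξ : Spec (CommRingCat.of Ω) ⟶ X) (t s : Gal(L/E))
      (a : Pts ξ (pt (extHom e L))), fib (r s) ξ (fib (autMap e t) ξ a) = fib (r (t * s)) ξ a := fun {Ω} _ _ ξ t s a => by
    show (Scheme.pointSmallEtale ξ).fiber.map (autMap e s ≫ inc) (fib (autMap e t) ξ a) =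
      (Scheme.pointSmallEtale ξ).fiber.map (autMap e (t * s) ≫ inc) a
    rw [Functor.map_comp, Functor.map_comp]
    exact congrArg ((Scheme.pointSmallEtale ξ).fiber.map inc) (fib_autMap_mul e ξ t s a).symm
  let φ : free (pt (extHom e L)) ⟶ free (pt (extHom e E1)) := ∑ c : Gal(L/E) ⧸ P, fmap (r (Quotient.out c))
  have hφ : ∀ {Ω : Type u} [Field Ω] [IsSepClosed Ω] (ξ : Spec (CommRingCat.of Ω) ⟶ X)
      (a : Pts ξ (pt (extHom e L))),
      ((EtCoh.stalk ξ).map φ).hom (br ξ a) = ∑ c : Gal(L/E) ⧸ P, br ξ (fib (r (Quotient.out c)) ξ a) := fun {Ω} _ _ ξ a => by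
    haveI := stalk_additive ξ
    let Φ : (free (pt (extHom e L)) ⟶ free (pt (extHom e E1))) →+ (EtCoh.stalk ξ).obj (free (pt (extHom e E1))) :=
      AddMonoidHom.mk' (fun f => ((EtCoh.stalk ξ).map f).hom (br ξ a)) (fun a b => by rw [Functor.map_add]; rfl)
    show Φ φ = _
    rw [map_sum]
    exact Finset.sum_congr rfl fun c _ => fmap_br ξ _ a
  obtain ⟨τ, hτ⟩ := exists_factor (covMap (L := L) e) (surj_covMap e) φ fun Ω _ _ ξ a b hab => by
    obtain ⟨t, rfl⟩ := exists_autMap_eq e ξ a b hab
    rw [hφ, hφ]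
    refine Eq.trans ?_ (Finset.sum_congr rfl fun c _ => congrArg (br ξ) (hfib ξ t _ a).symm)
    refine (Fintype.sum_equiv (MulAction.toPerm t) _ _ fun c => ?_).symm
    obtain ⟨p, hp⟩ := QuotientGroup.mk_out_eq_mul P (t * Quotient.out c)
    have hc : ((t * Quotient.out c : Gal(L/E)) : Gal(L/E) ⧸ P) = t • c :=
      congrArg (fun d : Gal(L/E) ⧸ P => t • d) (QuotientGroup.out_eq' c)
    show br ξ (fib (r (t * Quotient.out c)) ξ a) = br ξ (fib (r (Quotient.out (t • c))) ξ a)
    rw [← hc, hp, hr _ _ p.2]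
  have hdeg : τ ≫ fmap h = P.index • 𝟙 (free (pt e)) := by
    haveI := epi_fmap (covMap (L := L) e) (surj_covMap e)
    rw [← cancel_epi (fmap (covMap (L := L) e)), ← Category.assoc, hτ, Preadditive.comp_nsmul, Category.comp_id]
    refine (Preadditive.sum_comp _ _ _).trans ?_
    refine (Finset.sum_congr rfl fun c _ => show fmap (r (Quotient.out c)) ≫ fmap h = fmap (covMap (L := L) e) by
      rw [← fmap_comp]
      show fmap ((autMap e (Quotient.out c) ≫ inc) ≫ h) = _
      rw [Category.assoc, hinc]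
      refine congrArg fmap (MorphismProperty.Over.Hom.ext ?_)
      show Spec.map _ ≫ Spec.map (CommRingCat.ofHom (algebraMap E L)) = Spec.map (CommRingCat.ofHom (algebraMap E L))
      rw [← Spec.map_comp, ← CommRingCat.ofHom_comp]
      exact congrArg (fun r => Spec.map (CommRingCat.ofHom r)) (AlgHom.comp_algebraMap ((Quotient.out c : Gal(L/E)) : L →ₐ[E] L))).trans ?_
    rw [Finset.sum_const, Finset.card_univ, ← Nat.card_eq_fintype_card]
    rfl
  have h1 : (Ext.mk₀ (τ ≫ fmap h)).comp x (zero_add q) = 0 := by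
    rw [← Ext.mk₀_comp_mk₀_assoc, hx, Ext.comp_zero]
  rw [hdeg] at h1
  refine Eq.trans ?_ h1
  rw [show Ext.mk₀ (P.index • 𝟙 (free (pt e))) = P.index • Ext.mk₀ (𝟙 (free (pt e))) from
    map_nsmul (Ext.addEquiv₀.symm : (free (pt e) ⟶ free (pt e)) ≃+ _) _ _]
  refine Eq.trans ?_ (map_nsmul ((Ext.bilinearComp (free (pt e)) (free (pt e)) F 0 q q (zero_add q)).flip x)
    P.index (Ext.mk₀ (𝟙 _))).symm
  exact congrArg (P.index • ·) (Ext.mk₀_id_comp x).symm

/-- Every point over a field lifts to a finite Galois extension. -/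
theorem exists_galois_lift {E : Type u} [Field E] (e : Spec (CommRingCat.of E) ⟶ X) [Etale e]
    {V : X.Etale} (g : V ⟶ pt e) (v : V.left) :
    ∃ (L : Type u) (_ : Field L) (_ : Algebra E L) (_ : FiniteDimensional E L) (_ : IsGalois E L)
      (_ : Etale (extHom e L)) (a : pt (extHom e L) ⟶ V), a ≫ g = covMap e := by
  haveI : Etale g.left := EtFound.ConstVal.etale_left g
  obtain ⟨O, hO, hv, -⟩ := exists_isAffineOpen_mem_and_subset (U := (⊤ : V.left.Opens)) (x := v) trivial
  let Es := SeparableClosure E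
  haveI : IsSepClosed Es := inferInstance
  classical
  let sb := Spec.map (CommRingCat.ofHom (algebraMap E Es))
  obtain ⟨l, hl, hlv⟩ := Scheme.exists_fac_of_etale_of_isSepClosed g.left sb v (Subsingleton.elim (α := Spec (CommRingCat.of E)) _ _)
  have hlO : Set.range l ⊆ O := by
    rintro _ ⟨y, rfl⟩
    rw [Subsingleton.elim y default, hlv]
    exact hv
  let hBO := hO.isoSpec
  let f0 : Spec Γ(V.left, O) ⟶ Spec (CommRingCat.of E) := hBO.inv ≫ O.ι ≫ g.left
  haveI : Subsingleton (Spec (CommRingCat.of E)) := inferInstance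
  let χ := Spec.preimage (IsOpenImmersion.lift O.ι l (by rwa [Scheme.Opens.range_ι]) ≫ hBO.hom)
  let h := Spec.preimage f0
  have hfac : (Spec.map χ ≫ hBO.inv ≫ O.ι) = l := by
    rw [Spec.map_preimage, Category.assoc, Iso.hom_inv_id_assoc, IsOpenImmersion.lift_fac]
  have hχh : h ≫ χ = CommRingCat.ofHom (algebraMap E Es) := Spec.map_injective (by
    rw [Spec.map_comp]
    show Spec.map χ ≫ Spec.map h = _
    rw [show Spec.map h = hBO.inv ≫ O.ι ≫ g.left from Spec.map_preimage f0, ← Category.assoc hBO.inv,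
      ← Category.assoc, hfac]
    exact hl)
  haveI : LocallyOfFiniteType (Spec.map h) := by rw [Spec.map_preimage]; infer_instance
  have hft : h.hom.FiniteType := (HasRingHomProperty.Spec_iff (P := @LocallyOfFiniteType)).1 inferInstance
  algebraize [h.hom]
  let χA : Γ(V.left, O) →ₐ[E] Es :=
    { χ.hom with commutes' := fun r => ConcreteCategory.congr_hom hχh r }
  obtain ⟨S, hS⟩ := (show Algebra.FiniteType E Γ(V.left, O) from hft).out
  let K0 : IntermediateField E Es := IntermediateField.adjoin E ((S.image χA : Finset Es) : Set Es)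
  haveI : FiniteDimensional E K0 :=
    IntermediateField.finiteDimensional_adjoin fun y _ => Algebra.IsIntegral.isIntegral y
  let K : IntermediateField E Es := IntermediateField.normalClosure E K0 Es
  haveI : IsGalois E K := IsGalois.normalClosure E K0 Es
  have hmem : ∀ b, χA b ∈ K := by
    have : χA.range ≤ K.toSubalgebra := by
      rw [← Algebra.map_top, ← hS, AlgHom.map_adjoin, Algebra.adjoin_le_iff]
      rintro _ ⟨b, hb, rfl⟩
      exact IntermediateField.le_normalClosure K0
        (IntermediateField.subset_adjoin E _ (Finset.mem_coe.2 (Finset.mem_image_of_mem _ hb)))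
    exact fun b => this ⟨b, rfl⟩
  let χK : Γ(V.left, O) →ₐ[E] K := χA.codRestrict K.toSubalgebra hmem
  haveI : Etale (extHom e K) := etale_extHom e
  have hK : h ≫ CommRingCat.ofHom χK.toRingHom = CommRingCat.ofHom (algebraMap E K) :=
    CommRingCat.hom_ext (RingHom.ext fun r => χK.commutes r)
  let m : Spec (CommRingCat.of K) ⟶ V.left := Spec.map (CommRingCat.ofHom χK.toRingHom) ≫ hBO.inv ≫ O.ι
  have hm : m ≫ g.left = Spec.map (CommRingCat.ofHom (algebraMap E K)) := by
    show (Spec.map (CommRingCat.ofHom χK.toRingHom) ≫ hBO.inv ≫ O.ι) ≫ g.left = _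
    rw [Category.assoc, Category.assoc, ← hK, Spec.map_comp, Spec.map_preimage]
  refine ⟨K, inferInstance, inferInstance, inferInstance, inferInstance, inferInstance,
    MorphismProperty.Over.homMk m ?_ trivial, MorphismProperty.Over.Hom.ext hm⟩
  show m ≫ V.hom = Spec.map (CommRingCat.ofHom (algebraMap E K)) ≫ e
  rw [← MorphismProperty.Over.w g, ← hm, Category.assoc]
  rfl

theorem vanish {F : EtCoh.Ab X} (hF : CyclicHyp F) (q : ℕ) : VanishBelow F q := by
  induction q with
  | zero => exact fun n _ h => absurd h (Nat.not_lt_zero n)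
  | succ q ih =>
    intro n h1 h2 E _ e _
    rcases Nat.lt_succ_iff_lt_or_eq.1 h2 with h | rfl
    · exact ih n h1 h E e
    obtain ⟨r, rfl⟩ : ∃ r, n = r + 1 := ⟨n - 1, by omega⟩
    refine subsingleton_of_forall_eq 0 fun x => ?_
    obtain ⟨V, g, v, -, hx⟩ := exists_efface r F (pt e) x (default : Spec (CommRingCat.of E))
    obtain ⟨L, _, _, _, _, _, a, ha⟩ := exists_galois_lift e g v
    have hL : (Ext.mk₀ (fmap (covMap (L := L) e))).comp x (zero_add (r + 1)) = 0 := by
      rw [← ha, fmap_comp, ← Ext.mk₀_comp_mk₀_assoc, hx, Ext.comp_zero]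
    have hP : ∀ (l : ℕ), l.Prime → ∃ m, ¬ l ∣ m ∧ m • x = 0 := fun l hl => by
      haveI := Fact.mk hl
      let P : Sylow l Gal(L/E) := Classical.arbitrary _
      let E1 := IntermediateField.fixedField (P : Subgroup Gal(L/E))
      haveI : Etale (extHom e E1) := etale_extHom e
      haveI : Etale (extHom (extHom e E1) L) := etale_extHom _
      obtain ⟨k, hk⟩ := IsPGroup.iff_card.1 P.isPGroup'
      refine ⟨(P : Subgroup Gal(L/E)).index, P.not_dvd_index, nsmul_index_eq_zero e _ x ?_⟩
      refine eq_zero_of_pGroup hF h1 ih hl k E1 L (extHom e E1)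
        (by rw [IsGalois.card_aut_eq_finrank, IntermediateField.finrank_fixedField_eq_card, hk]) _ ?_
      let t : pt (extHom (extHom e E1) L) ⟶ pt (extHom e L) := ptMap (RingHom.id L) (by
        show Spec.map _ ≫ Spec.map (CommRingCat.ofHom (algebraMap E L)) ≫ e =
          Spec.map _ ≫ Spec.map (CommRingCat.ofHom (algebraMap E E1)) ≫ e
        rw [CommRingCat.ofHom_id, Spec.map_id, Category.id_comp, ← Category.assoc, ← Spec.map_comp,
          ← CommRingCat.ofHom_comp, ← IsScalarTower.algebraMap_eq])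
      have ht : covMap (L := L) (extHom e E1) ≫ covMap (L := E1) e = t ≫ covMap (L := L) e :=
        MorphismProperty.Over.Hom.ext (by
          show Spec.map _ ≫ Spec.map (CommRingCat.ofHom (algebraMap E E1)) =
            Spec.map (CommRingCat.ofHom (RingHom.id L)) ≫ Spec.map (CommRingCat.ofHom (algebraMap E L))
          rw [CommRingCat.ofHom_id, Spec.map_id, Category.id_comp, ← Spec.map_comp, ← CommRingCat.ofHom_comp,
            ← IsScalarTower.algebraMap_eq])
      rw [Ext.mk₀_comp_mk₀_assoc, ← fmap_comp, ht, fmap_comp, ← Ext.mk₀_comp_mk₀_assoc, hL, Ext.comp_zero]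
    by_contra hx0
    by_cases hd : addOrderOf x = 1
    · exact hx0 (AddMonoid.addOrderOf_eq_one_iff.1 hd)
    obtain ⟨l, hl, hld⟩ := Nat.exists_prime_and_dvd hd
    obtain ⟨m, hm, hmx⟩ := hP l hl
    exact hm (hld.trans (addOrderOf_dvd_of_nsmul_eq_zero hmx))

/-- Positive degree cohomology of étale points vanishes. -/
theorem subsingleton_ext {F : EtCoh.Ab X} (hF : CyclicHyp F) (q : ℕ) (hq : 1 ≤ q) {E : Type u} [Field E]
    (e : Spec (CommRingCat.of E) ⟶ X) [Etale e] : Subsingleton (Ext (free (pt e)) F q) :=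
  vanish hF (q + 1) q hq (Nat.lt_succ_self q) E e

end Groth.Agent.CurveCd
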